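import Cfsg.Agent.Lib.RankOneChar.Split

/-!
# The splittings of the nilpotent group `Q` by sets of primes
-/

set_option autoImplicit false
set_option linter.unusedSectionVars false
set_option linter.style.haveILetI false

namespace Cfsg.Agent.RankOneChar

open Cfsg Cfsg.Agent.RankOne MulAction

universe u v

/-- All prime divisors of the order lie in `π`. -/
def PiElt {G : Type u} [Group G] (π : Set ℕ) (x : G) : Prop :=
  ∀ r : ℕ, r.Prime → r ∣ orderOf x → r ∈ π

theorem exists_components {K : Type u} [Group K] [Finite K] [Group.IsNilpotent K] :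
    ∃ (ι : Type) (pr : ι → ℕ) (M : ι → Type u) (_ : ∀ i, Group (M i)) (e : K ≃* ∀ i, M i),
      Function.Injective pr ∧ ∀ (x : K) (i : ι), e x i ≠ 1 → (pr i).Prime ∧ pr i ∣ orderOf x ∧
        ∀ r : ℕ, r.Prime → r ∣ orderOf (e x i) → r = pr i := by
  classical
  have hn : ∀ {p : ℕ} [Fact p.Prime] (P : Sylow p K), (P : Subgroup K).Normal := fun P =>
    Sylow.normal_of_normalizerCondition normalizerCondition_of_isNilpotent P
  obtain ⟨e⟩ : Nonempty (K ≃* ∀ p : (Nat.card K).primeFactors, ∀ P : Sylow p.1 K, (P : Subgroup K)) :=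
    ⟨(Sylow.directProductOfNormal hn).symm⟩
  refine ⟨(Nat.card K).primeFactors, fun i => i.1,
    fun p => ∀ P : Sylow p.1 K, (P : Subgroup K), fun _ => inferInstance,
    e, fun i j h => Subtype.ext h, fun x i hi => ?_⟩
  set y := e x i
  have hp : i.1.Prime := Nat.prime_of_mem_primeFactors i.2
  haveI := Fact.mk hp
  obtain ⟨P, hP⟩ : ∃ P, y P ≠ 1 := Function.ne_iff.1 hi
  obtain ⟨k, hk⟩ := IsPGroup.iff_orderOf.1 (P : Sylow i.1 K).isPGroup' (y P)
  have hd1 : orderOf (y P) ∣ orderOf x := by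
    refine (orderOf_map_dvd (Pi.evalMonoidHom _ P) y).trans ?_
    refine (orderOf_map_dvd (Pi.evalMonoidHom _ i) (e x)).trans ?_
    rw [MulEquiv.orderOf_eq]
  have hk0 : k ≠ 0 := fun e => hP (orderOf_eq_one_iff.1 (by rw [hk, e, pow_zero]))
  refine ⟨hp, (dvd_pow_self _ hk0).trans (hk ▸ hd1), fun r hr hrd => ?_⟩
  have hy : IsPGroup i.1 (∀ P : Sylow i.1 K, (P : Subgroup K)) := fun z => by
    haveI := Sylow.unique_of_normal P (hn P)
    obtain ⟨m, hm⟩ := P.isPGroup' (z P)
    exact ⟨m, funext fun R => by obtain rfl := Subsingleton.elim R P; exact hm⟩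
  obtain ⟨m, hm⟩ := IsPGroup.iff_orderOf.1 hy y
  rw [hm] at hrd
  exact (Nat.prime_dvd_prime_iff_eq hr hp).1 (hr.dvd_of_dvd_pow hrd)

section nilpotent

variable {K : Type u} [Group K] [Finite K] [Group.IsNilpotent K]

theorem piElt_mul {π : Set ℕ} {x y : K} (hx : PiElt π x) (hy : PiElt π y) : PiElt π (x * y) := by
  classical
  obtain ⟨ι, pr, M, _, e, -, he⟩ := exists_components (K := K)
  have hcomp : ∀ z : K, PiElt π z → ∀ i, pr i ∉ π → e z i = 1 := fun z hz i hi => by
    by_contra h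
    exact hi (hz _ (he z i h).1 (he z i h).2.1)
  intro r hr hrd
  by_contra hrπ
  set z := x * y with hz
  set w := z ^ (orderOf z / r) with hw
  have how : orderOf w = r := by
    rw [hw, orderOf_pow_of_dvd (Nat.div_pos (Nat.le_of_dvd (orderOf_pos z) hrd) hr.pos).ne'
      (Nat.div_dvd_of_dvd hrd), Nat.div_div_self hrd (orderOf_pos z).ne']
  have hw1 : w = 1 := by
    refine e.injective (funext fun i => ?_)
    rw [map_one, Pi.one_apply]
    by_contra hne
    obtain ⟨hp, hdvd, -⟩ := he w i hne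
    rw [how, Nat.prime_dvd_prime_iff_eq hp hr] at hdvd
    refine hne ?_
    have hz1 : e z i = 1 := by
      rw [hz, map_mul, Pi.mul_apply, hcomp x hx i (hdvd ▸ hrπ), hcomp y hy i (hdvd ▸ hrπ), one_mul]
    rw [hw, map_pow, Pi.pow_apply, hz1, one_pow]
  rw [hw1, orderOf_one] at how
  exact hr.one_lt.ne how

theorem piElt_decomp (π : Set ℕ) (x : K) : ∃ y z : K, PiElt π y ∧ PiElt πᶜ z ∧ x = y * z := by
  classical
  obtain ⟨ι, pr, M, _, e, -, he⟩ := exists_components (K := K)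
  have hset : ∀ (S : Set ι) (σ : Set ℕ), (∀ i ∈ S, pr i ∈ σ) →
      PiElt σ (e.symm fun i => if i ∈ S then e x i else 1) := by
    intro S σ hS r hr hrd
    set f : ∀ i, M i := fun i => if i ∈ S then e x i else 1
    set z := e.symm f with hz
    set w := z ^ (orderOf z / r) with hw
    have how : orderOf w = r := by
      rw [hw, orderOf_pow_of_dvd (Nat.div_pos (Nat.le_of_dvd (orderOf_pos z) hrd) hr.pos).ne'
        (Nat.div_dvd_of_dvd hrd), Nat.div_div_self hrd (orderOf_pos z).ne']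
    obtain ⟨i, hi⟩ : ∃ i, e w i ≠ 1 := by
      by_contra hall
      push Not at hall
      have : w = 1 := e.injective (funext fun i => by rw [map_one, Pi.one_apply]; exact hall i)
      rw [this, orderOf_one] at how
      exact hr.one_lt.ne how
    obtain ⟨hp, hdvd, -⟩ := he w i hi
    rw [how, Nat.prime_dvd_prime_iff_eq hp hr] at hdvd
    rw [← hdvd]
    refine hS i ?_
    by_contra hiS
    refine hi ?_
    rw [hw, map_pow, Pi.pow_apply, hz, MulEquiv.apply_symm_apply]
    simp [f, hiS]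
  refine ⟨_, _, hset {i | pr i ∈ π} π fun i hi => hi, hset {i | pr i ∉ π} πᶜ fun i hi => hi,
    e.injective ?_⟩
  rw [map_mul, MulEquiv.apply_symm_apply, MulEquiv.apply_symm_apply]
  funext i
  by_cases h : pr i ∈ π <;> simp [h]

theorem piElt_commute {π : Set ℕ} {x y : K} (hx : PiElt π x) (hy : PiElt πᶜ y) : x * y = y * x := by
  obtain ⟨ι, pr, M, _, e, -, he⟩ := exists_components (K := K)
  refine e.injective (funext fun i => ?_)
  rw [map_mul, map_mul, Pi.mul_apply, Pi.mul_apply]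
  by_cases h : pr i ∈ π
  · rw [show e y i = 1 from by
      by_contra hne; exact hy _ (he y i hne).1 (he y i hne).2.1 h, mul_one, one_mul]
  · rw [show e x i = 1 from by
      by_contra hne; exact h (hx _ (he x i hne).1 (he x i hne).2.1), mul_one, one_mul]

end nilpotent

variable {G : Type u} [Group G] [Finite G]

/-- The `π`-elements of a nilpotent subgroup. -/
def hallPart (Q : Subgroup G) (hQ : Group.IsNilpotent Q) (π : Set ℕ) : Subgroup G where
  carrier := {x | x ∈ Q ∧ PiElt π x}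
  one_mem' := ⟨one_mem Q, fun r hr h => by
    rw [orderOf_one] at h
    exact absurd (Nat.dvd_one.1 h) hr.one_lt.ne'⟩
  mul_mem' := fun {x y} hx hy => ⟨mul_mem hx.1 hy.1, by
    haveI := hQ
    have h := piElt_mul (K := Q) (x := ⟨x, hx.1⟩) (y := ⟨y, hy.1⟩)
      (fun r hr hd => hx.2 r hr (by rwa [← Subgroup.orderOf_coe] at hd))
      (fun r hr hd => hy.2 r hr (by rwa [← Subgroup.orderOf_coe] at hd))
    exact fun r hr hd => h r hr (by rwa [← Subgroup.orderOf_coe])⟩
  inv_mem' := fun {x} hx => ⟨inv_mem hx.1, fun r hr h => hx.2 r hr (by rwa [orderOf_inv] at h)⟩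

theorem mem_hallPart {Q : Subgroup G} {hQ : Group.IsNilpotent Q} {π : Set ℕ} {x : G} :
    x ∈ hallPart Q hQ π ↔ x ∈ Q ∧ PiElt π x := Iff.rfl

theorem prime_dvd_card_hallPart {Q : Subgroup G} {hQ : Group.IsNilpotent Q} {π : Set ℕ} {r : ℕ}
    (hr : r.Prime) (hd : r ∣ Nat.card (hallPart Q hQ π)) : r ∈ π := by
  haveI := Fact.mk hr
  obtain ⟨x, hx⟩ := exists_prime_orderOf_dvd_card' r hd
  exact x.2.2 r hr (by rw [Subgroup.orderOf_coe, hx])

theorem odd_hallPart {Q : Subgroup G} {hQ : Group.IsNilpotent Q} {π : Set ℕ} (h2 : 2 ∉ π) :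
    Odd (Nat.card (hallPart Q hQ π)) := by
  rw [← Nat.not_even_iff_odd, even_iff_two_dvd]
  exact fun h => h2 (prime_dvd_card_hallPart Nat.prime_two h)

variable {Ω : Type v} [MulAction G Ω] {a : Ω} {t : G} {Q : Subgroup G}

/-- The splitting of `Q` by a set of odd primes. -/
theorem split_hall (hS : IsRankOneSetup G Ω a t Q) (hQ : Group.IsNilpotent Q) {π : Set ℕ}
    (h2 : 2 ∉ π) (hne : ∃ r ∈ π, r.Prime ∧ r ∣ Nat.card Q) :
    Split a Q (hallPart Q hQ π) (hallPart Q hQ πᶜ) where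
  P_le _ h := h.1
  T_le _ h := h.1
  comm x hx y hy := by
    haveI := hQ
    exact congrArg Subtype.val (piElt_commute (K := Q) (π := π) (x := ⟨x, hx.1⟩) (y := ⟨y, hy.1⟩)
      (fun r hr hd => hx.2 r hr (by rwa [← Subgroup.orderOf_coe] at hd))
      (fun r hr hd => hy.2 r hr (by rwa [← Subgroup.orderOf_coe] at hd)))
  disj := by
    rw [eq_bot_iff]
    intro x hx
    obtain ⟨h1, h3⟩ := Subgroup.mem_inf.1 hx
    rw [Subgroup.mem_bot]
    by_contra hne
    obtain ⟨r, hr, hd⟩ := Nat.exists_prime_and_dvd fun h => hne (orderOf_eq_one_iff.1 h)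
    exact h3.2 r hr hd (h1.2 r hr hd)
  cover q hq := by
    haveI := hQ
    obtain ⟨y, z, hy, hz, e⟩ := piElt_decomp π (⟨q, hq⟩ : Q)
    exact ⟨y, ⟨y.2, fun r hr hd => hy r hr (by rwa [← Subgroup.orderOf_coe])⟩, z,
      ⟨z.2, fun r hr hd => hz r hr (by rwa [← Subgroup.orderOf_coe])⟩, congrArg Subtype.val e⟩
  P_conj h hh x hx := ⟨hS.conj_mem h hh x hx.1, fun r hr hd => hx.2 r hr (by
    rwa [← MulAut.conj_apply, MulEquiv.orderOf_eq] at hd)⟩
  T_conj h hh x hx := ⟨hS.conj_mem h hh x hx.1, fun r hr hd => hx.2 r hr (by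
    rwa [← MulAut.conj_apply, MulEquiv.orderOf_eq] at hd)⟩
  odd_P := odd_hallPart h2
  P_ne := by
    obtain ⟨r, hrπ, hr, hd⟩ := hne
    haveI := Fact.mk hr
    obtain ⟨x, hx⟩ := exists_prime_orderOf_dvd_card' r hd
    intro hbot
    have h : (x : G) ∈ hallPart Q hQ π := ⟨x.2, fun s hs hsd => by
      rw [Subgroup.orderOf_coe, hx, Nat.prime_dvd_prime_iff_eq hs hr] at hsd
      exact hsd ▸ hrπ⟩
    rw [hbot, Subgroup.mem_bot] at h
    have : x = 1 := Subtype.ext h
    rw [this, orderOf_one] at hx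
    exact hr.one_lt.ne hx
  invol_mem s hs := ⟨invol_mem_Q hS ⟨hs.2.1, hs.2.2⟩ hs.1, fun r hr hd hrπ => h2 (by
    have ho : orderOf s = 2 := IsInvol.orderOf (u := s) ⟨hs.2.1, hs.2.2⟩
    rw [ho, Nat.prime_dvd_prime_iff_eq hr Nat.prime_two] at hd
    exact hd ▸ hrπ)⟩

theorem isPGroup_hallPart (hQ : Group.IsNilpotent Q) {p : ℕ} (hp : p.Prime) :
    IsPGroup p (hallPart Q hQ {p}) := by
  haveI := Fact.mk hp
  refine IsPGroup.iff_orderOf.2 fun x => ⟨(orderOf x).factorization p, ?_⟩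
  have h : ∀ r : ℕ, r.Prime → r ∣ orderOf x → r = p := fun r hr hd =>
    x.2.2 r hr (by rwa [Subgroup.orderOf_coe])
  have e := Nat.eq_prime_pow_of_unique_prime_dvd (orderOf_pos x).ne' (fun {d} => h d)
  conv_rhs => rw [e, hp.factorization_pow, Finsupp.single_eq_same]
  exact e

theorem not_dvd_card_hallPart_compl (hQ : Group.IsNilpotent Q) {p : ℕ} (hp : p.Prime) :
    ¬ p ∣ Nat.card (hallPart Q hQ {p}ᶜ) := fun h => prime_dvd_card_hallPart hp h rfl

end Cfsg.Agent.RankOneChar
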