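import Cfsg.Agent.Lib.RankOneChar.ResidualBlock
import Cfsg.Agent.Lib.RankOne.SylowTwo
import Cfsg.Agent.Lib.Suzuki2.Structure

/-!
# A twist excludes an odd part of `Q`
-/

set_option autoImplicit false
set_option linter.unusedSectionVars false
set_option linter.style.haveILetI false

namespace Cfsg.Agent.RankOneChar

open Cfsg Cfsg.Agent.Char Cfsg.Agent.CharX Cfsg.Agent.RankOne MulAction
open scoped ComplexConjugate commutatorElement

universe u v

variable {G : Type u} {Ω : Type v} [Group G] [Fintype G] [MulAction G Ω] {a : Ω} {t : G}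
  {Q P T : Subgroup G} {hS : IsRankOneSetup G Ω a t Q}

variable (h2 : ∃ x y : G, x ≠ 1 ∧ y ≠ 1 ∧ x ≠ y ∧ x * x = 1 ∧ y * y = 1 ∧ x * y = y * x)
include h2

/-- A good constituent is not constant on `Q`. -/
theorem Good.not_const {sp : Split a Q P T} {A : IrrCharacter G} (hA : Good hS sp A)
    (hno : ∀ L : Subgroup G, L.Normal → t ∈ L → L = ⊤) :
    ¬ ∀ q : Q, (A : G → ℂ) q = (A : G → ℂ) 1 := by
  classical
  intro hconst
  have h1 : (A : G → ℂ) 1 = 1 := by
    have h := hA.one
    rw [show (fun q : Q => (A : G → ℂ) q) = ((A : G → ℂ) 1) • lv (1 : Q →* ℂˣ) from funext fun q => by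
      simp [lv, hconst q], classInner_smul_left, classInner_lv, if_pos rfl, mul_one] at h
    exact h
  obtain ⟨f, hf⟩ := exists_hom_of_degree_one (IsIrrCharacter.isCharacter A.2) h1
  obtain ⟨s, -, hs, -, -⟩ := two_invol_fixing hS h2
  obtain ⟨hsi, hsa⟩ := (mem_involutionsIn hS).1 hs
  have hsk : s ∈ f.ker := by
    refine MonoidHom.mem_ker.2 (Units.ext ?_)
    have h := hconst ⟨s, invol_mem_Q hS hsi hsa⟩
    rw [h1, hf] at h
    exact h
  obtain ⟨g, hg⟩ := all_conj hS hsi (t_invol hS)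
  have htk : t ∈ f.ker := hg ▸ (inferInstance : f.ker.Normal).conj_mem s hsk g
  have htop := hno f.ker inferInstance htk
  refine hA.ne_one (Subtype.ext ?_)
  rw [hf]
  funext g
  show ((f g : ℂˣ) : ℂ) = 1
  rw [MonoidHom.mem_ker.1 (htop ▸ Subgroup.mem_top g), Units.val_one]

/-- The Sylow `2`-part is abelian or a Suzuki `2`-group. -/
theorem suzuki_facts (hS : IsRankOneSetup G Ω a t Q) (sp : Split a Q P T) (hT2 : IsPGroup 2 T)
    (hna : ∃ x y : T, x * y ≠ y * x) :
    Nat.card T ≤ Nat.card (invSub hS h2) ^ 3 ∧ ∀ x y : T, ((⁅x, y⁆ : T) : G) ∈ invSub hS h2 := by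
  classical
  haveI := Fact.mk Nat.prime_two
  have hidx : ¬ 2 ∣ (T.subgroupOf Q).index := by
    have h := Subgroup.card_mul_index (T.subgroupOf Q)
    rw [Nat.card_congr (Subgroup.subgroupOfEquivOfLe sp.T_le).toEquiv, sp.card_eq, mul_comm (Nat.card P)] at h
    rw [Nat.eq_of_mul_eq_mul_left Nat.card_pos h]
    exact sp.odd_P.not_two_dvd_nat
  set S' : Sylow 2 Q := (hT2.comap_subtype (K := Q) : IsPGroup 2 (T.subgroupOf Q)).toSylow hidx with hS'
  let e : (S' : Subgroup Q) ≃* T := Subgroup.subgroupOfEquivOfLe sp.T_le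
  obtain ⟨x₀, y₀, hxy⟩ := hna
  have hna' : ∃ x y : (S' : Subgroup Q), x * y ≠ y * x := ⟨e.symm x₀, e.symm y₀, fun h => hxy (by
    rw [← e.apply_symm_apply x₀, ← e.apply_symm_apply y₀, ← map_mul, h, map_mul])⟩
  have hsz : Cfsg.IsSuzukiTwoGroup ↥(S' : Subgroup ↥Q) := by
    refine (sylow_two_abelian_or_suzuki hS h2 S').resolve_left fun h => ?_
    obtain ⟨x, y, h'⟩ := hna'
    exact h' (h.is_comm.comm x y)
  obtain ⟨D, -⟩ := Suzuki2.exists_datum hsz
  have hV : ∀ x : (S' : Subgroup Q), x ∈ D.V ↔ ((e x : T) : G) ∈ invSub hS h2 := by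
    intro x
    rw [D.mem_V, mem_invSub]
    constructor
    · intro h
      rcases eq_or_ne x 1 with rfl | hx
      · left; rw [map_one]; rfl
      · refine Or.inr ⟨hS.le (sp.T_le (e x).2), fun h1 => hx (e.injective ?_), ?_⟩
        · rw [map_one]; exact Subtype.ext h1
        · exact congrArg Subtype.val (show e x * e x = 1 by rw [← map_mul, h, map_one])
    · intro h
      refine e.injective ?_
      rw [map_mul, map_one]
      refine Subtype.ext ?_
      rcases h with h | h
      · show ((e x : T) : G) * (e x : T) = 1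
        rw [h, mul_one]
      · exact h.2.2
  refine ⟨?_, fun x y => ?_⟩
  · have hle : Nat.card D.V ≤ Nat.card (invSub hS h2) :=
      Nat.card_le_card_of_injective (fun x : D.V => (⟨_, (hV x.1).1 x.2⟩ : invSub hS h2)) fun x y h => by
        have h' := congrArg Subtype.val h
        exact Subtype.ext (e.injective (Subtype.ext h'))
    have hpos : 1 ≤ Nat.card D.V := Nat.card_pos
    rw [← Nat.card_congr e.toEquiv]
    rcases D.card_eq hna' with h | h
    · rw [h]
      exact (Nat.pow_le_pow_right hpos (by norm_num : 2 ≤ 3)).trans (Nat.pow_le_pow_left hle 3)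
    · rw [h]
      exact Nat.pow_le_pow_left hle 3
  · have h := (hV _).1 (D.comm_mem_V hna' (e.symm x) (e.symm y))
    rw [map_mul, map_mul, map_mul, map_inv, map_inv, e.apply_symm_apply, e.apply_symm_apply] at h
    exact h

omit h2 in
/-- The degree of a character constant on the cosets of `T` off `T` divides `|Q| + 1`. -/
theorem dvd_card_add_one (hS : IsRankOneSetup G Ω a t Q) (sp : Split a Q P T) (A : IrrCharacter G)
    {d : ℕ} (hd : (A : G → ℂ) 1 = d) (hd0 : d ≠ 0)
    (hsum : ∑ s : T, (A : G → ℂ) s = Nat.card T) (hco : d.Coprime (Nat.card T)) :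
    d ∣ Nat.card Q + 1 := by
  classical
  haveI := finite_points hS
  haveI : Fintype Ω := Fintype.ofFinite Ω
  haveI := pretransitive hS
  choose g hg using fun c : Ω => exists_smul_eq G a c
  have hAc := IsCharacter.isClassFunction (IsIrrCharacter.isCharacter A.2)
  let f : Ω × {s : T // s ≠ 1} → G := fun p => g p.1 * (p.2.1 : G) * (g p.1)⁻¹
  have hinj : Function.Injective f := by
    rintro ⟨c, s⟩ ⟨c', s'⟩ h
    have hfix : (f (c', s')) • c = c := by
      rw [← h]
      show (g c * (s.1 : G) * (g c)⁻¹) • c = c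
      rw [mul_smul, mul_smul, inv_smul_eq_iff.2 (hg c).symm, smul_a hS (sp.T_le s.1.2), hg]
    have hc : c = c' := by
      have h1 : (s'.1 : G) • ((g c')⁻¹ • c) = (g c')⁻¹ • c := by
        have h3 : (g c' * (s'.1 : G) * (g c')⁻¹) • c = c := hfix
        rw [mul_smul, mul_smul] at h3
        exact eq_inv_smul_iff.2 h3
      have h3 := eq_a_of_fixed hS (sp.T_le s'.1.2) (fun e => s'.2 (Subtype.ext e)) h1
      rw [inv_smul_eq_iff, hg] at h3
      exact h3
    subst hc
    have h' : g c * (s.1 : G) * (g c)⁻¹ = g c * (s'.1 : G) * (g c)⁻¹ := h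
    rw [Subtype.ext (Subtype.ext (mul_left_cancel (mul_right_cancel h'))) (a1 := s) (a2 := s')]
  set U : Finset G := Finset.univ.image f with hU
  have hUconj : ∀ x ∈ U, ∀ h : G, h * x * h⁻¹ ∈ U := by
    intro x hx h
    obtain ⟨⟨c, s⟩, -, rfl⟩ := Finset.mem_image.1 hx
    set c' := h • c
    set k := (g c')⁻¹ * h * g c with hk
    have hka : k • a = a := by
      rw [hk, mul_smul, mul_smul, hg, inv_smul_eq_iff, hg]
    have hks : k * (s.1 : G) * k⁻¹ ∈ T := sp.T_conj k hka _ s.1.2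
    refine Finset.mem_image.2 ⟨(c', ⟨⟨_, hks⟩, fun e => s.2 ?_⟩), Finset.mem_univ _, ?_⟩
    · refine Subtype.ext ?_
      have e' : k * (s.1 : G) * k⁻¹ = 1 := congrArg Subtype.val e
      exact mul_left_cancel (a := k) (by rw [OneMemClass.coe_one, mul_one]; exact mul_inv_eq_one.1 e')
    · show g c' * (k * (s.1 : G) * k⁻¹) * (g c')⁻¹ = h * (g c * (s.1 : G) * (g c)⁻¹) * h⁻¹
      rw [hk]; group
  -- the sum over the union of the conjugates
  have hU1 : ∑ x ∈ U, (A : G → ℂ) x = ((Nat.card Q + 1 : ℕ) : ℂ) * ((Nat.card T : ℂ) - d) := by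
    rw [hU, Finset.sum_image fun x _ y _ h => hinj h, Fintype.sum_prod_type]
    have e : ∀ c : Ω, ∑ s : {s : T // s ≠ 1}, (A : G → ℂ) (f (c, s)) = (Nat.card T : ℂ) - d := by
      intro c
      have e1 : ∀ s : {s : T // s ≠ 1}, (A : G → ℂ) (f (c, s)) = (A : G → ℂ) (s.1 : G) :=
        fun s => hAc _ _
      rw [Finset.sum_congr rfl fun s _ => e1 s, ← Finset.sum_subtype (Finset.univ.erase (1 : T)) (by simp)
        (fun s : T => (A : G → ℂ) s), Finset.sum_erase_eq_sub (Finset.mem_univ _), hsum, OneMemClass.coe_one, hd]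
    rw [Finset.sum_congr rfl fun c _ => e c, Finset.sum_const, Finset.card_univ, ← Nat.card_eq_fintype_card,
      card_points hS, nsmul_eq_mul]
  have hint : IsIntegral ℤ ((∑ x ∈ U, (A : G → ℂ) x) / (A : G → ℂ) 1) := by
    haveI : Fintype (ConjClasses G) := Fintype.ofFinite _
    rw [← Finset.sum_fiberwise U (fun x => ConjClasses.mk x) (A : G → ℂ), Finset.sum_div]
    refine IsIntegral.sum _ fun C _ => ?_
    by_cases hC : ∃ x ∈ U, ConjClasses.mk x = C
    · obtain ⟨x, hx, rfl⟩ := hC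
      have e : U.filter (fun y => ConjClasses.mk y = ConjClasses.mk x) = classFinset x := by
        ext y
        rw [Finset.mem_filter, mem_classFinset, ConjClasses.mk_eq_mk_iff_isConj]
        refine ⟨fun h => h.2.symm, fun h => ⟨?_, h.symm⟩⟩
        obtain ⟨c, rfl⟩ := isConj_iff.1 h
        exact hUconj x hx c
      rw [e, sum_char_class hAc]
      exact IsIrrCharacter.isIntegral_centralChar A.2 x
    · rw [Finset.filter_false_of_mem fun y hy h => hC ⟨y, hy, h⟩, Finset.sum_empty, zero_div]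
      exact isIntegral_zero
  rw [hU1, hd] at hint
  have hint' : IsIntegral ℤ ((((Nat.card Q + 1) * Nat.card T : ℕ) : ℂ) / d) := by
    have hd0' : (d : ℂ) ≠ 0 := Nat.cast_ne_zero.2 hd0
    have e : (((Nat.card Q + 1) * Nat.card T : ℕ) : ℂ) / d =
        ((Nat.card Q + 1 : ℕ) : ℂ) * ((Nat.card T : ℂ) - d) / d + ((Nat.card Q + 1 : ℕ) : ℂ) := by
      rw [Nat.cast_mul, div_add' _ _ _ hd0']
      congr 1
      ring
    rw [e]
    refine hint.add ?_
    have h := isIntegral_algebraMap (R := ℤ) (A := ℂ) (x := ((Nat.card Q + 1 : ℕ) : ℤ))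
    simpa using h
  exact hco.dvd_of_dvd_mul_right (dvd_of_isIntegral_div hd0 hint')

variable {l : ℕ} (tw : Twist hS l)
include tw

/-- The odd part is abelian if it is small. -/
theorem Twist.commutator_small (sp : Split a Q P T) (hsmall : Nat.card P ≤ 2 * Nat.card (twoStab a t))
    (x y : P) : x * y = y * x := by
  classical
  by_contra hxy
  set D₀ := tw.φ.ker with hD₀
  set C : Subgroup G := (commutator P).map P.subtype with hC
  have hCP : C ≤ P := Subgroup.map_subtype_le _
  have hconj : ∀ d : twoStab a t, ∀ z ∈ C, (d : G) * z * (d : G)⁻¹ ∈ C := by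
    intro d z hz
    have e : C = ⁅P, P⁆ := by rw [hC, commutator_def, Subgroup.map_commutator, ← MonoidHom.range_eq_map, Subgroup.range_subtype]
    rw [e] at hz ⊢
    have hmap : (P.map (MulAut.conj (d : G)).toMonoidHom) ≤ P := by
      rintro _ ⟨w, hw, rfl⟩
      exact sp.P_conj _ (Subgroup.mem_inf.1 d.2).1 _ hw
    have h := Subgroup.mem_map_of_mem (MulAut.conj (d : G)).toMonoidHom hz
    rw [Subgroup.map_commutator] at h
    exact Subgroup.commutator_mono hmap hmap h
  let X := {z : C // z ≠ 1}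
  letI : MulAction D₀ X :=
    { smul := fun d z => ⟨⟨((d : twoStab a t) : G) * z.1 * ((d : twoStab a t) : G)⁻¹, hconj d _ z.1.2⟩, fun e => z.2 (by
        have e' : ((d : twoStab a t) : G) * z.1 * ((d : twoStab a t) : G)⁻¹ = 1 := congrArg Subtype.val e
        refine Subtype.ext (mul_left_cancel (a := ((d : twoStab a t) : G)) ?_)
        rw [OneMemClass.coe_one, mul_one]
        exact mul_inv_eq_one.1 e')⟩
      one_smul := fun z => Subtype.ext (Subtype.ext (show (1 : G) * z.1 * (1 : G)⁻¹ = z.1 by group))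
      mul_smul := fun d e z => Subtype.ext (Subtype.ext (show ((d : twoStab a t) : G) * (e : twoStab a t) * z.1 *
          (((d : twoStab a t) : G) * (e : twoStab a t))⁻¹ = (d : twoStab a t) * (((e : twoStab a t) : G) * z.1 *
          ((e : twoStab a t) : G)⁻¹) * ((d : twoStab a t) : G)⁻¹ by group)) }
  have hdvd : Nat.card D₀ ∣ Nat.card X := card_dvd_of_free fun d z h => by
    by_contra hd
    refine z.2 (Subtype.ext (tw.fpf d d.2 (fun e => hd (Subtype.ext e)) _ (sp.P_le (hCP z.1.2))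
      (sp.odd_P.of_dvd_nat ?_) (mul_inv_eq_iff_eq_mul.1 (congrArg (fun w : X => ((w.1 : C) : G)) h))))
    have := orderOf_dvd_natCard (⟨_, hCP z.1.2⟩ : P)
    rwa [← Subgroup.orderOf_coe] at this
  have hX : Nat.card X = Nat.card C - 1 := by
    haveI : Fintype C := Fintype.ofFinite _
    rw [Nat.card_eq_fintype_card, Fintype.card_subtype_compl, Fintype.card_subtype_eq, Nat.card_eq_fintype_card]
  have hC1 : 1 < Nat.card C := by
    rw [Subgroup.one_lt_card_iff_ne_bot]
    intro h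
    have hm : ((⁅x, y⁆ : P) : G) ∈ C := Subgroup.mem_map_of_mem P.subtype
      (Subgroup.commutator_mem_commutator (Subgroup.mem_top x) (Subgroup.mem_top y))
    rw [h, Subgroup.mem_bot] at hm
    exact hxy (commutatorElement_eq_one_iff_mul_comm.1 (Subtype.ext hm))
  have hcard : Nat.card C * Nat.card (P →* ℂˣ) = Nat.card P := by
    rw [card_hom, hC, Subgroup.card_map_of_injective (Subgroup.subtype_injective _), Subgroup.card_mul_index]
  have hoddC : Odd (Nat.card C) := sp.odd_P.of_dvd_nat (Subgroup.card_dvd_of_le hCP)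
  have hoddD : Odd (Nat.card D₀) := hS.odd_card.of_dvd_nat (Subgroup.card_subgroup_dvd_card _)
  have hE := sp.hom_P_bound hS h2 (D₀.map (twoStab a t).subtype) (Subgroup.map_subtype_le _)
    (fun d hd hd1 x hx hc => by
      obtain ⟨d', hd', rfl⟩ := hd
      refine tw.fpf d' hd' (fun e => hd1 (by rw [e]; rfl)) x (sp.P_le hx) (sp.odd_P.of_dvd_nat ?_) hc
      have := orderOf_dvd_natCard (⟨x, hx⟩ : P)
      rwa [← Subgroup.orderOf_coe] at this)
  rw [Subgroup.card_map_of_injective (Subgroup.subtype_injective _)] at hE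
  have hC2 : 2 * Nat.card D₀ + 1 ≤ Nat.card C := by
    rw [hX] at hdvd
    obtain ⟨c, hc⟩ := hdvd
    obtain ⟨i, hi⟩ := hoddC
    obtain ⟨j, hj⟩ := hoddD
    rcases c with _ | _ | c
    · omega
    · rw [Nat.mul_one] at hc; omega
    · rw [Nat.mul_add, Nat.mul_add, Nat.mul_one] at hc; omega
  have hKl := tw.card_invK_ge h2
  have hKD : Nat.card (invK a t) ≤ Nat.card D₀ :=
    Nat.card_le_card_of_injective (fun k : invK a t => (⟨⟨k, invK_le hS k.2⟩, tw.φK _ k.2⟩ : D₀))
      fun k k' h => Subtype.ext (congrArg (fun d : D₀ => ((d : twoStab a t) : G)) h)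
  rw [tw.card_D] at hsmall
  have := Nat.mul_le_mul hC2 hE
  rw [hcard] at this
  nlinarith

set_option maxHeartbeats 1600000 in
/-- **A twist excludes odd order elements of `Q`.** -/
theorem Twist.residual (hno : ∀ L : Subgroup G, L.Normal → t ∈ L → L = ⊤)
    (hodd : ∃ r, r.Prime ∧ r ≠ 2 ∧ r ∣ Nat.card Q) : False := by
  classical
  have hQ := nilpotent_Q hS h2
  obtain ⟨r, hr, hr2, hrd⟩ := hodd
  set π : Set ℕ := {r | r ≠ 2} with hπ
  have sp : Split a Q (hallPart Q hQ π) (hallPart Q hQ πᶜ) :=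
    split_hall hS hQ (fun h => h rfl) ⟨r, hr2, hr, hrd⟩
  set O := hallPart Q hQ π with hO
  set S := hallPart Q hQ πᶜ with hSdef
  have hπc : πᶜ = {2} := by ext n; simp [hπ]
  have hS2 : IsPGroup 2 S := by
    rw [hSdef, hπc]; exact isPGroup_hallPart hQ Nat.prime_two
  obtain ⟨A, hA⟩ := tw.exists_good h2 sp (tw.not_dvd_card_Q hno)
  have hnc := hA.not_const h2 hno
  have hAc := IsCharacter.isClassFunction (IsIrrCharacter.isCharacter A.2)
  -- constancy on the cosets of `S`
  have hconst : ∀ w ∈ O, w ≠ 1 → ∀ s ∈ S, (A : G → ℂ) (w * s) = (A : G → ℂ) w := by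
    intro w hw hw1 s hs
    obtain ⟨p, hp, hpd⟩ := Nat.exists_prime_and_dvd fun h => hw1 (orderOf_eq_one_iff.1 h)
    have hp2 : p ≠ 2 := hw.2 p hp hpd
    haveI := Fact.mk hp
    have hpQ : p ∣ Nat.card Q := by
      refine hpd.trans ?_
      have := orderOf_dvd_natCard (⟨w, hw.1⟩ : Q)
      rwa [← Subgroup.orderOf_coe] at this
    have sp' : Split a Q (hallPart Q hQ {p}) (hallPart Q hQ {p}ᶜ) :=
      split_hall hS hQ (fun h => hp2 h.symm) ⟨p, rfl, hp, hpQ⟩
    have hle : hallPart Q hQ {p} ≤ O := fun x hx =>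
      ⟨hx.1, fun q hq hqd => show q ≠ 2 by rw [show q = p from hx.2 q hq hqd]; exact hp2⟩
    obtain ⟨u, hu, v, hv, huv⟩ := sp'.cover w hw.1
    have hu1 : u ≠ 1 := by
      intro e
      rw [e, one_mul] at huv
      rw [huv] at hpd
      exact hv.2 p hp hpd rfl
    have hsT : s ∈ hallPart Q hQ {p}ᶜ := ⟨hs.1, fun q hq hqd h => by
      have : q ∈ πᶜ := hs.2 q hq hqd
      exact this (show q ≠ 2 by rw [show q = p from h]; exact hp2)⟩
    rw [huv, mul_assoc,
      tw.good_const h2 hA sp' hle (isPGroup_hallPart hQ hp) (not_dvd_card_hallPart_compl hQ hp) hu hu1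
        (mul_mem hv hsT),
      tw.good_const h2 hA sp' hle (isPGroup_hallPart hQ hp) (not_dvd_card_hallPart_compl hQ hp) hu hu1 hv]
  -- linear characters of `S`
  haveI := sp.nilpotent_P hS h2
  haveI : Nontrivial O := O.nontrivial_iff_ne_bot.2 sp.P_ne
  haveI : Finite (O →* ℂˣ) := finite_hom
  haveI := Finite.one_lt_card_iff_nontrivial.1 (one_lt_card_hom O)
  obtain ⟨β, hβ⟩ := exists_ne (1 : O →* ℂˣ)
  have hlinS : ∀ τ : S →* ℂˣ, τ ≠ 1 → ∑ s : S, (A : G → ℂ) s * conj (τ s : ℂ) = 0 := by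
    intro τ hτ
    set θ : Q →* ℂˣ := β.comp sp.fst * τ.comp sp.snd with hθ
    have hN : sp.NontrivP θ := fun e => hβ (MonoidHom.ext fun x => by
      have h := DFunLike.congr_fun e x
      simpa [hθ, sp.fst_inP, sp.snd_inP] using h)
    have h := hA.mult θ hN
    rw [classInner, mul_eq_zero] at h
    replace h := h.resolve_left (inv_ne_zero (Nat.cast_ne_zero.2 Nat.card_pos.ne'))
    let F : G → ℂ := fun g => if hg : g ∈ Q then (A : G → ℂ) g * conj (θ ⟨g, hg⟩ : ℂ) else 0
    have hF : ∀ q : Q, (A : G → ℂ) q * conj (lv θ q) = F q := fun q => by simp [F, q.2, lv]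
    rw [Finset.sum_congr rfl fun q _ => hF q, sp.sum_Q F, Finset.sum_eq_single (1 : O)] at h
    · rw [← h]
      refine Finset.sum_congr rfl fun s _ => ?_
      have hm : ((1 : O) : G) * s ∈ Q := mul_mem (sp.P_le (1 : O).2) (sp.T_le s.2)
      simp only [F, dif_pos hm, hθ, MonoidHom.mul_apply, MonoidHom.comp_apply, sp.snd_mul, sp.fst_mul,
        map_one, one_mul]
      simp
    · intro x _ hx
      have hF2 : ∀ s : S, F (x * s) = (A : G → ℂ) x * conj (β x : ℂ) * conj (τ s : ℂ) := fun s => by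
        have hm : (x : G) * s ∈ Q := mul_mem (sp.P_le x.2) (sp.T_le s.2)
        simp only [F, dif_pos hm, hθ, MonoidHom.mul_apply, MonoidHom.comp_apply, sp.snd_mul, sp.fst_mul,
          hconst _ x.2 (fun e => hx (Subtype.ext e)) _ s.2, Units.val_mul, map_mul]
        ring
      rw [Finset.sum_congr rfl fun s _ => hF2 s, ← Finset.mul_sum, sum_hom_conj, if_neg hτ, mul_zero]
    · exact fun h => absurd (Finset.mem_univ _) h
  -- a small odd part is abelian
  by_cases hbig : 2 * Nat.card (twoStab a t) < Nat.card O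
  · exact hnc (const_Q_of_const_T hS h2 sp A (const_on_T hS h2 sp A hconst hlinS hbig))
  push Not at hbig
  have hOcomm := tw.commutator_small h2 sp hbig
  obtain ⟨n, hn, hmod⟩ := hA.sum_part sp le_rfl
  have hn1 : n = 1 := by
    have h := hmod 0 fun γ hγ => absurd (by
      have h1 := degree_one_of_comm hOcomm γ.2
      rw [irr_deg] at h1
      exact_mod_cast h1) hγ
    simpa [Nat.ModEq] using h
  rw [hn1, mul_one] at hn
  -- the coefficients
  haveI := sp.nontrivial_T hS h2
  obtain ⟨z, hz⟩ := exists_coeff sp A hconst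
  obtain ⟨b, hbsum, hbvar⟩ := exists_center hS sp Finite.one_lt_card A z fun τ hτ => (hz τ hτ).1
  have hchar := IsCharacter.restrict (IsIrrCharacter.isCharacter A.2) S
  have hone : classInner (fun s : S => (A : G → ℂ) s) (principal S : S → ℂ) = 1 := by
    simp only [classInner, principal, map_one, mul_one]
    rw [hn, inv_mul_cancel₀ (Nat.cast_ne_zero.2 Nat.card_pos.ne')]
  have hexp : ∀ u : S, (A : G → ℂ) u = 1 + ∑ τ ∈ Finset.univ.erase (principal S),
      (Nat.card O : ℂ) * (z τ : ℂ) * (τ : S → ℂ) u := by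
    intro u
    have h := congrFun (classFunction_eq_sum (IsCharacter.isClassFunction hchar)) u
    simp only [Finset.sum_apply, Pi.smul_apply, smul_eq_mul] at h
    rw [h, ← Finset.add_sum_erase _ _ (Finset.mem_univ (principal S)), hone]
    congr 1
    · simp [principal]
    · exact Finset.sum_congr rfl fun τ hτ => by rw [(hz τ (Finset.mem_erase.1 hτ).1).1]
  by_cases hall : ∀ τ : IrrCharacter S, τ ≠ principal S → z τ = 0
  · refine hnc (const_Q_of_const_T hS h2 sp A fun s hs => ?_)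
    have key : ∀ u : S, (A : G → ℂ) u = 1 := fun u => by
      rw [hexp, Finset.sum_eq_zero fun τ hτ => by
        rw [hall τ (Finset.mem_erase.1 hτ).1, Nat.cast_zero, mul_zero, zero_mul], add_zero]
    exact (key ⟨s, hs⟩).trans (key 1).symm
  push Not at hall
  obtain ⟨α, hα, hzα⟩ := hall
  -- linear characters do not occur
  have hlin0 : ∀ τ : IrrCharacter S, τ ≠ principal S → charDegree (τ : S → ℂ) = 1 → z τ = 0 := by
    intro τ hτ hd
    obtain ⟨f, hf⟩ := exists_hom_of_degree_one (IsIrrCharacter.isCharacter τ.2)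
      (by rw [irr_deg, hd, Nat.cast_one])
    have hf1 : f ≠ 1 := fun e => hτ (Subtype.ext (by rw [hf, e]; rfl))
    have := (hz τ hτ).1
    rw [classInner, hf, hlinS f hf1, mul_zero] at this
    exact_mod_cast (mul_eq_zero.1 this.symm).resolve_left (Nat.cast_ne_zero.2 (Nat.card_pos (α := O)).ne')
  have hna : ∃ x y : S, x * y ≠ y * x := by
    by_contra h
    push Not at h
    refine hzα (hlin0 α hα ?_)
    have h1 := degree_one_of_comm h α.2
    rw [irr_deg] at h1
    exact_mod_cast h1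
  obtain ⟨hcube, hcomm⟩ := suzuki_facts h2 hS sp hS2 hna
  -- the involutions in `S`
  have hES : ∀ y ∈ invSub hS h2, y ∈ S := by
    intro y hy
    rcases hy with rfl | hy
    · exact one_mem _
    · exact sp.invol_mem hy
  let conjK : invK a t → IrrCharacter S → IrrCharacter S :=
    fun k τ => conjIrr hS sp ⟨k, invK_le hS k.2⟩ τ
  have hdeg : ∀ k τ, charDegree (conjK k τ : S → ℂ) = charDegree (τ : S → ℂ) := by
    intro k τ
    have h := irr_deg (conjK k τ)
    rw [conjIrr_apply, map_one, irr_deg] at h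
    exact_mod_cast h.symm
  have hzconj : ∀ k, conjK k α ≠ principal S ∧ z (conjK k α) = z α := by
    intro k
    have hne : conjK k α ≠ principal S := fun e => hα (Subtype.ext (funext fun u => by
      obtain ⟨w, rfl⟩ := conjT_surjective hS sp ⟨k, invK_le hS k.2⟩ u
      exact congrFun (congrArg Subtype.val e) w))
    refine ⟨hne, ?_⟩
    have h := (hz _ hne).1
    rw [classInner_conjIrr, (hz α hα).1] at h
    exact_mod_cast (mul_left_cancel₀ (Nat.cast_ne_zero.2 (Nat.card_pos (α := O)).ne') h).symm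
  -- `K` moves `α`
  have hKfree : ∀ k : invK a t, conjK k α = α → k = 1 := by
    intro k hk
    by_contra hk1
    set dk : twoStab a t := ⟨k, invK_le hS k.2⟩ with hdk
    let E := invSub hS h2
    have hmem : ∀ y : E, ((y : G)⁻¹ * ((k : G)⁻¹ * y * k)) ∈ E := fun y => by
      refine mul_mem (inv_mem y.2) ?_
      have := conj_mem_invSub hS h2 (inv_mem (invK_le hS k.2)) y.2
      rwa [inv_inv] at this
    let fE : E → E := fun y => ⟨_, hmem y⟩
    have hfE : Function.Injective fE := by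
      intro y y' h
      have h' : (y : G)⁻¹ * ((k : G)⁻¹ * y * k) = (y' : G)⁻¹ * ((k : G)⁻¹ * y' * k) :=
        congrArg Subtype.val h
      refine Subtype.ext (inv_mul_eq_one.1 (invK_fpf hS h2 k.2 (fun e => hk1 (Subtype.ext e))
        (mul_mem (inv_mem (invSub_le_Q hS h2 y.2)) (invSub_le_Q hS h2 y'.2)) ?_))
      have hc : (y : G)⁻¹ * y' = (y' : G) * (y : G)⁻¹ :=
        invSub_comm hS h2 (inv_mem y.2) (invSub_le_Q hS h2 y'.2)
      have h3 : (k : G)⁻¹ * ((y : G)⁻¹ * y') * k = (y : G)⁻¹ * y' := by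
        calc (k : G)⁻¹ * ((y : G)⁻¹ * y') * k
            = ((k : G)⁻¹ * y * k)⁻¹ * ((k : G)⁻¹ * y' * k) := by group
          _ = ((y : G)⁻¹ * ((k : G)⁻¹ * y * k))⁻¹ * (y : G)⁻¹ * y' *
                ((y' : G)⁻¹ * ((k : G)⁻¹ * y' * k)) := by group
          _ = ((y : G)⁻¹ * ((k : G)⁻¹ * y * k))⁻¹ * ((y : G)⁻¹ * y') *
                ((y : G)⁻¹ * ((k : G)⁻¹ * y * k)) := by rw [h']; group
          _ = (y : G)⁻¹ * y' := by
                rw [mul_assoc, show (y : G)⁻¹ * y' * ((y : G)⁻¹ * ((k : G)⁻¹ * y * k)) =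
                  ((y : G)⁻¹ * ((k : G)⁻¹ * y * k)) * ((y : G)⁻¹ * y') from
                  invSub_comm hS h2 (mul_mem (inv_mem y.2) y'.2) (invSub_le_Q hS h2 (hmem y)),
                  inv_mul_cancel_left]
      calc (k : G) * ((y : G)⁻¹ * y') = k * ((k : G)⁻¹ * ((y : G)⁻¹ * y') * k) := by rw [h3]
        _ = (y : G)⁻¹ * y' * k := by group
    have htriv : ∀ y : E, (α : S → ℂ) ⟨y, hES _ y.2⟩ = (α : S → ℂ) 1 := by
      intro y
      obtain ⟨y', hy'⟩ := Finite.surjective_of_injective hfE y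
      set w : S := ⟨y', hES _ y'.2⟩ with hw
      have hcen : ∀ g : S, (α : S → ℂ) ⁅w⁻¹, g⁆ = (α : S → ℂ) 1 := fun g => by
        suffices h : ⁅w⁻¹, g⁆ = 1 by rw [h]
        refine Subtype.ext ?_
        show ((w⁻¹ : S) : G) * g * ((w⁻¹ : S) : G)⁻¹ * (g : G)⁻¹ = 1
        rw [show ((w⁻¹ : S) : G) = (y' : G)⁻¹ from rfl, invSub_comm hS h2 (inv_mem y'.2) (sp.T_le g.2)]
        group
      obtain ⟨c, -, hc⟩ := exists_scalar α hcen
      have e : (⟨y, hES _ y.2⟩ : S) = w⁻¹ * conjT hS sp dk w := by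
        refine Subtype.ext ?_
        rw [← hy']
        rfl
      have hfix : (α : S → ℂ) (conjT hS sp dk w) = (α : S → ℂ) w := by
        have := congrFun (congrArg Subtype.val hk) w
        rwa [conjIrr_apply] at this
      rw [e, hc, hfix, ← hc, inv_mul_cancel]
    refine hzα (hlin0 α hα ?_)
    have h1 := degree_one_of_commutators α.2 fun g g' => htriv ⟨_, hcomm g g'⟩
    rw [irr_deg] at h1
    exact_mod_cast h1
  have hconjinj : Function.Injective fun k : invK a t => conjK k α := by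
    intro k k' h
    have h1 : conjK (k * k'⁻¹) α = α := by
      refine Subtype.ext (funext fun u => ?_)
      have h2' := congrFun (congrArg Subtype.val h) (conjT hS sp ⟨(k'⁻¹ : invK a t), invK_le hS (k'⁻¹).2⟩ u)
      simp only [conjK, conjIrr_apply] at h2' ⊢
      have eA : conjT hS sp ⟨k', invK_le hS k'.2⟩ (conjT hS sp ⟨(k'⁻¹ : invK a t), invK_le hS (k'⁻¹).2⟩ u) = u :=
        Subtype.ext (by simp [conjT]; group)
      have eB : conjT hS sp ⟨k, invK_le hS k.2⟩ (conjT hS sp ⟨(k'⁻¹ : invK a t), invK_le hS (k'⁻¹).2⟩ u) =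
          conjT hS sp ⟨(k * k'⁻¹ : invK a t), invK_le hS (k * k'⁻¹).2⟩ u := by
        refine Subtype.ext ?_
        have hKc : (k : G) * (k' : G)⁻¹ = (k' : G)⁻¹ * k := by
          obtain ⟨k₀, -, hiff, -, -⟩ := exists_generator hS h2
          obtain ⟨i, hi⟩ := (hiff k).1 ((mem_invK hS h2).1 k.2)
          obtain ⟨j, hj⟩ := (hiff k').1 ((mem_invK hS h2).1 k'.2)
          rw [← hi, ← hj, ← zpow_neg, ← zpow_add, ← zpow_add, add_comm]
        simp [conjT, hKc]
        group
      rw [eA, eB] at h2'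
      exact h2'
    have := hKfree _ h1
    exact mul_inv_eq_one.1 this
  -- the degree
  set Z : ℕ := ∑ τ ∈ Finset.univ.erase (principal S), z τ * charDegree (τ : S → ℂ) with hZ
  set d := 1 + Nat.card O * Z with hd
  have hdA : (A : G → ℂ) 1 = (d : ℂ) := by
    have h := hexp 1
    rw [OneMemClass.coe_one] at h
    rw [h, hd, hZ]
    push_cast
    rw [Finset.mul_sum]
    congr 1
    exact Finset.sum_congr rfl fun τ _ => by rw [irr_deg]; ring
  have hZeven : 2 ∣ Z := by
    refine Finset.dvd_sum fun τ hτ => ?_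
    by_cases hd1 : charDegree (τ : S → ℂ) = 1
    · rw [hlin0 τ (Finset.mem_erase.1 hτ).1 hd1, zero_mul]; exact dvd_zero 2
    · obtain ⟨k, hk⟩ := IsPGroup.iff_card.1 hS2
      obtain ⟨i, -, hi⟩ := (Nat.dvd_prime_pow Nat.prime_two).1 (hk ▸ irr_deg_dvd_card τ)
      rcases Nat.eq_zero_or_pos i with rfl | hi0
      · exact absurd (by rw [hi, pow_zero]) hd1
      · rw [hi]; exact Dvd.dvd.mul_left (dvd_pow_self 2 hi0.ne') _
  have hdodd : d.Coprime (Nat.card S) := by
    obtain ⟨k, hk⟩ := IsPGroup.iff_card.1 hS2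
    rw [hk]
    refine Nat.Coprime.pow_right _ ((Nat.prime_two.coprime_iff_not_dvd).2 fun h => ?_).symm
    obtain ⟨c, hc⟩ := hZeven
    rw [hd, hc, ← Nat.dvd_add_iff_left (Dvd.dvd.mul_left (dvd_mul_right 2 c) _)] at h
    omega
  obtain ⟨e, he⟩ := dvd_card_add_one hS sp A hdA (by omega) hn hdodd
  obtain ⟨dA, hdA', -, hlt⟩ := hA.lt
  have hdd : dA = d := by exact_mod_cast hdA'.symm.trans hdA
  rw [hdd] at hlt
  have hne1 : e ≠ 1 := fun h => by rw [h, mul_one] at he; omega
  have hne0 : e ≠ 0 := fun h => by rw [h, mul_zero] at he; omega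
  rw [sp.card_eq, hd] at he
  have hOe : Nat.card O + 1 ≤ e := by
    obtain ⟨e', rfl⟩ : ∃ e', e = e' + 1 := ⟨e - 1, by omega⟩
    have hdvd : Nat.card O ∣ e' := by
      have h1 : Nat.card O ∣ Nat.card O * Z * (e' + 1) + e' := by
        refine ⟨Nat.card S, ?_⟩
        nlinarith
      exact (Nat.dvd_add_right (Dvd.dvd.mul_right (dvd_mul_right _ Z) _)).1 h1
    have := Nat.le_of_dvd (by omega) hdvd
    omega
  have hOZ : Z * (Nat.card O + 1) + 1 ≤ Nat.card S := by
    have h1 := Nat.mul_le_mul_left (1 + Nat.card O * Z) hOe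
    rw [← he] at h1
    have hOpos := Nat.card_pos (α := O)
    by_contra h
    push Not at h
    have := Nat.mul_le_mul_left (Nat.card O) (Nat.lt_iff_add_one_le.1 h)
    nlinarith
  -- the orbit of `α`
  set deg := charDegree (α : S → ℂ) with hdegα
  set K := Nat.card (invK a t) with hK
  set R : Finset (IrrCharacter S) := Finset.univ.image fun k : invK a t => conjK k α with hR
  have hRcard : R.card = K := by
    rw [hR, Finset.card_image_of_injective _ hconjinj, Finset.card_univ, hK, Nat.card_eq_fintype_card]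
  have hRp : principal S ∉ R := fun h => by
    obtain ⟨k, -, hk⟩ := Finset.mem_image.1 h
    exact (hzconj k).1 hk
  have hRval : ∀ τ ∈ R, z τ = z α ∧ charDegree (τ : S → ℂ) = deg := by
    intro τ hτ
    obtain ⟨k, -, rfl⟩ := Finset.mem_image.1 hτ
    exact ⟨(hzconj k).2, hdeg k α⟩
  have hZge : K * deg ≤ Z := by
    calc K * deg = ∑ τ ∈ R, deg := by rw [Finset.sum_const, hRcard, smul_eq_mul]
      _ ≤ ∑ τ ∈ R, z τ * charDegree (τ : S → ℂ) := Finset.sum_le_sum fun τ hτ => by
          rw [(hRval τ hτ).1, (hRval τ hτ).2]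
          exact Nat.le_mul_of_pos_left _ (Nat.pos_of_ne_zero hzα)
      _ ≤ Z := Finset.sum_le_sum_of_subset fun τ hτ =>
          Finset.mem_erase.2 ⟨fun e => hRp (e ▸ hτ), Finset.mem_univ _⟩
  have hvar := hbvar R hRp
  rw [Finset.sum_congr rfl (g := fun _ => ((z α : ℝ) - b * deg) ^ 2) fun τ hτ => by
    rw [(hRval τ hτ).1, (hRval τ hτ).2], Finset.sum_const, hRcard, nsmul_eq_mul] at hvar
  have hb := hbsum (Finset.univ.erase (principal S)) fun τ => by simp
  have hb' : b * ((Nat.card S : ℝ) - 1) = (Z : ℝ) := by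
    rw [← hb, hZ]; push_cast; rfl
  have hE := sp.hom_P_bound hS h2 (tw.φ.ker.map (twoStab a t).subtype) (Subgroup.map_subtype_le _)
    (fun d hd hd1 x hx hc => by
      obtain ⟨d', hd', rfl⟩ := hd
      refine tw.fpf d' hd' (fun e => hd1 (by rw [e]; rfl)) x (sp.P_le hx) (sp.odd_P.of_dvd_nat ?_) hc
      have := orderOf_dvd_natCard (⟨x, hx⟩ : O)
      rwa [← Subgroup.orderOf_coe] at this)
  rw [Subgroup.card_map_of_injective (Subgroup.subtype_injective _)] at hE
  set d₀ := Nat.card tw.φ.ker with hd₀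
  have hO : 2 * d₀ + 1 ≤ Nat.card O := hE.trans (by
    rw [card_hom]; exact Nat.le_of_dvd Nat.card_pos (Subgroup.index_dvd_card _))
  have hKd : K ≤ d₀ :=
    Nat.card_le_card_of_injective (fun k : invK a t => (⟨⟨k, invK_le hS k.2⟩, tw.φK _ k.2⟩ : tw.φ.ker))
      fun k k' h => Subtype.ext (congrArg (fun d : tw.φ.ker => ((d : twoStab a t) : G)) h)
  have hKl : 2 * l + 1 ≤ K := tw.card_invK_ge h2
  rw [tw.card_D, ← hd₀, Nat.cast_mul] at hvar
  -- the final estimates
  have hl0 : (1 : ℝ) ≤ (l : ℝ) := by exact_mod_cast tw.prime.pos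
  have hd0 : (1 : ℝ) ≤ (d₀ : ℝ) := by exact_mod_cast Nat.card_pos
  have hOR : 2 * (d₀ : ℝ) + 1 ≤ (Nat.card O : ℝ) := by exact_mod_cast hO
  have hKR : 2 * (l : ℝ) + 1 ≤ (K : ℝ) := by exact_mod_cast hKl
  have hsq : ((z α : ℝ) - b * deg) ^ 2 ≤ 1 / 4 := by
    have h1 : (2 * (d₀ : ℝ)) * (2 * (l : ℝ)) ≤ (Nat.card O : ℝ) * K :=
      mul_le_mul (by linarith) (by linarith) (by linarith) (by linarith)
    have h3 := mul_le_mul_of_nonneg_right h1 (sq_nonneg ((z α : ℝ) - b * deg))
    by_contra h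
    push Not at h
    have h4 := mul_lt_mul_of_pos_left h (show (0 : ℝ) < (l : ℝ) * d₀ by positivity)
    nlinarith
  have hbn : (1 : ℝ) / 2 ≤ b * deg := by
    have hz1 : (1 : ℝ) ≤ (z α : ℝ) := by exact_mod_cast Nat.pos_of_ne_zero hzα
    by_contra h
    push Not at h
    nlinarith
  have hS1 : (0 : ℝ) < (Nat.card S : ℝ) - 1 := by
    have : (1 : ℝ) < (Nat.card S : ℝ) := by exact_mod_cast Finite.one_lt_card
    linarith
  have hbO : b * ((Nat.card O : ℝ) + 1) ≤ 1 := by
    refine le_of_mul_le_mul_left ?_ hS1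
    have h1 : ((Z * (Nat.card O + 1) + 1 : ℕ) : ℝ) ≤ (Nat.card S : ℝ) := Nat.cast_le.2 hOZ
    push_cast at h1
    rw [mul_one, ← mul_assoc, mul_comm _ b, hb']
    linarith
  have hdeg2 : Nat.card O + 1 ≤ 2 * deg := by
    have h1 : ((Nat.card O : ℝ) + 1) ≤ 2 * (deg : ℝ) := by
      have h3 := mul_le_mul_of_nonneg_right hbn (show (0 : ℝ) ≤ (Nat.card O : ℝ) + 1 by positivity)
      have h4 := mul_le_mul_of_nonneg_right hbO (show (0 : ℝ) ≤ (deg : ℝ) by positivity)
      nlinarith
    exact_mod_cast h1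
  have hq : K + 1 = Nat.card (invSub hS h2) := card_invK hS h2
  rw [← hq] at hcube
  have h5 : (2 * K + 1) * (K * (K + 1)) + 1 ≤ (K + 1) ^ 3 := by
    have h6 : (2 * K + 1) * (K * (K + 1)) ≤ Z * (Nat.card O + 1) := by
      calc (2 * K + 1) * (K * (K + 1)) ≤ (Nat.card O + 1) * (K * deg) :=
            Nat.mul_le_mul (by omega) (Nat.mul_le_mul_left K (by omega))
        _ ≤ (Nat.card O + 1) * Z := Nat.mul_le_mul_left _ hZge
        _ = Z * (Nat.card O + 1) := mul_comm _ _
    omega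
  have h7 : 3 ≤ K := by have := tw.prime.pos; omega
  nlinarith [Nat.mul_le_mul_right K (Nat.mul_le_mul_right K h7)]

end Cfsg.Agent.RankOneChar
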