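import Cfsg.Agent.Lib.RankOneChar.Main
import Cfsg.Agent.Lib.RankOneChar.Hall
import Cfsg.Agent.Lib.RankOneChar.ResidualFinal
import Cfsg.Agent.Lib.RankOne.FixSetup

/-!
# In a split rank-one set-up of characteristic two the group `Q` is a `2`-group
-/

set_option autoImplicit false
set_option linter.unusedSectionVars false
set_option linter.style.haveILetI false

namespace Cfsg.Agent.RankOneChar

open Cfsg Cfsg.Agent.RankOne MulAction

universe u v

section transport

variable {G : Type u} {Ω : Type v} [Group G] [Fintype G] [MulAction G Ω] {a : Ω} {t : G} {Q : Subgroup G}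

/-- The permutation group induced by a subgroup. -/
def permImage (Ω : Type v) [MulAction G Ω] (L : Subgroup G) : Subgroup (Equiv.Perm Ω) :=
  L.map (MulAction.toPermHom G Ω)

variable [FaithfulSMul G Ω] (hS : IsRankOneSetup G Ω a t Q)
  (h2 : ∃ x y : G, x ≠ 1 ∧ y ≠ 1 ∧ x ≠ y ∧ x * x = 1 ∧ y * y = 1 ∧ x * y = y * x)
include hS h2

/-- A subgroup containing `t` and `Q` gives a set-up of permutations, which decides whether `Q` is a
`2`-group. -/
theorem isPGroup_of_image (L : Subgroup G) (hQL : Q ≤ L) (htL : t ∈ L)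
    (h : ∀ (Q' : Subgroup (permImage Ω L)) (t' : permImage Ω L) [Fintype (permImage Ω L)],
      IsRankOneSetup (permImage Ω L) Ω a t' Q' →
      (∃ x y : permImage Ω L, x ≠ 1 ∧ y ≠ 1 ∧ x ≠ y ∧ x * x = 1 ∧ y * y = 1 ∧ x * y = y * x) →
      IsPGroup 2 Q') : IsPGroup 2 Q := by
  classical
  haveI := finite_points hS
  haveI : Fintype (permImage Ω L) := Fintype.ofFinite _
  set f := MulAction.toPermHom G Ω with hf
  have hinj : Function.Injective f := MulAction.toPerm_injective
  let i : L →* permImage Ω L := f.subgroupMap L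
  have hi : Function.Surjective i := f.subgroupMap_surjective L
  have hsmul : ∀ (g : L) (c : Ω), i g • c = (g : G) • c := fun g c => rfl
  have hiinj : Function.Injective i := fun g g' e => Subtype.ext (hinj (congrArg Subtype.val e))
  set t' : permImage Ω L := i ⟨t, htL⟩
  set Q' : Subgroup (permImage Ω L) := (Q.subgroupOf L).map i
  have hQ' : ∀ g : L, i g ∈ Q' ↔ (g : G) ∈ Q := fun g => by
    refine ⟨fun ⟨g', hg', e⟩ => ?_, fun hg => ⟨g, hg, rfl⟩⟩
    rw [← hiinj e]
    exact hg'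
  have hst : ∀ (g : L) (c : Ω), i g ∈ stabilizer (permImage Ω L) c ↔ (g : G) ∈ stabilizer G c :=
    fun g c => Iff.rfl
  have hta : t' • a = t • a := rfl
  have hS' : IsRankOneSetup (permImage Ω L) Ω a t' Q' := by
    refine ⟨?_, ?_, fun e => ?_, fun e => hS.not_mem e, ?_, ?_, ?_, ?_, ?_, ?_⟩
    · rw [MulAction.is_two_pretransitive_iff]
      intro b c b' c' hbc hbc'
      have hmove : ∀ b c : Ω, b ≠ c → ∃ g ∈ L, g • a = b ∧ g • (t • a) = c := by
        intro b c hbc
        obtain ⟨g, hg, hga⟩ : ∃ g ∈ L, g • a = b := by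
          by_cases hb : b = a
          · exact ⟨1, one_mem _, by rw [one_smul, hb]⟩
          · obtain ⟨q, hq, e⟩ := exists_q_smul hS hb
            exact ⟨q * t, mul_mem (hQL hq) htL, by rw [mul_smul, e]⟩
        obtain ⟨q, hq, e⟩ := exists_q_smul hS (c := g⁻¹ • c) fun h => hbc (by
          rw [← hga, ← h, smul_inv_smul])
        exact ⟨g * q, mul_mem hg (hQL hq), by rw [mul_smul, smul_a hS hq, hga],
          by rw [mul_smul, e, smul_inv_smul]⟩
      obtain ⟨g, hg, h1, h3⟩ := hmove b c hbc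
      obtain ⟨g', hg', h1', h3'⟩ := hmove b' c' hbc'
      refine ⟨i ⟨g' * g⁻¹, mul_mem hg' (inv_mem hg)⟩, ?_, ?_⟩
      · rw [hsmul]; show (g' * g⁻¹) • b = b'
        rw [mul_smul, ← h1, inv_smul_smul, h1']
      · rw [hsmul]; show (g' * g⁻¹) • c = c'
        rw [mul_smul, ← h3, inv_smul_smul, h3']
    · rw [← map_mul, show (⟨t, htL⟩ : L) * ⟨t, htL⟩ = 1 from Subtype.ext hS.mul_self, map_one]
    · exact hS.ne_one (congrArg Subtype.val (hiinj (e.trans (map_one i).symm)))
    · rintro _ ⟨g, hg, rfl⟩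
      exact (hst g a).2 (hS.le hg)
    · intro y hy x hx
      obtain ⟨g, rfl⟩ := hi y
      obtain ⟨q, hq, rfl⟩ := hx
      rw [← map_inv, ← map_mul, ← map_mul, hQ']
      exact hS.conj_mem g ((hst g a).1 hy) q hq
    · rw [eq_bot_iff]
      intro y hy
      obtain ⟨⟨g, hg, rfl⟩, h3⟩ := Subgroup.mem_inf.1 hy
      have e : (g : G) ∈ Q ⊓ stabilizer G (t • a) := Subgroup.mem_inf.2 ⟨hg, (hst g (t • a)).1 h3⟩
      rw [hS.inf_eq_bot, Subgroup.mem_bot] at e
      rw [Subgroup.mem_bot, show g = 1 from Subtype.ext e, map_one]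
    · refine le_antisymm (sup_le ?_ inf_le_left) fun y hy => ?_
      · rintro _ ⟨g, hg, rfl⟩
        exact (hst g a).2 (hS.le hg)
      · obtain ⟨g, rfl⟩ := hi y
        obtain ⟨q, hq, d, hd, e⟩ := exists_qd hS ((hst g a).1 hy)
        have hdL : d ∈ L := by
          rw [show d = q⁻¹ * (g : G) by rw [e, inv_mul_cancel_left]]
          exact mul_mem (inv_mem (hQL hq)) g.2
        rw [show g = (⟨q, hQL hq⟩ : L) * ⟨d, hdL⟩ from Subtype.ext e, map_mul]
        refine mul_mem (Subgroup.mem_sup_left ((hQ' _).2 hq)) (Subgroup.mem_sup_right ?_)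
        exact Subgroup.mem_inf.2 ⟨(hst _ a).2 (Subgroup.mem_inf.1 hd).1,
          (hst _ (t • a)).2 (Subgroup.mem_inf.1 hd).2⟩
    · rw [Subgroup.card_map_of_injective hiinj, Nat.card_congr (Subgroup.subgroupOfEquivOfLe hQL).toEquiv]
      exact hS.even_card
    · refine hS.odd_card.of_dvd_nat ?_
      rw [← Subgroup.card_map_of_injective (K := (stabilizer (permImage Ω L) a ⊓
        stabilizer (permImage Ω L) (t' • a) : Subgroup (permImage Ω L))) (permImage Ω L).subtype_injective,
        ← Subgroup.card_map_of_injective (K := (stabilizer G a ⊓ stabilizer G (t • a) : Subgroup G)) hinj]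
      refine Subgroup.card_dvd_of_le ?_
      rintro _ ⟨y, hy, rfl⟩
      obtain ⟨g, rfl⟩ := hi y
      exact ⟨g, Subgroup.mem_inf.2 ⟨(hst g a).1 (Subgroup.mem_inf.1 hy).1,
        (hst g (t • a)).1 (Subgroup.mem_inf.1 hy).2⟩, rfl⟩
  have h2' : ∃ x y : permImage Ω L, x ≠ 1 ∧ y ≠ 1 ∧ x ≠ y ∧ x * x = 1 ∧ y * y = 1 ∧ x * y = y * x := by
    obtain ⟨s, s', hs, hs', hne, -⟩ := two_invol_fixing hS h2
    have hsQ := (invol_central hS h2 hs).1
    have hsQ' := (invol_central hS h2 hs').1
    refine ⟨i ⟨s, hQL hsQ⟩, i ⟨s', hQL hsQ'⟩, fun e => hs.2.1 ?_, fun e => hs'.2.1 ?_,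
      fun e => hne (congrArg Subtype.val (hiinj e)), ?_, ?_, ?_⟩
    · exact congrArg Subtype.val (hiinj (e.trans (map_one i).symm))
    · exact congrArg Subtype.val (hiinj (e.trans (map_one i).symm))
    · rw [← map_mul, show (⟨s, hQL hsQ⟩ : L) * ⟨s, hQL hsQ⟩ = 1 from Subtype.ext hs.2.2, map_one]
    · rw [← map_mul, show (⟨s', hQL hsQ'⟩ : L) * ⟨s', hQL hsQ'⟩ = 1 from Subtype.ext hs'.2.2, map_one]
    · rw [← map_mul, ← map_mul]
      exact congrArg i (Subtype.ext ((invol_central hS h2 hs).2 s' hsQ'))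
  have hp := h Q' t' hS' h2'
  intro x
  obtain ⟨k, hk⟩ := hp ⟨i ⟨x, hQL x.2⟩, (hQ' _).2 x.2⟩
  refine ⟨k, Subtype.ext ?_⟩
  have h1 : i (⟨x, hQL x.2⟩ ^ 2 ^ k) = i 1 := by
    rw [map_pow, map_one]
    exact congrArg Subtype.val hk
  have h3 := congrArg Subtype.val (hiinj h1)
  simpa using h3

end transport

/-- The induction. -/
theorem q_isPGroup_two_aux (n : ℕ) : ∀ {G Ω : Type v} [Group G] [Fintype G] [MulAction G Ω]
    [FaithfulSMul G Ω] {a : Ω} {t : G} {Q : Subgroup G}, Nat.card G ≤ n → IsRankOneSetup G Ω a t Q →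
    (∃ x y : G, x ≠ 1 ∧ y ≠ 1 ∧ x ≠ y ∧ x * x = 1 ∧ y * y = 1 ∧ x * y = y * x) → IsPGroup 2 Q := by
  classical
  induction n with
  | zero =>
    intro G Ω _ _ _ _ a t Q hn _ _
    have := Nat.card_pos (α := G)
    omega
  | succ n IH =>
    intro G Ω _ _ _ _ a t Q hn hS h2
    haveI := finite_points hS
    by_contra hnot
    -- no proper normal subgroup contains `t`
    have hno : ∀ L : Subgroup G, L.Normal → t ∈ L → L = ⊤ := by
      intro L hL htL
      by_contra hne
      refine hnot (isPGroup_of_image hS h2 L (Q_le_of_invol_mem hS h2 (t_invol hS) htL) htL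
        fun Q' t' _ hS' h2' => IH ?_ hS' h2')
      rw [permImage, Subgroup.card_map_of_injective (MulAction.toPerm_injective : Function.Injective
        (MulAction.toPermHom G Ω))]
      have h1 := Subgroup.card_mul_index L
      have h3 : L.index ≠ 1 := fun e => hne (Subgroup.index_eq_one.1 e)
      have h4 : L.index ≠ 0 := Subgroup.index_ne_zero_of_finite
      have h5 : 2 ≤ L.index := by omega
      nlinarith [Nat.card_pos (α := L)]
    -- centralisers of elements fixing two involutions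
    have hfix : ∀ e : twoStab a t, e ≠ 1 → (e : G) * t = t * e →
        (∃ s s' : G, s ∈ involutionsIn (stabilizer G a : Set G) ∧
          s' ∈ involutionsIn (stabilizer G a : Set G) ∧ s ≠ s' ∧ (e : G) * s = s * e ∧ (e : G) * s' = s' * e) →
        ∀ y ∈ Q, Odd (orderOf y) → (e : G) * y = y * e → y = 1 := by
      rintro e he het ⟨s, s', hs, hs', hne, hes, hes'⟩ y hy hodd hey
      set X : Set G := {(e : G)} with hXdef
      have hX : X ⊆ (twoStab a t : Set G) := Set.singleton_subset_iff.2 e.2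
      have hc : ∀ g : G, (e : G) * g = g * e → g ∈ Subgroup.centralizer X := fun g hg =>
        Subgroup.mem_centralizer_singleton_iff.2 hg.symm
      have hsQ := (invol_central hS h2 hs).1
      have hsQ' := (invol_central hS h2 hs').1
      have h3 := fix_three_of_centralized hS e.2 hsQ hs.2.1 hes
      have hS' := fix_setup hS hX (hc t het) h3
      haveI := fix_finite hS hX
      haveI : Fintype (fixGroup Ω X) := Fintype.ofFinite _
      haveI := fix_faithful hS hX
      set σ : Subgroup.centralizer X := ⟨s, hc s hes⟩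
      set σ' : Subgroup.centralizer X := ⟨s', hc s' hes'⟩
      have h2' : ∃ x y : fixGroup Ω X, x ≠ 1 ∧ y ≠ 1 ∧ x ≠ y ∧ x * x = 1 ∧ y * y = 1 ∧ x * y = y * x := by
        refine ⟨fixElt Ω X σ, fixElt Ω X σ', fun h => hs.2.1 ?_, fun h => hs'.2.1 ?_,
          fun h => hne (congrArg Subtype.val (fixQ_inj hS hX (g := σ) (g' := σ') hsQ hsQ' h)), ?_, ?_, ?_⟩
        · exact congrArg Subtype.val (fixQ_inj hS hX (g := σ) (g' := 1) hsQ (one_mem Q)
            (h.trans (map_one _).symm))
        · exact congrArg Subtype.val (fixQ_inj hS hX (g := σ') (g' := 1) hsQ' (one_mem Q)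
            (h.trans (map_one _).symm))
        · rw [← map_mul, show σ * σ = 1 from Subtype.ext hs.2.2, map_one]
        · rw [← map_mul, show σ' * σ' = 1 from Subtype.ext hs'.2.2, map_one]
        · rw [← map_mul, ← map_mul]
          exact congrArg _ (Subtype.ext ((invol_central hS h2 hs).2 s' hsQ'))
      have hlt := card_fixGroup_lt hS hX (x := (e : G)) rfl
        (hc _ rfl) (fun h => he (Subtype.ext h))
      have hp := IH (by omega) hS' h2'
      set η : Subgroup.centralizer X := ⟨y, hc y hey⟩ with hη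
      obtain ⟨k, hk⟩ := hp ⟨fixElt Ω X η, ⟨η, hy, rfl⟩⟩
      have h1 : η ^ 2 ^ k = 1 := fixQ_inj hS hX
        (show ((η ^ 2 ^ k : Subgroup.centralizer X) : G) ∈ Q from pow_mem hy _) (one_mem Q) (by
          rw [map_pow, map_one]
          exact congrArg Subtype.val hk)
      have h4 : y ^ 2 ^ k = 1 := congrArg Subtype.val h1
      obtain ⟨j, -, hj⟩ := (Nat.dvd_prime_pow Nat.prime_two).1 (orderOf_dvd_of_pow_eq_one h4)
      rw [hj] at hodd
      rcases Nat.eq_zero_or_pos j with rfl | hj0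
      · exact orderOf_eq_one_iff.1 (by rw [hj, pow_zero])
      · exact absurd hodd (Nat.not_odd_iff_even.2 (Nat.even_pow.2 ⟨even_two, hj0.ne'⟩))
    -- an odd prime divisor of `|Q|`
    obtain ⟨p, hp, hp2, hpQ⟩ : ∃ p, p.Prime ∧ p ≠ 2 ∧ p ∣ Nat.card Q := by
      by_contra hall
      push Not at hall
      refine hnot (IsPGroup.of_card (n := (Nat.card Q).factorization 2) ?_)
      have e := Nat.eq_prime_pow_of_unique_prime_dvd (p := 2) Nat.card_pos.ne'
        (fun {q} hq hqd => by by_contra hne; exact hall q hq hne hqd)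
      conv_rhs => rw [e, Nat.prime_two.factorization_pow, Finsupp.single_eq_same]
      exact e
    haveI := Fact.mk hp
    have hQ := nilpotent_Q hS h2
    have sp : Split a Q (hallPart Q hQ {p}) (hallPart Q hQ {p}ᶜ) :=
      split_hall hS hQ (fun h => hp2 h.symm) ⟨p, rfl, hp, hpQ⟩
    obtain ⟨d, hd, hd1, y, hy, hdy, hy1⟩ : ∃ d ∈ twoStab a t, d ≠ 1 ∧ ∃ y ∈ hallPart Q hQ {p},
        d * y = y * d ∧ y ≠ 1 := by
      by_contra hall
      push Not at hall
      exact main hS h2 sp (isPGroup_hallPart hQ hp) (not_dvd_card_hallPart_compl hQ hp)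
        fun d hd hd1 y hy hc => hall d hd hd1 y hy hc
    obtain ⟨l, hl, hld⟩ := Nat.exists_prime_and_dvd fun h => hd1 (orderOf_eq_one_iff.1 h)
    haveI := Fact.mk hl
    set d' := d ^ (orderOf d / l) with hd'
    have hd'D : d' ∈ twoStab a t := pow_mem hd _
    have hd'o : orderOf d' = l := by
      rw [hd', orderOf_pow_of_dvd (Nat.div_pos (Nat.le_of_dvd (orderOf_pos d) hld) hl.pos).ne'
        (Nat.div_dvd_of_dvd hld), Nat.div_div_self hld (orderOf_pos d).ne']
    have hd'y : d' * y = y * d' := (show Commute d y from hdy).pow_left _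
    obtain ⟨c, hc, hct⟩ := conj_into_centralizer hS (X := {d'}) (Set.singleton_subset_iff.2 hd'D)
      (fix_three_of_centralized hS hd'D (sp.P_le hy) hy1 hd'y)
    set x : twoStab a t := ⟨c * d' * c⁻¹, mul_mem (mul_mem hc hd'D) (inv_mem hc)⟩ with hx
    have hxt : (x : G) * t = t * x := hct d' rfl
    have hxo : orderOf (x : G) = l := by
      show orderOf (c * d' * c⁻¹) = l
      rw [← MulAut.conj_apply, MulEquiv.orderOf_eq, hd'o]
    have hxl : x ^ l = 1 := Subtype.ext (by
      rw [SubmonoidClass.coe_pow, ← hxo, pow_orderOf_eq_one]; rfl)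
    have hx1 : x ≠ 1 := fun e => hl.one_lt.ne (by rw [← hxo, e, OneMemClass.coe_one, orderOf_one])
    set y' := c * y * c⁻¹ with hy'
    have hy'Q : y' ∈ Q := hS.conj_mem c (Subgroup.mem_inf.1 hc).1 y (sp.P_le hy)
    have hy'odd : Odd (orderOf y') := by
      rw [hy', ← MulAut.conj_apply, MulEquiv.orderOf_eq]
      refine sp.odd_P.of_dvd_nat ?_
      have := orderOf_dvd_natCard (⟨y, hy⟩ : hallPart Q hQ {p})
      rwa [← Subgroup.orderOf_coe] at this
    have hxy' : (x : G) * y' = y' * x := by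
      show c * d' * c⁻¹ * (c * y * c⁻¹) = c * y * c⁻¹ * (c * d' * c⁻¹)
      rw [show c * d' * c⁻¹ * (c * y * c⁻¹) = c * (d' * y) * c⁻¹ by group, hd'y]
      group
    have huniq : ∀ s s' : G, s ∈ involutionsIn (stabilizer G a : Set G) →
        s' ∈ involutionsIn (stabilizer G a : Set G) → (x : G) * s = s * x → (x : G) * s' = s' * x → s = s' := by
      intro s s' hs hs' h1 h3
      by_contra hne
      have h4 := hfix x hx1 hxt ⟨s, s', hs, hs', hne, h1, h3⟩ y' hy'Q hy'odd hxy'
      rw [hy', mul_inv_eq_one, mul_eq_left] at h4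
      exact hy1 h4
    obtain ⟨tw⟩ := exists_twist hS h2 hl hxt hxl hx1 huniq hfix
    exact tw.residual h2 hno ⟨p, hp, hp2, hpQ⟩

/-- **`Q` is a `2`-group.** -/
theorem q_isPGroup_two {G : Type u} {Ω : Type v} [Group G] [Fintype G] [MulAction G Ω] [FaithfulSMul G Ω]
    {a : Ω} {t : G} {Q : Subgroup G} (hS : IsRankOneSetup G Ω a t Q)
    (h2 : ∃ x y : G, x ≠ 1 ∧ y ≠ 1 ∧ x ≠ y ∧ x * x = 1 ∧ y * y = 1 ∧ x * y = y * x) :
    IsPGroup 2 Q :=
  isPGroup_of_image hS h2 ⊤ le_top (Subgroup.mem_top t) fun _Q' _t' _ hS' h2' =>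
    q_isPGroup_two_aux _ le_rfl hS' h2'

end Cfsg.Agent.RankOneChar
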