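import Cfsg.Agent.Lib.RankOneChar.Split
import Cfsg.Agent.Lib.Char.Isometry

/-!
# The family of characters over the regular linear characters of `Q`
-/

set_option autoImplicit false
set_option linter.unusedSectionVars false
set_option linter.style.haveILetI false

namespace Cfsg.Agent.RankOneChar

open Cfsg Cfsg.Agent.Char Cfsg.Agent.RankOne MulAction
open scoped ComplexConjugate

universe u v

variable {G : Type u} {Ω : Type v} [Group G] [MulAction G Ω] {a : Ω} {t : G} {Q P T : Subgroup G}

/-- A linear character as a function. -/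
def lv {K : Type u} [Group K] (θ : K →* ℂˣ) : K → ℂ := fun x => (θ x : ℂ)

theorem isClassFunction_lv {K : Type u} [Group K] (θ : K →* ℂˣ) : IsClassFunction K (lv θ) :=
  fun g h => by
    simp only [lv, map_mul, map_inv, mul_comm (θ h) (θ g), mul_inv_cancel_right]

theorem isClassFunction_lv_sub {K : Type u} [Group K] (θ θ' : K →* ℂˣ) :
    IsClassFunction K (lv θ - lv θ') := fun g h => by
  simp only [Pi.sub_apply, isClassFunction_lv θ g h, isClassFunction_lv θ' g h]

theorem lv_sub_one {K : Type u} [Group K] (θ θ' : K →* ℂˣ) : (lv θ - lv θ') 1 = 0 := by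
  simp [lv]

/-- A linear character of `Q` non-trivial on `P` with trivial stabiliser in `D`. -/
def Regular (hS : IsRankOneSetup G Ω a t Q) (sp : Split a Q P T) (θ : Q →* ℂˣ) : Prop :=
  sp.NontrivP θ ∧ ∀ d : twoStab a t, Fixes hS d θ → d = 1

theorem nontrivP_comp (hS : IsRankOneSetup G Ω a t Q) (sp : Split a Q P T) {θ : Q →* ℂˣ}
    (h : sp.NontrivP θ) (d : twoStab a t) : sp.NontrivP (θ.comp (conjQ hS d)) := fun e => h
  (MonoidHom.ext fun x => by
    have hd := (Subgroup.mem_inf.1 d.2).1
    have hx : (d : G) * x * (d : G)⁻¹ ∈ P := sp.P_conj _ hd _ x.2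
    refine Eq.trans (congrArg θ (Subtype.ext ?_)) (DFunLike.congr_fun e (⟨_, hx⟩ : P))
    show (x : G) = (d : G)⁻¹ * ((d : G) * x * (d : G)⁻¹) * d
    group)

variable [Fintype G]

open scoped Classical in
theorem classInner_lv {K : Type u} [Group K] [Fintype K] (θ θ' : K →* ℂˣ) :
    classInner (lv θ) (lv θ') = if θ = θ' then 1 else 0 := classInner_hom θ θ'

open scoped Classical in
/-- The inner products of the induced differences. -/
theorem classInner_ind_lv (hS : IsRankOneSetup G Ω a t Q) (θ θ' η η' : Q →* ℂˣ) :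
    classInner (indFun Q (lv θ - lv θ')) (indFun Q (lv η - lv η')) =
      ∑ d : twoStab a t, (((if θ = η.comp (conjQ hS d) then 1 else 0) -
        (if θ = η'.comp (conjQ hS d) then 1 else 0)) -
        ((if θ' = η.comp (conjQ hS d) then 1 else 0) -
        (if θ' = η'.comp (conjQ hS d) then (1 : ℂ) else 0))) := by
  rw [classInner_indFun_Q hS _ (isClassFunction_lv_sub η η') (lv_sub_one η η')]
  refine Finset.sum_congr rfl fun d _ => ?_
  rw [show (fun x => (lv η - lv η') (conjQ hS d x)) =
    lv (η.comp (conjQ hS d)) - lv (η'.comp (conjQ hS d)) from rfl,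
    classInner_sub_left, classInner_sub_right, classInner_sub_right]
  simp only [classInner_lv]

/-- Owners of the induced differences of the regular orbits. -/
structure Owners (hS : IsRankOneSetup G Ω a t Q) (sp : Split a Q P T) (ι : Type u) [Fintype ι] where
  θ : ι → (Q →* ℂˣ)
  X : ι → IrrCharacter G
  ε : ℂ
  eps : ε = 1 ∨ ε = -1
  inj : Function.Injective X
  reg : ∀ i, Regular hS sp (θ i)
  orbit : ∀ i j (d : twoStab a t), θ i = (θ j).comp (conjQ hS d) → i = j
  card_eq : Nat.card ι * Nat.card (twoStab a t) = Nat.card {θ : Q →* ℂˣ // Regular hS sp θ}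
  ind : ∀ i j, indFun Q (lv (θ i) - lv (θ j)) = ε • ((X i : G → ℂ) - (X j : G → ℂ))

theorem exists_owners (hS : IsRankOneSetup G Ω a t Q) (sp : Split a Q P T)
    (hne : ∃ θ : Q →* ℂˣ, Regular hS sp θ) :
    ∃ (ι : Type u) (_ : Fintype ι), Nonempty (Owners hS sp ι) := by
  classical
  haveI : Finite (Q →* ℂˣ) := finite_hom
  letI := linAction hS
  let R : SubMulAction (twoStab a t) (Q →* ℂˣ) :=
    { carrier := {θ | Regular hS sp θ}
      smul_mem' := fun d θ hθ => ⟨nontrivP_comp hS sp hθ.1 d, fun e he => by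
        have h : d⁻¹ • e • d • θ = θ := by
          rw [show e • d • θ = d • θ from he, inv_smul_smul]
        rw [← mul_smul, ← mul_smul] at h
        have := hθ.2 _ h
        rw [mul_assoc] at this
        calc e = d * (d⁻¹ * (e * d)) * d⁻¹ := by group
          _ = 1 := by rw [this]; group⟩ }
  have hfree : ∀ θ : R, stabilizer (twoStab a t) θ = ⊥ := fun θ =>
    (Subgroup.eq_bot_iff_forall _).2 fun d hd =>
      θ.2.2 d (congrArg Subtype.val (mem_stabilizer_iff.1 hd))
  let ι := Quotient (MulAction.orbitRel (twoStab a t) R)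
  haveI : Fintype ι := Fintype.ofFinite ι
  let θ : ι → (Q →* ℂˣ) := fun i => (i.out : R).1
  have horb : ∀ i j (d : twoStab a t), θ i = (θ j).comp (conjQ hS d) → i = j := fun i j d h => by
    rw [← Quotient.out_eq i, ← Quotient.out_eq j]
    exact Quotient.sound ⟨d, Subtype.ext h.symm⟩
  have hreg : ∀ i, Regular hS sp (θ i) := fun i => (i.out : R).2
  obtain ⟨θ₀, hθ₀⟩ := hne
  let i₀ : ι := Quotient.mk _ ⟨θ₀, hθ₀⟩
  have hone : ∀ i j (d : twoStab a t), (θ i = (θ j).comp (conjQ hS d)) ↔ (i = j ∧ d = 1) := by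
    intro i j d
    constructor
    · intro h
      obtain rfl := horb i j d h
      exact ⟨rfl, (hreg i).2 d h.symm⟩
    · rintro ⟨rfl, rfl⟩
      exact MonoidHom.ext fun x => by rw [MonoidHom.comp_apply, conjQ_one]
  have hgram : ∀ i j, i ≠ i₀ → j ≠ i₀ →
      classInner (indFun Q (lv (θ i) - lv (θ i₀))) (indFun Q (lv (θ j) - lv (θ i₀))) =
        if i = j then 2 else 1 := by
    intro i j hi hj
    rw [classInner_ind_lv hS]
    simp only [hone, hi, Ne.symm hj, false_and, if_false, true_and, sub_zero, zero_sub,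
      Finset.sum_sub_distrib]
    by_cases hij : i = j
    · simp [hij]
      norm_num
    · simp [hij]
  obtain ⟨ε, hε, μ, hμ, hinj, hτ⟩ := Char.isometry_lemma i₀
    (fun i => indFun Q (lv (θ i) - lv (θ i₀))) (by simp [indFun_zero])
    (fun i => IsGeneralizedCharacter.indFun Q
      (IsGeneralizedCharacter.sub
        (IsGeneralizedCharacter.of_isCharacter (IsIrrCharacter.isCharacter (isIrrCharacter_linear (θ i))))
        (IsGeneralizedCharacter.of_isCharacter (IsIrrCharacter.isCharacter (isIrrCharacter_linear (θ i₀))))))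
    (fun i => by rw [indFun_one_apply, lv_sub_one, mul_zero]) hgram
  refine ⟨ι, inferInstance, ⟨⟨θ, fun i => ⟨μ i, hμ i⟩, ε, hε,
    fun i j h => hinj (congrArg Subtype.val h), hreg, horb, ?_, fun i j => ?_⟩⟩⟩
  · rw [← Nat.card_prod]
    exact (Nat.card_congr (MulAction.selfEquivOrbitsQuotientProd hfree)).symm
  · rw [show lv (θ i) - lv (θ j) = (lv (θ i) - lv (θ i₀)) - (lv (θ j) - lv (θ i₀)) by abel,
      indFun_sub, hτ, hτ]
    simp only [← smul_sub]
    congr 1
    show μ i - μ i₀ - (μ j - μ i₀) = μ i - μ j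
    abel

namespace Owners

variable {hS : IsRankOneSetup G Ω a t Q} {sp : Split a Q P T} {ι : Type u} [Fintype ι]
  (ow : Owners hS sp ι)
include ow

theorem eps_ne_zero : ow.ε ≠ 0 := by rcases ow.eps with h | h <;> rw [h] <;> norm_num

theorem diff_Q (i j : ι) (x : Q) : ow.ε * ((ow.X i : G → ℂ) x - (ow.X j : G → ℂ) x) =
    ∑ d : twoStab a t, ((ow.θ i (conjQ hS d x) : ℂ) - (ow.θ j (conjQ hS d x) : ℂ)) := by
  have h := congrFun (ow.ind i j) (x : G)
  rw [indFun_Q_coe hS (isClassFunction_lv_sub _ _) (lv_sub_one _ _)] at h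
  exact h.symm

theorem diff_off (i j : ι) {y : G} (hy : y ∈ stabilizer G a) (hq : y ∉ Q) :
    (ow.X i : G → ℂ) y = (ow.X j : G → ℂ) y := by
  have h := congrFun (ow.ind i j) y
  rw [indFun_Q_off hS (isClassFunction_lv_sub _ _) (lv_sub_one _ _) hy hq] at h
  exact sub_eq_zero.1 ((mul_eq_zero.1 h.symm).resolve_left ow.eps_ne_zero)

/-- A character outside the family has the same multiplicity at all regular orbits. -/
theorem inner_eq {χ : IrrCharacter G} (hχ : ∀ i, ow.X i ≠ χ) (i j : ι) :
    classInner (fun x : Q => (χ : G → ℂ) x) (lv (ow.θ i)) =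
      classInner (fun x : Q => (χ : G → ℂ) x) (lv (ow.θ j)) := by
  have hc := IsCharacter.isClassFunction (IsIrrCharacter.isCharacter χ.2)
  have h := classInner_indFun_right Q (lv (ow.θ i) - lv (ow.θ j)) hc
  rw [ow.ind, classInner_smul_right, classInner_sub_right, classInner_sub_right,
    classInner_irr_of_ne χ.2 (ow.X i).2 (fun e => hχ i (Subtype.ext e.symm)),
    classInner_irr_of_ne χ.2 (ow.X j).2 (fun e => hχ j (Subtype.ext e.symm))] at h
  simp only [sub_zero, mul_zero] at h
  exact sub_eq_zero.1 h.symm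

/-- Weighted sums over a subgroup between `Q` and `G_a` agree on the family when the weight on `Q`
depends on the `T`-part only. -/
theorem sum_eq {M : Subgroup G} (hQM : Q ≤ M) (hM : M ≤ stabilizer G a) (w : G → ℂ)
    (hw : ∀ x ∈ P, ∀ s ∈ T, w (x * s) = w s) (i j : ι) :
    ∑ m : M, (ow.X i : G → ℂ) m * w m = ∑ m : M, (ow.X j : G → ℂ) m * w m := by
  classical
  set F : G → ℂ := fun g => ((ow.X i : G → ℂ) g - (ow.X j : G → ℂ) g) * w g with hF
  have h1 : ∑ m : M, F m = ∑ q : Q, F q := by
    rw [← Finset.sum_subtype (Finset.univ.filter (· ∈ M)) (by simp) F,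
      ← Finset.sum_subtype (Finset.univ.filter (· ∈ Q)) (by simp) F]
    refine (Finset.sum_subset (fun g hg => ?_) fun g hg hgQ => ?_).symm
    · exact Finset.mem_filter.2 ⟨Finset.mem_univ _, hQM (Finset.mem_filter.1 hg).2⟩
    · have hq : g ∉ Q := fun h => hgQ (Finset.mem_filter.2 ⟨Finset.mem_univ _, h⟩)
      simp [hF, ow.diff_off i j (hM (Finset.mem_filter.1 hg).2) hq]
  have h2 : ow.ε * ∑ q : Q, F q = 0 := by
    set ψ : twoStab a t → ι → (Q →* ℂˣ) := fun d k => (ow.θ k).comp (conjQ hS d)
    have key : ∀ k d, ∑ q : Q, (ψ d k q : ℂ) * w q = 0 := by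
      intro k d
      let W : G → ℂ := fun g => if hg : g ∈ Q then (ψ d k ⟨g, hg⟩ : ℂ) * w g else 0
      have hW : ∀ q : Q, (ψ d k q : ℂ) * w q = W q := fun q => by simp [W, q.2]
      rw [Finset.sum_congr rfl fun q _ => hW q, sp.sum_Q W, Finset.sum_comm]
      refine Finset.sum_eq_zero fun y _ => ?_
      have hW2 : ∀ x : P, W (x * y) =
          (((ψ d k).comp sp.inP x : ℂˣ) : ℂ) * ((ψ d k (sp.inT y) : ℂ) * w y) := fun x => by
        have hm : (x : G) * y ∈ Q := mul_mem (sp.P_le x.2) (sp.T_le y.2)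
        simp only [W, dif_pos hm, hw _ x.2 _ y.2]
        rw [show (⟨(x : G) * y, hm⟩ : Q) = sp.inP x * sp.inT y from rfl, map_mul, Units.val_mul,
          mul_assoc]
        rfl
      rw [Finset.sum_congr rfl fun x _ => hW2 x, ← Finset.sum_mul, sum_hom,
        if_neg (nontrivP_comp hS sp (ow.reg k).1 d), zero_mul]
    rw [Finset.mul_sum, Finset.sum_congr rfl fun (q : Q) _ => show ow.ε * F q =
        ∑ d : twoStab a t, ((ψ d i q : ℂ) * w q - (ψ d j q : ℂ) * w q) by
      rw [hF]; simp only
      rw [← mul_assoc, ow.diff_Q, Finset.sum_mul]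
      exact Finset.sum_congr rfl fun d _ => sub_mul _ _ _, Finset.sum_comm]
    exact Finset.sum_eq_zero fun d _ => by rw [Finset.sum_sub_distrib, key, key, sub_zero]
  have h3 := (mul_eq_zero.1 h2).resolve_left ow.eps_ne_zero
  rw [← h1, hF] at h3
  simpa [sub_mul, sub_eq_zero] using h3

/-- No member of the family is constant on `Q`. -/
theorem not_const [Nontrivial ι] (i : ι) : ¬ ∀ q : Q, (ow.X i : G → ℂ) q = (ow.X i : G → ℂ) 1 := by
  classical
  intro h
  obtain ⟨j, hj⟩ := exists_ne i
  have hzero : ∀ k, classInner (fun x : Q => (ow.X i : G → ℂ) x) (lv (ow.θ k)) = 0 := by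
    intro k
    simp only [classInner, h, lv, ← Finset.mul_sum]
    rw [sum_hom_conj, if_neg, mul_zero, mul_zero]
    intro e
    exact (ow.reg k).1 (by rw [e]; rfl)
  -- the coefficients of the difference
  have hcoef : ∀ k, ow.ε * (classInner (fun x : Q => (ow.X i : G → ℂ) x) (lv (ow.θ k)) -
      classInner (fun x : Q => (ow.X j : G → ℂ) x) (lv (ow.θ k))) =
      (if k = i then 1 else 0) - (if k = j then 1 else 0) := by
    intro k
    rw [← classInner_sub_left, ← classInner_smul_left,
      show ow.ε • ((fun x : Q => (ow.X i : G → ℂ) x) - fun x : Q => (ow.X j : G → ℂ) x) =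
        ∑ d : twoStab a t, (lv ((ow.θ i).comp (conjQ hS d)) - lv ((ow.θ j).comp (conjQ hS d))) by
          funext x
          simp only [Pi.smul_apply, Pi.sub_apply, smul_eq_mul, Finset.sum_apply]
          exact ow.diff_Q i j x, classInner_sum_left]
    simp only [classInner_sub_left, classInner_lv]
    rw [Finset.sum_sub_distrib]
    have : ∀ l, (∑ d : twoStab a t, if (ow.θ l).comp (conjQ hS d) = ow.θ k then (1 : ℂ) else 0) =
        if k = l then 1 else 0 := by
      intro l
      split_ifs with hkl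
      · subst hkl
        rw [Finset.sum_eq_single (1 : twoStab a t) (fun (d : twoStab a t) _ hd => if_neg (c := (ow.θ k).comp (conjQ hS d) = ow.θ k) fun e => hd ((ow.reg k).2 d e))
          (fun h => absurd (Finset.mem_univ _) h), if_pos]
        exact MonoidHom.ext fun x => by rw [MonoidHom.comp_apply, conjQ_one]
      · exact Finset.sum_eq_zero fun d _ => if_neg fun e => hkl (ow.orbit k l d e.symm)
    rw [this, this]
  have hchar : IsCharacter Q (fun x : Q => (ow.X j : G → ℂ) x) :=
    IsCharacter.restrict (IsIrrCharacter.isCharacter (ow.X j).2) Q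
  obtain ⟨a₁, ha₁⟩ := IsCharacter.exists_classInner_nat hchar
    (IsIrrCharacter.isCharacter (isIrrCharacter_linear (ow.θ i)))
  obtain ⟨a₂, ha₂⟩ := IsCharacter.exists_classInner_nat hchar
    (IsIrrCharacter.isCharacter (isIrrCharacter_linear (ow.θ j)))
  have e1 := hcoef i
  have e2 := hcoef j
  rw [hzero, show classInner (fun x : Q => (ow.X j : G → ℂ) x) (lv (ow.θ i)) = a₁ from ha₁,
    if_pos rfl, if_neg (Ne.symm hj)] at e1
  rw [hzero, show classInner (fun x : Q => (ow.X j : G → ℂ) x) (lv (ow.θ j)) = a₂ from ha₂,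
    if_pos rfl, if_neg hj] at e2
  rcases ow.eps with he | he <;> rw [he] at e1 e2
  · have : ((a₁ : ℤ) : ℂ) = ((-1 : ℤ) : ℂ) := by push_cast; linear_combination -e1
    have := Int.cast_injective this
    omega
  · have : ((a₂ : ℤ) : ℂ) = ((-1 : ℤ) : ℂ) := by push_cast; linear_combination e2
    have := Int.cast_injective this
    omega

/-- A class function with constant inner product on the family has large norm. -/
theorem card_mul_normSq_le {F : G → ℂ} (hF : IsClassFunction G F) {c : ℂ}
    (hc : ∀ i, classInner F (ow.X i : G → ℂ) = c) :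
    (Nat.card ι : ℝ) * Complex.normSq c ≤ (classInner F F).re := by
  have h := bessel ow.inj hF
  simp only [hc, Finset.sum_const, Finset.card_univ, nsmul_eq_mul] at h
  rwa [Nat.card_eq_fintype_card]

end Owners

end Cfsg.Agent.RankOneChar
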