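import Cfsg.Agent.Lib.Char.Complete
import Cfsg.Agent.Lib.Char.Induction
import Cfsg.Agent.Lib.Char.Degree

/-!
# Inequalities for class functions used in the rank-one set-up
-/

set_option autoImplicit false
set_option linter.unusedSectionVars false
set_option linter.style.haveILetI false

namespace Cfsg.Agent.RankOneChar

open Cfsg Cfsg.Agent.Char
open scoped ComplexConjugate

universe u

/-- The counting instance for subgroups used throughout. -/
noncomputable scoped instance (priority := high) subFintype {G : Type u} [Group G] [Finite G]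
    (K : Subgroup G) : Fintype K := Fintype.ofFinite K

variable {G : Type u} [Group G] [Fintype G]

theorem classInner_self_normSq (f : G → ℂ) :
    (classInner f f).re = (Nat.card G : ℝ)⁻¹ * ∑ g : G, Complex.normSq (f g) := by
  rw [classInner_self_eq, Complex.ofReal_re]
  simp only [Complex.normSq_eq_norm_sq]

theorem classInner_self_im (f : G → ℂ) : classInner f f = ((classInner f f).re : ℂ) := by
  rw [classInner_self_eq, Complex.ofReal_re]

theorem parseval {f : G → ℂ} (hf : IsClassFunction G f) :
    (classInner f f).re = ∑ χ : IrrCharacter G, Complex.normSq (classInner f (χ : G → ℂ)) := by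
  conv_lhs => rw [classFunction_eq_sum hf, classInner_combination₂]
  simp only [Complex.mul_conj, ← Complex.ofReal_sum, Complex.ofReal_re]

/-- Bessel's inequality for a family of distinct irreducible characters. -/
theorem bessel {ι : Type*} [Fintype ι] {X : ι → IrrCharacter G} (hX : Function.Injective X)
    {f : G → ℂ} (hf : IsClassFunction G f) :
    ∑ i, Complex.normSq (classInner f (X i : G → ℂ)) ≤ (classInner f f).re := by
  classical
  rw [parseval hf, ← Finset.sum_image (g := X)
    (f := fun χ : IrrCharacter G => Complex.normSq (classInner f (χ : G → ℂ))) (fun i _ j _ h => hX h)]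
  exact Finset.sum_le_sum_of_subset_of_nonneg (Finset.subset_univ _)
    fun _ _ _ => Complex.normSq_nonneg _

theorem classInner_hom [DecidableEq (G →* ℂˣ)] (θ θ' : G →* ℂˣ) :
    classInner (fun g => (θ g : ℂ)) (fun g => (θ' g : ℂ)) = if θ = θ' then 1 else 0 := by
  split_ifs with h
  · subst h
    exact classInner_self_irr (isIrrCharacter_linear θ)
  · refine classInner_irr_of_ne (isIrrCharacter_linear θ) (isIrrCharacter_linear θ') fun e => h ?_
    exact MonoidHom.ext fun g => Units.ext (congrFun e g)

theorem sum_hom (θ : G →* ℂˣ) [Decidable (θ = 1)] :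
    ∑ g : G, (θ g : ℂ) = if θ = 1 then (Nat.card G : ℂ) else 0 := by
  classical
  have h := classInner_hom θ 1
  simp only [classInner, MonoidHom.one_apply, Units.val_one, map_one, mul_one] at h
  have hG : (Nat.card G : ℂ) ≠ 0 := Nat.cast_ne_zero.2 Nat.card_pos.ne'
  rw [inv_mul_eq_iff_eq_mul₀ hG] at h
  rw [h]
  split_ifs <;> simp

theorem sum_hom_conj (θ : G →* ℂˣ) [Decidable (θ = 1)] :
    ∑ g : G, conj (θ g : ℂ) = if θ = 1 then (Nat.card G : ℂ) else 0 := by
  rw [← map_sum, sum_hom]
  split_ifs <;> simp

/-- The squared degrees of the characters trivial on a normal subgroup sum to its index. -/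
theorem sum_sq_trivialOn (N : Subgroup G) [N.Normal] (s : Finset (IrrCharacter G))
    (hs : ∀ χ : IrrCharacter G, χ ∈ s ↔ ∀ x ∈ N, (χ : G → ℂ) x = (χ : G → ℂ) 1) :
    ∑ χ ∈ s, charDegree (χ : G → ℂ) ^ 2 = N.index := by
  classical
  haveI : Fintype (G ⧸ N) := Fintype.ofFinite _
  rw [Cfsg.Agent.CharX.sum_trivialOn' N s hs (fun f => charDegree f ^ 2), Subgroup.index,
    ← Cfsg.Agent.CharX.sum_deg_sq (G := G ⧸ N)]
  exact Finset.sum_congr rfl fun χ _ => rfl

open scoped Classical in
/-- The variance inequality: the coefficients of a character at the non-principal irreducible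
characters are close to a multiple of the degrees, unless the character is large off the identity. -/
theorem variance (hG : 1 < Nat.card G) {f : G → ℂ} (hf : IsClassFunction G f) (m : IrrCharacter G → ℕ)
    (hm : ∀ χ : IrrCharacter G, classInner f (χ : G → ℂ) = (m χ : ℂ)) :
    ∃ c : ℝ, (∑ χ : IrrCharacter G, (m χ : ℝ) * charDegree (χ : G → ℂ)) - m (principal G) =
        c * ((Nat.card G : ℝ) - 1) ∧
      ∀ s : Finset (IrrCharacter G), principal G ∉ s →
        (Nat.card G : ℝ) * ∑ χ ∈ s, ((m χ : ℝ) - c * charDegree (χ : G → ℂ)) ^ 2 ≤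
          ∑ g ∈ Finset.univ.filter (fun g : G => g ≠ 1), Complex.normSq (f g) := by
  classical
  have hG0 : (Nat.card G : ℂ) ≠ 0 := Nat.cast_ne_zero.2 Nat.card_pos.ne'
  have hG1 : (Nat.card G : ℝ) - 1 ≠ 0 := by
    have : (1 : ℝ) < (Nat.card G : ℝ) := by exact_mod_cast hG
    linarith
  set μ : ℝ := (m (principal G) : ℝ) with hμ
  set S : ℝ := ∑ χ : IrrCharacter G, (m χ : ℝ) * charDegree (χ : G → ℂ) with hS
  have hf1 : f 1 = (S : ℂ) := by
    conv_lhs => rw [classFunction_eq_sum hf]
    simp only [Finset.sum_apply, Pi.smul_apply, smul_eq_mul, hm, hS]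
    push_cast
    exact Finset.sum_congr rfl fun χ _ => by rw [Cfsg.Agent.CharX.irr_deg]
  set c : ℝ := (S - μ) / ((Nat.card G : ℝ) - 1) with hc
  have hcS : S - μ = c * ((Nat.card G : ℝ) - 1) := by rw [hc, div_mul_cancel₀ _ hG1]
  refine ⟨c, hcS, fun s hs => ?_⟩
  set k : ℝ := μ - c with hk
  set g : G → ℂ := fun x => f x - (k : ℂ) - (if x = 1 then ((c * Nat.card G : ℝ) : ℂ) else 0) with hg
  have hg1 : g 1 = 0 := by
    simp only [hg, if_pos]
    rw [hf1, ← Complex.ofReal_sub, ← Complex.ofReal_sub, Complex.ofReal_eq_zero, hk]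
    linear_combination hcS
  have hgne : ∀ x, x ≠ 1 → g x = f x - (k : ℂ) := fun x hx => by simp [hg, hx]
  have hgc : IsClassFunction G g := fun x y => by
    simp only [hg, hf x y, conj_eq_one_iff]
  have hone : ∀ χ : IrrCharacter G, classInner (fun _ : G => (1 : ℂ)) (χ : G → ℂ) =
      if χ = principal G then 1 else 0 := by
    intro χ
    split_ifs with h
    · subst h; exact classInner_self_irr isIrrCharacter_one
    · exact classInner_irr_of_ne isIrrCharacter_one χ.2 fun e => h (Subtype.ext e.symm)
  have hcoef : ∀ χ : IrrCharacter G, classInner g (χ : G → ℂ) =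
      (((m χ : ℝ) - k * (if χ = principal G then 1 else 0) - c * charDegree (χ : G → ℂ) : ℝ) : ℂ) := by
    intro χ
    have e1 : g = f - (k : ℂ) • (fun _ => (1 : ℂ)) -
        fun x => if x = 1 then ((c * Nat.card G : ℝ) : ℂ) else 0 := by
      funext x; simp [hg]
    rw [e1, classInner_sub_left, classInner_sub_left, classInner_smul_left, hm, hone]
    simp only [classInner, ite_mul, zero_mul, Finset.sum_ite_eq', Finset.mem_univ, if_true,
      Cfsg.Agent.CharX.irr_deg, map_natCast]
    push_cast
    split_ifs <;> field_simp <;> push_cast <;> ring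
  have hnn := parseval hgc
  rw [classInner_self_normSq] at hnn
  have hpart : ∑ χ ∈ s, ((m χ : ℝ) - c * charDegree (χ : G → ℂ)) ^ 2 ≤
      ∑ χ : IrrCharacter G, Complex.normSq (classInner g (χ : G → ℂ)) := by
    refine le_trans (le_of_eq (Finset.sum_congr rfl fun χ hχ => ?_))
      (Finset.sum_le_sum_of_subset_of_nonneg (Finset.subset_univ s) fun _ _ _ => Complex.normSq_nonneg _)
    have : χ ≠ principal G := fun h => hs (h ▸ hχ)
    rw [hcoef, if_neg this, Complex.normSq_ofReal]
    ring
  rw [← hnn] at hpart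
  have hGpos : (0 : ℝ) < (Nat.card G : ℝ) := by exact_mod_cast Nat.card_pos
  refine le_trans (mul_le_mul_of_nonneg_left hpart hGpos.le) ?_
  rw [← mul_assoc, mul_inv_cancel₀ hGpos.ne', one_mul,
    ← Finset.add_sum_erase _ _ (Finset.mem_univ (1 : G)), hg1, map_zero, zero_add]
  have hfilter : Finset.univ.filter (fun g : G => g ≠ 1) = Finset.univ.erase 1 := by
    ext x; simp
  rw [hfilter]
  set E := (Finset.univ : Finset G).erase 1 with hE
  have hsumf : ∑ x ∈ E, (f x).re = ((Nat.card G : ℝ) - 1) * k := by
    have h1 := hone (principal G)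
    have h2 := hm (principal G)
    simp only [classInner, principal, map_one, mul_one] at h2
    rw [inv_mul_eq_iff_eq_mul₀ hG0] at h2
    have h3 : (∑ x : G, f x).re = (Nat.card G : ℝ) * μ := by
      rw [h2, hμ]; simp [principal]
    rw [Complex.re_sum, ← Finset.add_sum_erase _ _ (Finset.mem_univ (1 : G)), hf1,
      Complex.ofReal_re] at h3
    rw [hk]
    linear_combination h3 - hcS
  have hEcard : (E.card : ℝ) = (Nat.card G : ℝ) - 1 := by
    rw [hE, Finset.card_erase_of_mem (Finset.mem_univ _), Finset.card_univ, ← Nat.card_eq_fintype_card,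
      Nat.cast_sub Nat.card_pos, Nat.cast_one]
  have hexp : ∀ x ∈ E, Complex.normSq (g x) = Complex.normSq (f x) - 2 * k * (f x).re + k ^ 2 := by
    intro x hx
    rw [hgne x (Finset.mem_erase.1 hx).1, Complex.normSq_sub]
    simp [Complex.normSq_ofReal]
    ring
  rw [Finset.sum_congr rfl hexp, Finset.sum_add_distrib, Finset.sum_sub_distrib, ← Finset.mul_sum,
    hsumf, Finset.sum_const, nsmul_eq_mul, hEcard]
  nlinarith [mul_nonneg (sq_nonneg k) (sub_nonneg.2 (show (1 : ℝ) ≤ (Nat.card G : ℝ) by
    exact_mod_cast hG.le))]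

/-- A character of norm two is the sum of two distinct irreducible characters. -/
theorem norm_two {χ : G → ℂ} (h : IsCharacter G χ) (h2 : classInner χ χ = 2) :
    ∃ A B : IrrCharacter G, A ≠ B ∧ χ = (A : G → ℂ) + (B : G → ℂ) := by
  classical
  obtain ⟨m, hm⟩ := IsCharacter.exists_decomp h
  rw [hm, classInner_combination₂] at h2
  simp only [map_natCast] at h2
  have h2' : ∑ ψ, m ψ * m ψ = 2 := by exact_mod_cast h2
  have hle : ∀ ψ, m ψ ≤ 1 := fun ψ => by
    have := Finset.single_le_sum (fun ψ _ => Nat.zero_le (m ψ * m ψ)) (Finset.mem_univ ψ)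
    rw [h2'] at this
    nlinarith
  set s := Finset.univ.filter fun ψ => m ψ = 1 with hs
  have hv : ∀ ψ, m ψ = if ψ ∈ s then 1 else 0 := fun ψ => by
    have := hle ψ
    simp only [hs, Finset.mem_filter, Finset.mem_univ, true_and]
    split_ifs <;> omega
  have hcard : s.card = 2 := by
    rw [← h2', Finset.card_eq_sum_ones, ← Finset.sum_filter_add_sum_filter_not Finset.univ
      (fun ψ => m ψ = 1) (fun ψ => m ψ * m ψ)]
    rw [Finset.sum_eq_zero (s := Finset.univ.filter fun ψ => ¬ m ψ = 1) (fun ψ hψ => by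
      have := hle ψ
      have h0 : m ψ = 0 := by simp only [Finset.mem_filter] at hψ; omega
      rw [h0, mul_zero]), add_zero]
    exact Finset.sum_congr rfl fun ψ hψ => by rw [(Finset.mem_filter.1 hψ).2]
  obtain ⟨A, B, hne, hAB⟩ := Finset.card_eq_two.1 hcard
  refine ⟨A, B, hne, ?_⟩
  rw [hm, ← Finset.sum_subset (Finset.subset_univ s) (fun ψ _ hψ => by
    rw [hv, if_neg hψ, Nat.cast_zero, zero_smul]), hAB, Finset.sum_pair hne]
  simp [hv, hAB]

/-- A group acting freely has order dividing the number of points. -/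
theorem card_dvd_of_free {A : Type*} [Group A] {X : Type*} [MulAction A X]
    (h : ∀ (g : A) (x : X), g • x = x → g = 1) : Nat.card A ∣ Nat.card X := by
  have hs : ∀ x : X, MulAction.stabilizer A x = ⊥ := fun x =>
    (Subgroup.eq_bot_iff_forall _).2 fun g hg => h g x hg
  rw [Nat.card_congr (MulAction.selfEquivOrbitsQuotientProd hs), Nat.card_prod]
  exact dvd_mul_left _ _

end Cfsg.Agent.RankOneChar
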