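import Cfsg.Agent.Lib.RankOneChar.Gen
import Cfsg.Agent.Lib.RankOne.Structure
import Mathlib.GroupTheory.Coset.Card

/-!
# Induction from subgroups of a point stabiliser in the rank-one set-up
-/

set_option autoImplicit false
set_option linter.unusedSectionVars false
set_option linter.style.haveILetI false

namespace Cfsg.Agent.RankOneChar

open Cfsg Cfsg.Agent.Char Cfsg.Agent.RankOne MulAction
open scoped ComplexConjugate

universe u v

variable {G : Type u} {Ω : Type v} [Group G] [MulAction G Ω] {a : Ω} {t : G} {Q : Subgroup G}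

/-- An element fixing no point other than `a`. -/
def Lonely (a : Ω) (y : G) : Prop := ∀ c : Ω, y • c = c → c = a

theorem not_lonely_twoStab (hS : IsRankOneSetup G Ω a t Q) {d : G} (hd : d ∈ twoStab a t) :
    ¬ Lonely a d := fun h => ta_ne hS (h _ (mem_twoStab hS hd).2)

theorem not_lonely_one (hS : IsRankOneSetup G Ω a t Q) : ¬ Lonely a (1 : G) :=
  not_lonely_twoStab hS (one_mem _)

theorem lonely_of_mem_Q (hS : IsRankOneSetup G Ω a t Q) {x : G} (hx : x ∈ Q) (hx1 : x ≠ 1) :
    Lonely a x := fun _ hc => eq_a_of_fixed hS hx hx1 hc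

theorem exists_conj_twoStab (hS : IsRankOneSetup G Ω a t Q) {y : G} (hy : y ∈ stabilizer G a)
    (h : ¬ Lonely a y) : ∃ q ∈ Q, q⁻¹ * y * q ∈ twoStab a t := by
  unfold Lonely at h
  push Not at h
  obtain ⟨c, hc, hca⟩ := h
  obtain ⟨q, hq, rfl⟩ := exists_q_smul hS hca
  refine ⟨q, hq, Subgroup.mem_inf.2 ⟨?_, ?_⟩⟩
  · exact mul_mem (mul_mem (inv_mem (hS.le hq)) hy) (hS.le hq)
  · rw [mem_stabilizer_iff, mul_smul, mul_smul, hc, inv_smul_smul]

/-- Fusion: a conjugating element between lonely elements fixes `a`. -/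
theorem mem_stabilizer_of_conj {y x : G} (hy : y ∈ stabilizer G a)
    (hl : Lonely a (x⁻¹ * y * x)) : x ∈ stabilizer G a := by
  have h : x⁻¹ • a = a := hl _ (by
    rw [mul_smul, mul_smul, smul_inv_smul, mem_stabilizer_iff.1 hy])
  exact inv_inv x ▸ inv_mem (mem_stabilizer_iff.2 h)

theorem mem_stabilizer_of_conj' {y x : G} (hy : Lonely a y)
    (hx : x⁻¹ * y * x ∈ stabilizer G a) : x ∈ stabilizer G a := by
  rw [mem_stabilizer_iff, mul_smul, mul_smul, inv_smul_eq_iff] at hx
  exact mem_stabilizer_iff.2 (hy _ hx)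

/-- `x ↦ d⁻¹ x d` on `Q`. -/
def conjQ (hS : IsRankOneSetup G Ω a t Q) (d : twoStab a t) : Q →* Q where
  toFun x := ⟨(d : G)⁻¹ * (x : G) * d, by
    simpa using hS.conj_mem (d : G)⁻¹ (inv_mem (Subgroup.mem_inf.1 d.2).1) _ x.2⟩
  map_one' := Subtype.ext (by simp)
  map_mul' x y := Subtype.ext (by simp [mul_assoc])

@[simp] theorem conjQ_coe (hS : IsRankOneSetup G Ω a t Q) (d : twoStab a t) (x : Q) :
    ((conjQ hS d x : Q) : G) = (d : G)⁻¹ * (x : G) * d := rfl

theorem conjQ_one (hS : IsRankOneSetup G Ω a t Q) (x : Q) : conjQ hS 1 x = x :=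
  Subtype.ext (by simp)

theorem conjQ_mul (hS : IsRankOneSetup G Ω a t Q) (d e : twoStab a t) (x : Q) :
    conjQ hS (d * e) x = conjQ hS e (conjQ hS d x) := Subtype.ext (by simp [mul_assoc])

theorem conjQ_bijective (hS : IsRankOneSetup G Ω a t Q) (d : twoStab a t) :
    Function.Bijective (conjQ hS d) := by
  refine ⟨fun x y h => ?_, fun x => ⟨conjQ hS d⁻¹ x, ?_⟩⟩
  · have := congrArg (conjQ hS d⁻¹) h
    rwa [← conjQ_mul, ← conjQ_mul, mul_inv_cancel, conjQ_one, conjQ_one] at this
  · rw [← conjQ_mul, inv_mul_cancel, conjQ_one]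

/-- The action of `D` on the linear characters of `Q`. -/
@[reducible]
def linAction (hS : IsRankOneSetup G Ω a t Q) : MulAction (twoStab a t) (Q →* ℂˣ) where
  smul d θ := θ.comp (conjQ hS d)
  one_smul θ := MonoidHom.ext fun x => congrArg θ (conjQ_one hS x)
  mul_smul d e θ := MonoidHom.ext fun x => congrArg θ (conjQ_mul hS d e x)

/-- `D` fixes `θ` under the action on linear characters. -/
def Fixes (hS : IsRankOneSetup G Ω a t Q) (d : twoStab a t) (θ : Q →* ℂˣ) : Prop :=
  θ.comp (conjQ hS d) = θ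

/-- The `D`-part of an element of `G_a`. -/
noncomputable def dPart (hS : IsRankOneSetup G Ω a t Q) : stabilizer G a →* twoStab a t where
  toFun g := ⟨(exists_qd hS g.2).choose_spec.2.choose, (exists_qd hS g.2).choose_spec.2.choose_spec.1⟩
  map_one' := by
    have hq := (exists_qd hS (one_mem (stabilizer G a))).choose_spec.1
    obtain ⟨hd, he⟩ := (exists_qd hS (one_mem (stabilizer G a))).choose_spec.2.choose_spec
    exact Subtype.ext (qd_unique hS (one_mem _) hq (one_mem _) hd (by rw [one_mul]; exact he)).2.symm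
  map_mul' g h := by
    have hq := (exists_qd hS (g * h).2).choose_spec.1
    obtain ⟨hd, he⟩ := (exists_qd hS (g * h).2).choose_spec.2.choose_spec
    have hq1 := (exists_qd hS g.2).choose_spec.1
    obtain ⟨hd1, he1⟩ := (exists_qd hS g.2).choose_spec.2.choose_spec
    have hq2 := (exists_qd hS h.2).choose_spec.1
    obtain ⟨hd2, he2⟩ := (exists_qd hS h.2).choose_spec.2.choose_spec
    refine Subtype.ext (qd_unique hS (mul_mem hq1 (hS.conj_mem _ (Subgroup.mem_inf.1 hd1).1 _ hq2)) hq
      (mul_mem hd1 hd2) hd ?_).2.symm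
    refine Eq.trans ?_ he
    rw [Subgroup.coe_mul]
    conv_rhs => rw [he1, he2]
    group

theorem dPart_spec (hS : IsRankOneSetup G Ω a t Q) (g : stabilizer G a) :
    (g : G) * ((dPart hS g : twoStab a t) : G)⁻¹ ∈ Q := by
  have hq := (exists_qd hS g.2).choose_spec.1
  obtain ⟨-, he⟩ := (exists_qd hS g.2).choose_spec.2.choose_spec
  exact (mul_inv_eq_iff_eq_mul.2 he).symm ▸ hq

theorem dPart_mul_eq (hS : IsRankOneSetup G Ω a t Q) {q d : G} (hq : q ∈ Q) (hd : d ∈ twoStab a t)
    (g : stabilizer G a) (hg : (g : G) = q * d) : dPart hS g = ⟨d, hd⟩ :=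
  Subtype.ext (qd_unique hS (dPart_spec hS g) hq (dPart hS g).2 hd (by rw [← hg]; group)).2

theorem dPart_of_mem_Q (hS : IsRankOneSetup G Ω a t Q) (g : stabilizer G a) (hg : (g : G) ∈ Q) :
    dPart hS g = 1 :=
  dPart_mul_eq hS hg (one_mem _) g (mul_one _).symm

theorem dPart_twoStab (hS : IsRankOneSetup G Ω a t Q) (g : stabilizer G a)
    (hg : (g : G) ∈ twoStab a t) : dPart hS g = ⟨g, hg⟩ :=
  dPart_mul_eq hS (one_mem _) hg g (one_mul _).symm

/-! ## Induction -/

variable [Fintype G]

theorem indFun_lonely {M : Subgroup G} (hM : M ≤ stabilizer G a) (f : M → ℂ) {y : G}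
    (hl : Lonely a y) :
    indFun M f y = (Nat.card M : ℂ)⁻¹ *
      ∑ x : stabilizer G a, extendByZero M f ((x : G)⁻¹ * y * x) := by
  classical
  rw [indFun_apply, ← Finset.sum_subtype (Finset.univ.filter (· ∈ stabilizer G a)) (by simp)
    (fun x => extendByZero M f (x⁻¹ * y * x)), Finset.sum_filter_of_ne]
  intro x _ hx
  refine mem_stabilizer_of_conj' hl ?_
  by_contra h
  exact hx (extendByZero_not_mem M f fun hm => h (hM hm))

/-- A function vanishing at the elements with two fixed points. -/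
def Supp (a : Ω) (M : Subgroup G) (f : M → ℂ) : Prop := ∀ m : M, f m ≠ 0 → Lonely a (m : G)

theorem indFun_supp {M : Subgroup G} {f : M → ℂ} (hf : Supp a M f) {y : G}
    (hy : y ∈ stabilizer G a) :
    indFun M f y = (Nat.card M : ℂ)⁻¹ *
      ∑ x : stabilizer G a, extendByZero M f ((x : G)⁻¹ * y * x) := by
  classical
  rw [indFun_apply, ← Finset.sum_subtype (Finset.univ.filter (· ∈ stabilizer G a)) (by simp)
    (fun x => extendByZero M f (x⁻¹ * y * x)), Finset.sum_filter_of_ne]
  intro x _ hx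
  by_cases hm : x⁻¹ * y * x ∈ M
  · rw [extendByZero_mem M f hm] at hx
    exact mem_stabilizer_of_conj hy (hf _ hx)
  · exact absurd (extendByZero_not_mem M f hm) hx

/-- The norm of an induced function supported at the elements with one fixed point. -/
theorem norm_indFun_le {M : Subgroup G} (hM : M ≤ stabilizer G a) {f : M → ℂ} (hf : Supp a M f) :
    (classInner (indFun M f) (indFun M f)).re ≤
      (Nat.card (stabilizer G a) : ℝ) / Nat.card M * (classInner f f).re := by
  classical
  have hpos : (0 : ℝ) < Nat.card M := by exact_mod_cast Nat.card_pos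
  rw [classInner_indFun_left M f (isClassFunction_indFun M f)]
  have e : classInner f (fun m : M => indFun M f m) = ((((Nat.card M : ℝ)⁻¹) ^ 2 : ℝ) : ℂ) *
      ∑ x : stabilizer G a, ∑ m : M, f m * conj (extendByZero M f ((x : G)⁻¹ * m * x)) := by
    simp only [classInner, indFun_supp hf (hM (Subtype.coe_prop _)), map_mul, map_inv₀, map_natCast,
      map_sum, Finset.mul_sum]
    rw [Finset.sum_comm]
    push_cast
    exact Finset.sum_congr rfl fun x _ => Finset.sum_congr rfl fun m _ => by ring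
  rw [e, Complex.re_ofReal_mul, classInner_self_normSq]
  set E := ∑ m : M, Complex.normSq (f m) with hE
  have hx : ∀ x : stabilizer G a,
      (∑ m : M, f m * conj (extendByZero M f ((x : G)⁻¹ * m * x))).re ≤ E := by
    intro x
    have h1 : ∀ z w : ℂ, (z * conj w).re ≤ (Complex.normSq z + Complex.normSq w) / 2 := fun z w => by
      simp only [Complex.mul_re, Complex.conj_re, Complex.conj_im, Complex.normSq_apply]
      nlinarith [sq_nonneg (z.re - w.re), sq_nonneg (z.im - w.im)]
    rw [Complex.re_sum]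
    refine le_trans (Finset.sum_le_sum fun m _ => h1 _ _) ?_
    rw [← Finset.sum_div, Finset.sum_add_distrib]
    have h2 : ∑ m : M, Complex.normSq (extendByZero M f ((x : G)⁻¹ * m * x)) ≤ E := by
      refine le_trans (le_of_eq ?_) (le_trans (Finset.sum_le_sum_of_subset_of_nonneg
        (Finset.subset_univ ((Finset.univ : Finset M).image fun m : M => (x : G)⁻¹ * m * x))
        (f := fun g : G => Complex.normSq (extendByZero M f g)) fun _ _ _ => Complex.normSq_nonneg _)
        (le_of_eq ?_))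
      · rw [Finset.sum_image fun m _ n _ h => Subtype.ext (mul_left_cancel (mul_right_cancel h))]
      · have := sum_mul_extendByZero M (fun m : M => (Complex.normSq (f m) : ℂ)) (fun _ => 1)
        simp only [mul_one] at this
        rw [← Complex.ofReal_inj, Complex.ofReal_sum, hE, Complex.ofReal_sum, ← this]
        refine Finset.sum_congr rfl fun g _ => ?_
        by_cases hg : g ∈ M
        · rw [extendByZero_mem M _ hg, extendByZero_mem M _ hg]
        · rw [extendByZero_not_mem M _ hg, extendByZero_not_mem M _ hg, map_zero, Complex.ofReal_zero]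
    linarith
  rw [Complex.re_sum]
  calc ((Nat.card M : ℝ)⁻¹) ^ 2 * ∑ x : stabilizer G a, _
      ≤ ((Nat.card M : ℝ)⁻¹) ^ 2 * ∑ _x : stabilizer G a, E :=
        mul_le_mul_of_nonneg_left (Finset.sum_le_sum fun x _ => hx x) (sq_nonneg _)
    _ = _ := by
        rw [Finset.sum_const, Finset.card_univ, ← Nat.card_eq_fintype_card, nsmul_eq_mul]
        field_simp

variable (hS : IsRankOneSetup G Ω a t Q)
include hS

theorem sum_stabilizer (F : G → ℂ) :
    ∑ x : stabilizer G a, F x = ∑ q : Q, ∑ d : twoStab a t, F (q * d) := by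
  rw [← Fintype.sum_prod_type']
  refine (Fintype.sum_bijective (fun p : Q × twoStab a t => (⟨(p.1 : G) * p.2,
    mul_mem (hS.le p.1.2) (Subgroup.mem_inf.1 p.2.2).1⟩ : stabilizer G a)) ⟨fun p q h => ?_, fun g => ?_⟩
      _ _ fun p => rfl).symm
  · obtain ⟨h1, h2⟩ := qd_unique hS p.1.2 q.1.2 p.2.2 q.2.2 (congrArg Subtype.val h)
    exact Prod.ext (Subtype.ext h1) (Subtype.ext h2)
  · obtain ⟨q, hq, d, hd, e⟩ := exists_qd hS g.2
    exact ⟨(⟨q, hq⟩, ⟨d, hd⟩), Subtype.ext e.symm⟩

theorem supp_Q {f : Q → ℂ} (h1 : f 1 = 0) : Supp a Q f := fun m hm =>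
  lonely_of_mem_Q hS m.2 fun e => hm (by rw [show m = 1 from Subtype.ext e, h1])

/-- The values on `G_a` of a function induced from `Q`. -/
theorem indFun_Q {f : Q → ℂ} (hf : IsClassFunction Q f) (h1 : f 1 = 0) {y : G}
    (hy : y ∈ stabilizer G a) :
    indFun Q f y = ∑ d : twoStab a t, extendByZero Q f ((d : G)⁻¹ * y * d) := by
  rw [indFun_supp (supp_Q hS h1) hy, sum_stabilizer hS (fun x => extendByZero Q f (x⁻¹ * y * x))]
  rw [Finset.sum_comm]
  have key : ∀ d : twoStab a t, ∀ q : Q, extendByZero Q f (((q : G) * d)⁻¹ * y * ((q : G) * d)) =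
      extendByZero Q f ((d : G)⁻¹ * y * d) := by
    intro d q
    have hdH := (Subgroup.mem_inf.1 d.2).1
    set q' : Q := conjQ hS d q
    have e : ((q : G) * d)⁻¹ * y * ((q : G) * d) = (q' : G)⁻¹ * ((d : G)⁻¹ * y * d) * q' := by
      rw [conjQ_coe]; group
    rw [e]
    by_cases hz : (d : G)⁻¹ * y * d ∈ Q
    · rw [extendByZero_mem Q f hz, extendByZero_mem Q f (mul_mem (mul_mem (inv_mem q'.2) hz) q'.2)]
      refine Eq.trans (congrArg f ?_) (hf ⟨_, hz⟩ q'⁻¹)
      exact Subtype.ext (by simp)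
    · rw [extendByZero_not_mem Q f hz, extendByZero_not_mem Q f fun h => hz ?_]
      have := mul_mem (mul_mem q'.2 h) (inv_mem q'.2)
      simpa [mul_assoc] using this
  rw [Finset.mul_sum]
  refine Finset.sum_congr rfl fun d _ => ?_
  rw [Finset.sum_congr rfl fun q _ => key d q, Finset.sum_const, Finset.card_univ, nsmul_eq_mul,
    ← Nat.card_eq_fintype_card, inv_mul_cancel_left₀ (Nat.cast_ne_zero.2 Nat.card_pos.ne')]

theorem indFun_Q_coe {f : Q → ℂ} (hf : IsClassFunction Q f) (h1 : f 1 = 0) (x : Q) :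
    indFun Q f x = ∑ d : twoStab a t, f (conjQ hS d x) := by
  rw [indFun_Q hS hf h1 (hS.le x.2)]
  refine Finset.sum_congr rfl fun d _ => ?_
  rw [← conjQ_coe hS d x, extendByZero_coe]

theorem indFun_Q_off {f : Q → ℂ} (hf : IsClassFunction Q f) (h1 : f 1 = 0) {y : G}
    (hy : y ∈ stabilizer G a) (hq : y ∉ Q) : indFun Q f y = 0 := by
  rw [indFun_Q hS hf h1 hy]
  refine Finset.sum_eq_zero fun d _ => extendByZero_not_mem Q f fun h => hq ?_
  have := hS.conj_mem d (Subgroup.mem_inf.1 d.2).1 _ h
  simpa [mul_assoc] using this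

/-- The isometry from `Q`. -/
theorem classInner_indFun_Q (f : Q → ℂ) {g : Q → ℂ} (hg : IsClassFunction Q g) (h1 : g 1 = 0) :
    classInner (indFun Q f) (indFun Q g) =
      ∑ d : twoStab a t, classInner f (fun x => g (conjQ hS d x)) := by
  rw [classInner_indFun_left Q f (isClassFunction_indFun Q g),
    show (fun h : Q => indFun Q g h) = ∑ d : twoStab a t, fun x => g (conjQ hS d x) by
      funext x; rw [indFun_Q_coe hS hg h1, Finset.sum_apply], classInner_sum_right]

open scoped Classical in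
/-- The values of an irreducible character on `Q` off the identity. -/
theorem sum_normSq_Q_le (χ : IrrCharacter G) :
    ∑ x ∈ Finset.univ.filter (fun x : Q => x ≠ 1), Complex.normSq ((χ : G → ℂ) x) ≤
      (Nat.card Q : ℝ) * Nat.card (twoStab a t) := by
  set f : Q → ℂ := fun x => if x = 1 then 0 else 1 with hfdef
  have hf : IsClassFunction Q f := fun x y => by simp [hfdef, conj_eq_one_iff]
  have h1 : f 1 = 0 := by simp [hfdef]
  set w : G → ℂ := fun g => (Complex.normSq ((χ : G → ℂ) g) : ℂ) with hw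
  have hwc : IsClassFunction G w := fun g h => by
    simp only [hw, IsCharacter.isClassFunction (IsIrrCharacter.isCharacter χ.2) g h]
  have key := classInner_indFun_left Q f hwc
  have hrhs : classInner f (fun x : Q => w x) = (((Nat.card Q : ℝ)⁻¹ *
      ∑ x ∈ Finset.univ.filter (fun x : Q => x ≠ 1), Complex.normSq ((χ : G → ℂ) x) : ℝ) : ℂ) := by
    simp only [classInner, hw, hfdef, Complex.conj_ofReal, ite_mul, zero_mul, one_mul,
      Finset.sum_filter, ne_eq, ite_not]
    push_cast
    congr 1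
    refine Finset.sum_congr rfl fun x _ => ?_
    split_ifs <;> simp
  have hval : ∀ g : G, ∃ r : ℝ, indFun Q f g = r ∧ r ≤ Nat.card (twoStab a t) := by
    intro g
    by_cases hc : ∀ x : G, x⁻¹ * g * x ∉ Q
    · exact ⟨0, by rw [indFun_eq_zero_of_forall Q f hc, Complex.ofReal_zero], by positivity⟩
    push Not at hc
    obtain ⟨x, hx⟩ := hc
    refine ⟨∑ d : twoStab a t, (if conjQ hS d ⟨_, hx⟩ = 1 then 0 else 1), ?_, ?_⟩
    · have hcl := isClassFunction_indFun Q f g x⁻¹
      rw [inv_inv] at hcl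
      refine (hcl.symm.trans (indFun_Q_coe hS hf h1 ⟨_, hx⟩)).trans ?_
      push_cast
      refine Finset.sum_congr rfl fun d _ => ?_
      simp only [hfdef]
      split_ifs <;> simp
    · refine (Finset.sum_le_sum (g := fun _ => (1 : ℝ)) fun d _ => by split_ifs <;> norm_num).trans ?_
      rw [Finset.sum_const, Finset.card_univ, nsmul_eq_mul, mul_one, Nat.card_eq_fintype_card]
  choose r hr hrle using hval
  have hlhs : classInner (indFun Q f) w =
      (((Nat.card G : ℝ)⁻¹ * ∑ g : G, r g * Complex.normSq ((χ : G → ℂ) g) : ℝ) : ℂ) := by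
    simp only [classInner, hw, hr, Complex.conj_ofReal]
    push_cast; rfl
  rw [hlhs, hrhs, Complex.ofReal_inj] at key
  have hle : (Nat.card G : ℝ)⁻¹ * ∑ g : G, r g * Complex.normSq ((χ : G → ℂ) g) ≤
      Nat.card (twoStab a t) := by
    refine le_trans (mul_le_mul_of_nonneg_left (Finset.sum_le_sum fun g _ =>
      mul_le_mul_of_nonneg_right (hrle g) (Complex.normSq_nonneg _)) (by positivity)) ?_
    rw [← Finset.mul_sum, ← mul_assoc, mul_comm ((Nat.card G : ℝ)⁻¹), mul_assoc,
      ← classInner_self_normSq, classInner_self_irr χ.2, Complex.one_re, mul_one]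
  rw [key] at hle
  have hQ : (0 : ℝ) < Nat.card Q := by exact_mod_cast Nat.card_pos
  rwa [inv_mul_le_iff₀ hQ] at hle

/-- A function of the `D`-part, induced from `G_a`. -/
noncomputable def inflInd (φ : twoStab a t → ℂ) : G → ℂ :=
  indFun (stabilizer G a) fun h => φ (dPart hS h)

theorem inflInd_lonely (φ : twoStab a t → ℂ) (hφ : IsClassFunction (twoStab a t) φ)
    (y : stabilizer G a) (hy : Lonely a (y : G)) : inflInd hS φ y = φ (dPart hS y) := by
  have hc : ∀ x : stabilizer G a, extendByZero (stabilizer G a) (fun h => φ (dPart hS h))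
      ((x : G)⁻¹ * y * x) = φ (dPart hS y) := fun x => by
    rw [show (x : G)⁻¹ * y * x = ((x⁻¹ * y * x : stabilizer G a) : G) by simp, extendByZero_coe]
    simp only [map_mul, map_inv]
    have := hφ (dPart hS y) (dPart hS x)⁻¹
    rwa [inv_inv] at this
  rw [inflInd, indFun_lonely le_rfl _ hy, Finset.sum_congr rfl fun x _ => hc x, Finset.sum_const,
    Finset.card_univ, nsmul_eq_mul, ← Nat.card_eq_fintype_card,
    inv_mul_cancel_left₀ (Nat.cast_ne_zero.2 Nat.card_pos.ne')]

theorem inflInd_one (φ : twoStab a t → ℂ) :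
    inflInd hS φ 1 = ((Nat.card Q + 1 : ℕ) : ℂ) * φ 1 := by
  rw [inflInd, indFun_one_apply, map_one]
  congr 2
  haveI := pretransitive hS
  rw [index_stabilizer_of_transitive, card_points hS]

/-- The norm of a function of the `D`-part induced from `G_a`. -/
theorem classInner_inflInd {φ ψ : twoStab a t → ℂ} (hφ : IsClassFunction (twoStab a t) φ)
    (hψ : IsClassFunction (twoStab a t) ψ) :
    classInner (inflInd hS φ) (inflInd hS ψ) = classInner φ ψ +
      classInner (fun d : twoStab a t => φ ⟨t * d * t⁻¹, conj_twoStab hS d.2⟩) ψ := by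
  classical
  set H := stabilizer G a with hH
  set φb : H → ℂ := fun h => φ (dPart hS h) with hφb
  have hind : IsClassFunction G (inflInd hS φ) := isClassFunction_indFun _ _
  rw [show inflInd hS ψ = indFun H (fun h => ψ (dPart hS h)) from rfl,
    classInner_indFun_right H _ hind]
  have hclass : ∀ (h p : H), φb (p * h * p⁻¹) = φb h ∧ ψ (dPart hS (p * h * p⁻¹)) = ψ (dPart hS h) :=
    fun h p => ⟨by simp only [hφb, map_mul, map_inv]; exact hφ _ _,
      by simp only [map_mul, map_inv]; exact hψ _ _⟩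
  -- the contribution of one conjugating element
  have hone : ∀ x : G, ∑ h : H, extendByZero H φb (x⁻¹ * (h : G) * x) * conj (ψ (dPart hS h)) =
      if x ∈ H then (Nat.card Q : ℂ) * ∑ d : twoStab a t, φ d * conj (ψ d)
      else ∑ d : twoStab a t, φ ⟨t * d * t⁻¹, conj_twoStab hS d.2⟩ * conj (ψ d) := by
    intro x
    split_ifs with hx
    · have e : ∀ h : H, extendByZero H φb (x⁻¹ * (h : G) * x) = φ (dPart hS h) := fun h => by
        rw [show x⁻¹ * (h : G) * x = (((⟨x, hx⟩ : H)⁻¹ * h * (⟨x, hx⟩ : H) : H) : G) by simp,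
          extendByZero_coe]
        have := (hclass h (⟨x, hx⟩ : H)⁻¹).1
        rwa [inv_inv] at this
      rw [Finset.sum_congr rfl fun h _ => by rw [e h]]
      let F : G → ℂ := fun g => if hg : g ∈ H then φ (dPart hS ⟨g, hg⟩) * conj (ψ (dPart hS ⟨g, hg⟩)) else 0
      have hF : ∀ h : H, φ (dPart hS h) * conj (ψ (dPart hS h)) = F h := fun h => by
        simp [F, h.2]
      rw [Finset.sum_congr rfl fun h _ => hF h, sum_stabilizer hS F]
      have hF2 : ∀ q : Q, ∀ d : twoStab a t, F (q * d) = φ d * conj (ψ d) := fun q d => by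
        have hm : (q : G) * d ∈ H := mul_mem (hS.le q.2) (Subgroup.mem_inf.1 d.2).1
        simp [F, hm, dPart_mul_eq hS q.2 d.2 ⟨_, hm⟩ rfl]
      rw [Finset.sum_congr rfl fun q _ => Finset.sum_congr rfl fun d _ => hF2 q d,
        Finset.sum_const, Finset.card_univ, nsmul_eq_mul, Nat.card_eq_fintype_card]
    · obtain ⟨⟨p, f⟩, ⟨hp, hf, rfl⟩, -⟩ := qd_of_canonical hS hx
      let F : G → ℂ := fun g => if hg : g ∈ H then
        extendByZero H φb (t⁻¹ * g * t) * conj (ψ (dPart hS ⟨g, hg⟩)) else 0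
      have hsum : ∑ h : H, extendByZero H φb ((p * t * f)⁻¹ * (h : G) * (p * t * f)) *
          conj (ψ (dPart hS h)) = ∑ h : H, F h := by
        refine Fintype.sum_equiv (MulAut.conj (⟨p, hp⟩ : H)⁻¹).toEquiv _ _ fun h => ?_
        simp only [MulEquiv.toEquiv_eq_coe, MulEquiv.coe_toEquiv, MulAut.conj_apply, inv_inv, F,
          Subgroup.coe_mul, Subgroup.coe_inv]
        have hmem : p⁻¹ * (h : G) * p ∈ H := mul_mem (mul_mem (inv_mem hp) h.2) hp
        rw [dif_pos hmem]
        have e2 : ψ (dPart hS ⟨p⁻¹ * (h : G) * p, hmem⟩) = ψ (dPart hS h) := by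
          have := (hclass h (⟨p, hp⟩ : H)⁻¹).2
          rw [← this]; congr 2; exact Subtype.ext (by simp)
        rw [e2]
        congr 1
        set z := t⁻¹ * (p⁻¹ * (h : G) * p) * t with hz
        rw [show (p * t * f)⁻¹ * (h : G) * (p * t * f) = f⁻¹ * z * f by rw [hz]; group]
        by_cases hzH : z ∈ H
        · rw [extendByZero_mem H φb hzH,
            show f⁻¹ * z * f = (((⟨f, hS.le hf⟩ : H)⁻¹ * ⟨z, hzH⟩ * (⟨f, hS.le hf⟩ : H) : H) : G) by simp,
            extendByZero_coe]
          have := (hclass ⟨z, hzH⟩ (⟨f, hS.le hf⟩ : H)⁻¹).1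
          rwa [inv_inv] at this
        · rw [extendByZero_not_mem H φb hzH, extendByZero_not_mem H φb fun hh => hzH ?_]
          have := mul_mem (mul_mem (hS.le hf) hh) (inv_mem (hS.le hf))
          rwa [show f * (f⁻¹ * z * f) * f⁻¹ = z by group] at this
      rw [hsum, sum_stabilizer hS F, Finset.sum_eq_single (1 : Q)]
      · refine Finset.sum_congr rfl fun d _ => ?_
        have hd : (d : G) ∈ H := (Subgroup.mem_inf.1 d.2).1
        simp only [F, OneMemClass.coe_one, one_mul, dif_pos hd,
          dPart_twoStab hS ⟨(d : G), hd⟩ d.2]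
        congr 1
        have ht : t⁻¹ * (d : G) * t ∈ twoStab a t := by
          have := conj_twoStab hS d.2
          rw [inv_t hS] at this ⊢
          exact this
        rw [extendByZero_mem H φb (Subgroup.mem_inf.1 ht).1, hφb]
        simp only
        rw [dPart_twoStab hS ⟨_, (Subgroup.mem_inf.1 ht).1⟩ ht]
        congr 1
        exact Subtype.ext (by show t⁻¹ * (d : G) * t = t * d * t⁻¹; rw [inv_t hS])
      · intro q _ hq1
        refine Finset.sum_eq_zero fun d _ => ?_
        have hm : (q : G) * d ∈ H := mul_mem (hS.le q.2) (Subgroup.mem_inf.1 d.2).1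
        simp only [F, dif_pos hm]
        rw [extendByZero_not_mem H φb, zero_mul]
        intro hh
        rw [hH, mem_stabilizer_iff, mul_smul, mul_smul, inv_smul_eq_iff, mul_smul,
          (mem_twoStab hS d.2).2] at hh
        exact hq1 (Subtype.ext (by_contra fun hne => ta_ne hS (eq_a_of_fixed hS q.2 hne hh)))
      · exact fun h => absurd (Finset.mem_univ _) h
  have hlhs : classInner (fun h : H => inflInd hS φ h) (fun h : H => ψ (dPart hS h)) =
      (Nat.card H : ℂ)⁻¹ * (Nat.card H : ℂ)⁻¹ * ∑ x : G, ∑ h : H,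
        extendByZero H φb (x⁻¹ * (h : G) * x) * conj (ψ (dPart hS h)) := by
    simp only [classInner, inflInd, indFun_apply, Finset.sum_mul, Finset.mul_sum]
    rw [Finset.sum_comm]
    refine Finset.sum_congr rfl fun x _ => Finset.sum_congr rfl fun h _ => ?_
    simp only [hφb, hH]
    ring
  refine hlhs.trans ?_
  rw [Finset.sum_congr rfl fun x _ => hone x]
  rw [Finset.sum_ite, Finset.sum_const, Finset.sum_const, nsmul_eq_mul, nsmul_eq_mul]
  have hc1 : ((Finset.univ.filter (· ∈ H)).card : ℂ) = Nat.card H := by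
    rw [Nat.card_eq_fintype_card, ← Fintype.card_subtype]
  have hc2 : ((Finset.univ.filter (fun x => x ∉ H)).card : ℂ) = (Nat.card G : ℂ) - Nat.card H := by
    rw [← hc1, Nat.card_eq_fintype_card, ← Finset.card_univ,
      ← Finset.card_filter_add_card_filter_not (s := Finset.univ) (· ∈ H)]
    push_cast; ring
  rw [hc1, hc2, card_group hS, hH, card_stabilizer hS]
  simp only [classInner]
  push_cast
  have hQ : (Nat.card Q : ℂ) ≠ 0 := Nat.cast_ne_zero.2 Nat.card_pos.ne'
  have hD : (Nat.card (twoStab a t) : ℂ) ≠ 0 := Nat.cast_ne_zero.2 Nat.card_pos.ne'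
  field_simp
  ring

end Cfsg.Agent.RankOneChar
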