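import Cfsg.Agent.Lib.RankOneChar.Split
import Cfsg.Agent.Lib.Blocks.SecondMain
import Cfsg.Agent.Lib.Blocks.Constrained
import Cfsg.Agent.Lib.Blocks.Congr

/-!
# The principal block on the sections of the elements of a Sylow subgroup of `Q`
-/

set_option autoImplicit false
set_option linter.unusedSectionVars false
set_option linter.style.haveILetI false

namespace Cfsg.Agent.RankOneChar

open Cfsg Cfsg.Agent.Char Cfsg.Agent.Blocks Cfsg.Agent.RankOne MulAction

universe u v

/-- Characters of a quotient in one block inflate into one block. -/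
theorem sameBlock_infl {C : Type u} [Group C] [Fintype C] {p : ℕ} {M : Ideal AlgInt} [M.IsPrime]
    (N : Subgroup C) [N.Normal] (χ ψ : IrrCharacter (C ⧸ N))
    (h : SameBlock M (χ : C ⧸ N → ℂ) (ψ : C ⧸ N → ℂ)) :
    SameBlock M (Cfsg.Agent.CharX.infl N χ : C → ℂ) (Cfsg.Agent.CharX.infl N ψ : C → ℂ) := by
  intro g
  have hdvd : (Subgroup.centralizer ({(g : C ⧸ N)} : Set (C ⧸ N))).index ∣
      (Subgroup.centralizer ({g} : Set C)).index := by
    refine (Subgroup.index_dvd_of_le (H := (Subgroup.centralizer ({g} : Set C)).map (QuotientGroup.mk' N)) ?_).trans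
      (Subgroup.index_map_dvd _ (QuotientGroup.mk'_surjective N))
    rintro _ ⟨c, hc, rfl⟩
    rw [Subgroup.mem_centralizer_singleton_iff]
    show (c : C ⧸ N) * (g : C ⧸ N) = (g : C ⧸ N) * (c : C ⧸ N)
    rw [← QuotientGroup.mk_mul, ← QuotientGroup.mk_mul, Subgroup.mem_centralizer_singleton_iff.1 hc]
  obtain ⟨k, hk⟩ := hdvd
  have e : ∀ φ : IrrCharacter (C ⧸ N), centralChar (Cfsg.Agent.CharX.infl N φ : C → ℂ) g =
      (k : ℂ) * centralChar (φ : C ⧸ N → ℂ) (g : C ⧸ N) := fun φ => by
    simp only [centralChar, Cfsg.Agent.CharX.infl_apply, QuotientGroup.mk_one, hk, Nat.cast_mul]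
    ring
  rw [e, e, ← mul_sub]
  exact MemLocalIdeal.mul_left (natCast_mem (locRing M) k) (h _)

variable {G : Type u} {Ω : Type v} [Group G] [Fintype G] [MulAction G Ω] {a : Ω} {t : G}
  {Q P T : Subgroup G} {p : ℕ} {M : Ideal AlgInt} [M.IsPrime]

/-- Constancy on the cosets of `T` in the principal block. -/
theorem apply_eq_of_principal (hS : IsRankOneSetup G Ω a t Q) (sp : Split a Q P T)
    (hM : IsPModular p M) (hP : IsPGroup p P) (hT : ¬ p ∣ Nat.card T) {χ : IrrCharacter G}
    (hχ : χ ∈ principalBlock M G) {x : G} (hx : x ∈ P) (hx1 : x ≠ 1) {s : G} (hs : s ∈ T) :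
    (χ : G → ℂ) (x * s) = (χ : G → ℂ) x := by
  classical
  haveI := Fact.mk hM.1
  set C := Subgroup.centralizer ({x} : Set G) with hC
  have hxk : ∃ k, orderOf x = p ^ k := by
    obtain ⟨k, hk⟩ := IsPGroup.iff_orderOf.1 hP ⟨x, hx⟩
    exact ⟨k, by rw [← hk, ← Subgroup.orderOf_coe]⟩
  have hTC : T ≤ C := fun y hy => Subgroup.mem_centralizer_singleton_iff.2 (sp.comm x hx y hy).symm
  have hCH : ∀ c ∈ C, c ∈ stabilizer G a := fun c hc => by
    refine mem_stabilizer_of_conj' (lonely_of_mem_Q hS (sp.P_le hx) hx1) ?_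
    rw [show c⁻¹ * x * c = x by
      rw [mul_assoc, ← Subgroup.mem_centralizer_singleton_iff.1 hc, inv_mul_cancel_left]]
    exact hS.le (sp.P_le hx)
  haveI hn : (T.subgroupOf C).Normal := ⟨fun y hy c => by
    rw [Subgroup.mem_subgroupOf] at hy ⊢
    simpa using sp.T_conj c (hCH c c.2) _ hy⟩
  have hTcard : ¬ p ∣ Nat.card (T.subgroupOf C) := by
    rwa [Nat.card_congr (Subgroup.subgroupOfEquivOfLe hTC).toEquiv]
  have hconst : ∀ u : C, (u : G) ∈ T → (χ : G → ℂ) (x * u) =
      ∑ ψ ∈ Finset.univ.filter (· ∈ principalBlock M C),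
        classInner (secFun x C (χ : G → ℂ)) (ψ : C → ℂ) * (ψ : C → ℂ) 1 := by
    intro u hu
    have hf := isClassFunction_secFun (x := x) hC
      (IsCharacter.isClassFunction (IsIrrCharacter.isCharacter χ.2))
    have hur : ¬ p ∣ orderOf u := fun hd => hT (by
      rw [← Subgroup.orderOf_coe] at hd
      refine hd.trans ?_
      have := orderOf_dvd_natCard (⟨(u : G), hu⟩ : T)
      rwa [← Subgroup.orderOf_coe] at this)
    show secFun x C (χ : G → ℂ) u = _
    rw [← sum_blockPart (M := M) hf u, Finset.sum_eq_single (principalBlock M C)]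
    · rw [blockPart_eq_sum]
      refine Finset.sum_congr rfl fun ψ hψ => ?_
      rw [trivialOn_of_sameBlock hM (T.subgroupOf C) hTcard (χ := principal C) (ψ := ψ)
        (Finset.mem_filter.1 hψ).2 (fun _ _ => rfl) u (Subgroup.mem_subgroupOf.2 hu)]
    · intro b hb hne
      refine blockPart_secFun_eq_zero hM hxk hC (isPBlock_principalBlock M G) hχ (mem_blocks.1 hb)
        (fun h => hne ?_) hur
      have := (mem_unitBlocks_iff_induced' hM hxk hC (isPBlock_principalBlock M G)).2 h
      rwa [unitBlocks_principal hM hxk hC, Finset.mem_singleton] at this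
    · exact fun h => absurd (mem_blocks.2 (isPBlock_principalBlock M C)) h
  have h1 := hconst ⟨s, hTC hs⟩ hs
  have h2 := hconst 1 (one_mem T)
  rw [OneMemClass.coe_one, mul_one] at h2
  exact h1.trans h2.symm

/-- Outside the principal block the sums over the cosets of `T` vanish. -/
theorem sum_eq_zero_of_not_principal (hS : IsRankOneSetup G Ω a t Q) (sp : Split a Q P T)
    (hM : IsPModular p M) (hP : IsPGroup p P) (hT : ¬ p ∣ Nat.card T) {χ : IrrCharacter G}
    (hχ : χ ∉ principalBlock M G) {x : G} (hx : x ∈ P) (hx1 : x ≠ 1)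
    (hgood : ∀ g : G, g * x = x * g → (∀ u ∈ P, u * x = x * u → g * u = u * g) → g ∈ Q) :
    ∑ s : T, (χ : G → ℂ) (x * s) = 0 := by
  classical
  haveI := Fact.mk hM.1
  set C := Subgroup.centralizer ({x} : Set G) with hC
  have hxk : ∃ k, orderOf x = p ^ k := by
    obtain ⟨k, hk⟩ := IsPGroup.iff_orderOf.1 hP ⟨x, hx⟩
    exact ⟨k, by rw [← hk, ← Subgroup.orderOf_coe]⟩
  have hTC : T ≤ C := fun y hy => Subgroup.mem_centralizer_singleton_iff.2 (sp.comm x hx y hy).symm
  have hCH : ∀ c ∈ C, c ∈ stabilizer G a := fun c hc => by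
    refine mem_stabilizer_of_conj' (lonely_of_mem_Q hS (sp.P_le hx) hx1) ?_
    rw [show c⁻¹ * x * c = x by
      rw [mul_assoc, ← Subgroup.mem_centralizer_singleton_iff.1 hc, inv_mul_cancel_left]]
    exact hS.le (sp.P_le hx)
  haveI hn : (T.subgroupOf C).Normal := ⟨fun y hy c => by
    rw [Subgroup.mem_subgroupOf] at hy ⊢
    simpa using sp.T_conj c (hCH c c.2) _ hy⟩
  set T' := T.subgroupOf C with hT'
  have hTcard : ¬ p ∣ Nat.card T' := by
    rwa [Nat.card_congr (Subgroup.subgroupOfEquivOfLe hTC).toEquiv]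
  -- every character trivial on `T` lies in the principal block
  have hin : ∀ ψ : IrrCharacter C, (∀ n ∈ T', (ψ : C → ℂ) n = (ψ : C → ℂ) 1) →
      ψ ∈ principalBlock M C := by
    intro ψ hψ
    haveI : Fintype (C ⧸ T') := Fintype.ofFinite _
    obtain ⟨ψ', hψ'⟩ := (Cfsg.Agent.CharX.quotEquiv T').surjective ⟨ψ, hψ⟩
    have hψ'' : Cfsg.Agent.CharX.infl T' ψ' = ψ := congrArg Subtype.val hψ'
    set N := (P.subgroupOf C).map (QuotientGroup.mk' T') with hN
    haveI hPn : (P.subgroupOf C).Normal := ⟨fun y hy c => by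
      rw [Subgroup.mem_subgroupOf] at hy ⊢
      simpa using sp.P_conj c (hCH c c.2) _ hy⟩
    haveI : N.Normal := hPn.map _ (QuotientGroup.mk'_surjective T')
    have hNp : IsPGroup p N := (hP.comap_subtype (K := C)).map _
    have hcen : Subgroup.centralizer (N : Set (C ⧸ T')) ≤ N := by
      intro g hg
      obtain ⟨c, rfl⟩ := QuotientGroup.mk'_surjective T' g
      have hcQ : (c : G) ∈ Q := by
        refine hgood c (Subgroup.mem_centralizer_singleton_iff.1 c.2) fun w hw hwx => ?_
        have hwC : w ∈ C := Subgroup.mem_centralizer_singleton_iff.2 hwx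
        have h1 := Subgroup.mem_centralizer_iff.1 hg _ (Subgroup.mem_map_of_mem _
          (Subgroup.mem_subgroupOf.2 hw : (⟨w, hwC⟩ : C) ∈ P.subgroupOf C))
        simp only [QuotientGroup.mk'_apply, ← QuotientGroup.mk_mul, QuotientGroup.eq, hT',
          Subgroup.mem_subgroupOf, Subgroup.coe_mul, Subgroup.coe_inv] at h1
        have h2 : ((c : G) * w * (c : G)⁻¹) * w⁻¹ ∈ P ⊓ T := by
          refine Subgroup.mem_inf.2 ⟨mul_mem (sp.P_conj c (hCH c c.2) w hw) (inv_mem hw), ?_⟩
          have h3 := sp.T_conj _ (mul_mem (hS.le (sp.P_le hw)) (hCH c c.2)) _ h1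
          simpa [mul_assoc] using h3
        rw [sp.disj, Subgroup.mem_bot, mul_inv_eq_one, mul_inv_eq_iff_eq_mul] at h2
        exact h2
      obtain ⟨w, hw, y, hy, hwy⟩ := sp.cover _ hcQ
      have hwC : w ∈ C := by
        have h3 := mul_mem c.2 (inv_mem (hTC hy))
        rwa [hwy, mul_inv_cancel_right] at h3
      refine ⟨⟨w, hwC⟩, Subgroup.mem_subgroupOf.2 hw, ?_⟩
      rw [QuotientGroup.mk'_apply, QuotientGroup.mk'_apply, QuotientGroup.eq, hT',
        Subgroup.mem_subgroupOf, Subgroup.coe_mul, Subgroup.coe_inv]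
      show w⁻¹ * (c : G) ∈ T
      rwa [hwy, inv_mul_cancel_left]
    have h := sameBlock_infl (p := p) T' _ ψ' (sameBlock_of_centralizer_le hM N hNp hcen (principal (C ⧸ T')) ψ')
    rw [hψ''] at h
    exact h
  set B := blockOf M (χ : G → ℂ) with hB
  have hf := isClassFunction_secFun (x := x) hC
    (IsCharacter.isClassFunction (IsIrrCharacter.isCharacter χ.2))
  have key : ∑ u : T', secFun x C (χ : G → ℂ) u = 0 := by
    rw [Finset.sum_congr rfl fun (u : T') _ => (sum_blockPart (M := M) hf (u : C)).symm, Finset.sum_comm]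
    refine Finset.sum_eq_zero fun b hb => ?_
    by_cases hb0 : b = principalBlock M C
    · refine Finset.sum_eq_zero fun u _ => blockPart_secFun_eq_zero hM hxk hC (isPBlock_blockOf χ)
        (self_mem_blockOf χ) (mem_blocks.1 hb) (fun h => hχ ?_) ?_
      · have h0 : IsInducedBlock M C b (principalBlock M G) := by
          refine (mem_unitBlocks_iff_induced' hM hxk hC (isPBlock_principalBlock M G)).1 ?_
          rw [unitBlocks_principal hM hxk hC, hb0]
          exact Finset.mem_singleton_self _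
        rw [isInducedBlock_unique h0 h]
        exact self_mem_blockOf χ
      · intro hd
        refine hTcard (hd.trans ?_)
        have := orderOf_dvd_natCard u
        rwa [← Subgroup.orderOf_coe] at this
    · simp only [blockPart_eq_sum]
      rw [Finset.sum_comm]
      refine Finset.sum_eq_zero fun ψ hψ => ?_
      rw [← Finset.mul_sum]
      have hnt : ∃ n ∈ T', (ψ : C → ℂ) n ≠ (ψ : C → ℂ) 1 := by
        by_contra hall
        push Not at hall
        exact hb0 (isPBlock_eq_of_mem (mem_blocks.1 hb) (isPBlock_principalBlock M C)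
          (Finset.mem_filter.1 hψ).2 (hin ψ hall))
      have h0 := Cfsg.Agent.CharX.sum_coset_eq_zero ψ.2 T' hnt 1
      simp only [one_mul] at h0
      rw [h0, mul_zero]
  rw [← key]
  refine (Fintype.sum_equiv (Subgroup.subgroupOfEquivOfLe hTC).toEquiv _ _ fun u => ?_).symm
  rfl

/-- A congruence keeping a coset sum non-zero. -/
theorem sum_ne_zero (hS : IsRankOneSetup G Ω a t Q) (sp : Split a Q P T) (hM : IsPModular p M)
    (hP : IsPGroup p P) (hT : ¬ p ∣ Nat.card T) (χ : IrrCharacter G) {n : ℕ}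
    (hn : ∑ s : T, (χ : G → ℂ) s = (n : ℂ)) (hpn : ¬ p ∣ n) {x : G} (hx : x ∈ P) :
    ∑ s : T, (χ : G → ℂ) (x * s) ≠ 0 := by
  haveI := Fact.mk hM.1
  intro h0
  have hd : MemLocalIdeal M (∑ s : T, ((χ : G → ℂ) (x * s) - (χ : G → ℂ) s)) := by
    refine memLocalIdeal_sum _ _ fun s _ => ?_
    obtain ⟨k, hk⟩ := IsPGroup.iff_orderOf.1 hP ⟨x, hx⟩
    rw [← Subgroup.orderOf_coe] at hk
    refine char_congr_regular hM (IsIrrCharacter.isCharacter χ.2) (sp.comm x hx s s.2) hk fun hd =>
      hT (hd.trans ?_)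
    rw [Subgroup.orderOf_coe]
    exact orderOf_dvd_natCard s
  rw [Finset.sum_sub_distrib, h0, hn, zero_sub] at hd
  have := MemLocalIdeal.neg hd
  rw [neg_neg] at this
  exact hpn ((natCast_memLocalIdeal_iff hM n).1 this)

end Cfsg.Agent.RankOneChar
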