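import Cfsg.Agent.Lib.RankOneChar.Split
import Cfsg.Agent.Lib.Char.DegreeCenter
import Cfsg.Agent.Lib.Char.Orbit
import Mathlib.GroupTheory.Nilpotent

/-!
# Descent along the lower central series of `T`

If an irreducible character of `G` is constant on the cosets `x T` (`x ∈ P#`), orthogonal to the
non-principal linear characters of `T` and `|P| > 2 |D|`, then it is constant on `T`.
-/

set_option autoImplicit false
set_option linter.unusedSectionVars false
set_option linter.style.haveILetI false

namespace Cfsg.Agent.RankOneChar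

open Cfsg Cfsg.Agent.Char Cfsg.Agent.RankOne MulAction
open scoped ComplexConjugate commutatorElement

universe u v

variable {G : Type u} {Ω : Type v} [Group G] [Fintype G] [MulAction G Ω] {a : Ω} {t : G}
  {Q P T : Subgroup G}

/-- The coefficient of `χ` at a non-principal character of `T` is divisible by `|P|`. -/
theorem exists_coeff (sp : Split a Q P T) (χ : IrrCharacter G)
    (hc : ∀ x ∈ P, x ≠ 1 → ∀ s ∈ T, (χ : G → ℂ) (x * s) = (χ : G → ℂ) x) :
    ∃ z : IrrCharacter T → ℕ, ∀ τ : IrrCharacter T, τ ≠ principal T →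
      classInner (fun s : T => (χ : G → ℂ) s) (τ : T → ℂ) = (Nat.card P : ℂ) * (z τ : ℂ) ∧
      classInner (fun q : Q => (χ : G → ℂ) q) (fun q : Q => (τ : T → ℂ) (sp.snd q)) = (z τ : ℂ) := by
  classical
  have hz : ∀ τ : IrrCharacter T, ∃ z : ℕ,
      classInner (fun q : Q => (χ : G → ℂ) q) (fun q : Q => (τ : T → ℂ) (sp.snd q)) = (z : ℂ) := fun τ =>
    IsCharacter.exists_classInner_nat (IsCharacter.restrict (IsIrrCharacter.isCharacter χ.2) Q)
      (IsCharacter.comp (IsIrrCharacter.isCharacter τ.2) sp.snd)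
  choose z hz using hz
  refine ⟨z, fun τ hτ => ⟨?_, hz τ⟩⟩
  have hsum0 : ∑ s : T, conj ((τ : T → ℂ) s) = 0 := by
    have h := classInner_irr_of_ne τ.2 isIrrCharacter_one fun e => hτ (Subtype.ext e)
    simp only [classInner, map_one, mul_one] at h
    rw [mul_eq_zero, inv_eq_zero, Nat.cast_eq_zero] at h
    rw [← map_sum, h.resolve_left Nat.card_pos.ne', map_zero]
  let F : G → ℂ := fun g => if hg : g ∈ Q then (χ : G → ℂ) g * conj ((τ : T → ℂ) (sp.snd ⟨g, hg⟩)) else 0
  have hF : ∀ q : Q, (χ : G → ℂ) q * conj ((τ : T → ℂ) (sp.snd q)) = F q := fun q => by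
    simp [F, q.2]
  have hF2 : ∀ (x : P) (s : T), F (x * s) = (χ : G → ℂ) (x * s) * conj ((τ : T → ℂ) s) := fun x s => by
    have hm : (x : G) * s ∈ Q := mul_mem (sp.P_le x.2) (sp.T_le s.2)
    simp only [F, dif_pos hm, sp.snd_mul]
  have key : (Nat.card Q : ℂ)⁻¹ * ∑ s : T, (χ : G → ℂ) s * conj ((τ : T → ℂ) s) = (z τ : ℂ) := by
    rw [← hz τ, classInner]
    congr 1
    rw [Finset.sum_congr rfl fun q _ => hF q, sp.sum_Q F,
      Finset.sum_eq_single (1 : P) (fun x _ hx1 => ?_) (fun h => absurd (Finset.mem_univ _) h)]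
    · refine Finset.sum_congr rfl fun s _ => ?_
      rw [hF2, OneMemClass.coe_one, one_mul]
    · rw [Finset.sum_congr rfl fun s _ => by
        rw [hF2, hc _ x.2 (fun e => hx1 (Subtype.ext e)) _ s.2], ← Finset.mul_sum, hsum0, mul_zero]
  rw [classInner, ← key, sp.card_eq]
  push_cast
  have hP0 : (Nat.card P : ℂ) ≠ 0 := Nat.cast_ne_zero.2 Nat.card_pos.ne'
  field_simp

/-- The variance bound for the coefficients on `T`. -/
theorem exists_center (hS : IsRankOneSetup G Ω a t Q) (sp : Split a Q P T) (hT : 1 < Nat.card T)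
    (χ : IrrCharacter G) (z : IrrCharacter T → ℕ)
    (hz : ∀ τ : IrrCharacter T, τ ≠ principal T →
      classInner (fun s : T => (χ : G → ℂ) s) (τ : T → ℂ) = (Nat.card P : ℂ) * (z τ : ℂ)) :
    ∃ b : ℝ, (∀ s : Finset (IrrCharacter T), (∀ τ : IrrCharacter T, τ ∈ s ↔ τ ≠ principal T) →
        ∑ τ ∈ s, (z τ : ℝ) * charDegree (τ : T → ℂ) = b * ((Nat.card T : ℝ) - 1)) ∧
      ∀ s : Finset (IrrCharacter T), principal T ∉ s →
        (Nat.card P : ℝ) * ∑ τ ∈ s, ((z τ : ℝ) - b * charDegree (τ : T → ℂ)) ^ 2 ≤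
          Nat.card (twoStab a t) := by
  classical
  have hchar : IsCharacter T (fun s : T => (χ : G → ℂ) s) :=
    IsCharacter.restrict (IsIrrCharacter.isCharacter χ.2) T
  obtain ⟨m1, hm1⟩ := IsCharacter.exists_classInner_nat hchar (IsIrrCharacter.isCharacter (principal T).2)
  set m : IrrCharacter T → ℕ := fun τ => if τ = principal T then m1 else Nat.card P * z τ with hm
  have hmm : ∀ τ : IrrCharacter T, classInner (fun s : T => (χ : G → ℂ) s) (τ : T → ℂ) = (m τ : ℂ) := by
    intro τ
    simp only [hm]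
    split_ifs with h
    · rw [h]; exact hm1
    · rw [hz τ h, Nat.cast_mul]
  obtain ⟨c, hc, hvar⟩ := variance hT (IsCharacter.isClassFunction hchar) m hmm
  have hP0 : (0 : ℝ) < Nat.card P := by exact_mod_cast Nat.card_pos
  refine ⟨c / Nat.card P, fun s hs => ?_, fun s hs => ?_⟩
  · rw [← Finset.add_sum_erase _ _ (Finset.mem_univ (principal T))] at hc
    have hs' : s = Finset.univ.erase (principal T) := by ext τ; simp [hs]
    have hdeg : charDegree (principal T : T → ℂ) = 1 := Cfsg.Agent.CharX.charDegree_one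
    rw [hdeg, Nat.cast_one, mul_one, add_sub_cancel_left] at hc
    rw [hs', div_mul_eq_mul_div, ← hc, eq_div_iff hP0.ne', Finset.sum_mul]
    refine Finset.sum_congr rfl fun τ hτ => ?_
    simp only [hm, if_neg (Finset.mem_erase.1 hτ).1]
    push_cast; ring
  · have h := hvar s hs
    have hb : ∑ g ∈ Finset.univ.filter (fun g : T => g ≠ 1), Complex.normSq ((χ : G → ℂ) g) ≤
        (Nat.card Q : ℝ) * Nat.card (twoStab a t) := by
      refine le_trans (le_trans (le_of_eq ?_) (Finset.sum_le_sum_of_subset_of_nonneg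
        (s := (Finset.univ.filter (fun g : T => g ≠ 1)).image sp.inT) ?_
        fun x _ _ => Complex.normSq_nonneg ((χ : G → ℂ) x))) (sum_normSq_Q_le hS χ)
      · rw [Finset.sum_image fun x _ y _ h => Subgroup.inclusion_injective sp.T_le h]
        rfl
      · intro q hq
        obtain ⟨s, hs, rfl⟩ := Finset.mem_image.1 hq
        refine Finset.mem_filter.2 ⟨Finset.mem_univ _, fun e => (Finset.mem_filter.1 hs).2 ?_⟩
        exact Subgroup.inclusion_injective sp.T_le (e.trans (map_one _).symm)
    have he : ∑ τ ∈ s, ((m τ : ℝ) - c * charDegree (τ : T → ℂ)) ^ 2 =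
        (Nat.card P : ℝ) ^ 2 * ∑ τ ∈ s, ((z τ : ℝ) - c / Nat.card P * charDegree (τ : T → ℂ)) ^ 2 := by
      rw [Finset.mul_sum]
      refine Finset.sum_congr rfl fun τ hτ => ?_
      simp only [hm, if_neg (show τ ≠ principal T from fun e => hs (e ▸ hτ))]
      push_cast
      field_simp
    rw [he] at h
    have h2 := h.trans (le_trans (le_of_eq (Finset.sum_congr (by ext; simp) fun _ _ => rfl)) hb)
    rw [sp.card_eq, Nat.cast_mul] at h2
    have hT0 : (0 : ℝ) < Nat.card T := by exact_mod_cast Nat.card_pos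
    have h3 : (Nat.card T : ℝ) * Nat.card P * ((Nat.card P : ℝ) *
        ∑ τ ∈ s, ((z τ : ℝ) - c / Nat.card P * charDegree (τ : T → ℂ)) ^ 2) ≤
        (Nat.card T : ℝ) * Nat.card P * Nat.card (twoStab a t) := by
      calc _ = (Nat.card T : ℝ) * ((Nat.card P : ℝ) ^ 2 *
            ∑ τ ∈ s, ((z τ : ℝ) - c / Nat.card P * charDegree (τ : T → ℂ)) ^ 2) := by ring
        _ ≤ _ := h2.trans (le_of_eq (by ring))
    exact le_of_mul_le_mul_left h3 (mul_pos hT0 hP0)

section conjugation

/-- Conjugation of `T` by an element of `D`. -/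
def conjT (hS : IsRankOneSetup G Ω a t Q) (sp : Split a Q P T) (d : twoStab a t) : T →* T where
  toFun x := ⟨(d : G)⁻¹ * (x : G) * d, by
    simpa using sp.T_conj (d : G)⁻¹ (inv_mem (Subgroup.mem_inf.1 d.2).1) _ x.2⟩
  map_one' := Subtype.ext (by simp)
  map_mul' x y := Subtype.ext (by simp [mul_assoc])

theorem conjT_surjective (hS : IsRankOneSetup G Ω a t Q) (sp : Split a Q P T) (d : twoStab a t) : Function.Surjective (conjT hS sp d) := fun x =>
  ⟨conjT hS sp d⁻¹ x, Subtype.ext (by simp [conjT, mul_assoc])⟩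

/-- The translate of an irreducible character of `T`. -/
def conjIrr (hS : IsRankOneSetup G Ω a t Q) (sp : Split a Q P T) (d : twoStab a t) (τ : IrrCharacter T) : IrrCharacter T :=
  ⟨fun x => (τ : T → ℂ) (conjT hS sp d x),
    IsIrrCharacter.comp τ.2 (conjT hS sp d) (conjT_surjective hS sp d)⟩

theorem conjIrr_apply (hS : IsRankOneSetup G Ω a t Q) (sp : Split a Q P T) (d : twoStab a t) (τ : IrrCharacter T) (x : T) :
    (conjIrr hS sp d τ : T → ℂ) x = (τ : T → ℂ) (conjT hS sp d x) := rfl

theorem classInner_conjIrr (hS : IsRankOneSetup G Ω a t Q) (sp : Split a Q P T) (χ : IrrCharacter G) (d : twoStab a t) (τ : IrrCharacter T) :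
    classInner (fun s : T => (χ : G → ℂ) s) (conjIrr hS sp d τ : T → ℂ) =
      classInner (fun s : T => (χ : G → ℂ) s) (τ : T → ℂ) := by
  simp only [classInner]
  congr 1
  refine Fintype.sum_bijective (conjT hS sp d) ⟨?_, conjT_surjective hS sp d⟩ _ _ fun x => ?_
  · intro x y h
    exact Subtype.ext (mul_left_cancel (mul_right_cancel (congrArg Subtype.val h)))
  · rw [conjIrr_apply]
    congr 1
    have := IsCharacter.isClassFunction (IsIrrCharacter.isCharacter χ.2) (x : G) (d : G)⁻¹
    rw [inv_inv] at this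
    exact this.symm

end conjugation

/-- A character trivial on `⁅N, T⁆` acts by scalars on `N`. -/
theorem exists_scalar {K : Type u} [Group K] [Finite K] (τ : IrrCharacter K) {y : K}
    (hy : ∀ g : K, (τ : K → ℂ) ⁅y, g⁆ = (τ : K → ℂ) 1) :
    ∃ c : ℂ, ‖c‖ = 1 ∧ ∀ g, (τ : K → ℂ) (y * g) = c * (τ : K → ℂ) g := by
  obtain ⟨N, hN, hmem, -⟩ := IsCharacter.exists_kernel (IsIrrCharacter.isCharacter τ.2)
  haveI := hN
  obtain ⟨τ', -, hval, hirr⟩ :=
    IsCharacter.deflate (IsIrrCharacter.isCharacter τ.2) N fun x hx => (hmem x).mp hx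
  have hz : (y : K ⧸ N) ∈ Subgroup.center (K ⧸ N) := by
    rw [Subgroup.mem_center_iff]
    intro g
    obtain ⟨g, rfl⟩ := QuotientGroup.mk_surjective g
    rw [← QuotientGroup.mk_mul, ← QuotientGroup.mk_mul, QuotientGroup.eq, hmem]
    have h := hy g
    have hcl := IsCharacter.isClassFunction (IsIrrCharacter.isCharacter τ.2) ⁅y, g⁆ (y * g)⁻¹
    rw [h, commutatorElement_def] at hcl
    rw [← hcl]
    congr 1
    group
  obtain ⟨c, hc, hmul, -⟩ := IsIrrCharacter.exists_central_scalar (hirr τ.2) hz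
  exact ⟨c, hc, fun g => by rw [← hval, ← hval, QuotientGroup.mk_mul, hmul]⟩

/-- The descent. -/
theorem const_on_T (hS : IsRankOneSetup G Ω a t Q)
    (h2 : ∃ x y : G, x ≠ 1 ∧ y ≠ 1 ∧ x ≠ y ∧ x * x = 1 ∧ y * y = 1 ∧ x * y = y * x)
    (sp : Split a Q P T) (χ : IrrCharacter G)
    (hc : ∀ x ∈ P, x ≠ 1 → ∀ s ∈ T, (χ : G → ℂ) (x * s) = (χ : G → ℂ) x)
    (hlin : ∀ τ : T →* ℂˣ, τ ≠ 1 → ∑ s : T, (χ : G → ℂ) s * conj (τ s : ℂ) = 0)
    (hbig : 2 * Nat.card (twoStab a t) < Nat.card P) :
    ∀ s ∈ T, (χ : G → ℂ) s = (χ : G → ℂ) 1 := by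
  classical
  haveI := sp.nontrivial_T hS h2
  haveI := sp.nilpotent_T hS h2
  obtain ⟨z, hz⟩ := exists_coeff sp χ hc
  obtain ⟨b, -, hb⟩ := exists_center hS sp Finite.one_lt_card χ z fun τ hτ => (hz τ hτ).1
  set L : ℕ → Subgroup T := Subgroup.lowerCentralSeries ⊤ with hL
  have hP0 : (Nat.card P : ℂ) ≠ 0 := Nat.cast_ne_zero.2 Nat.card_pos.ne'
  -- the linear characters
  have hz1 : ∀ τ : IrrCharacter T, τ ≠ principal T → (∀ y ∈ L 1, (τ : T → ℂ) y = (τ : T → ℂ) 1) →
      z τ = 0 := by
    intro τ hτ htriv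
    have h1 : (τ : T → ℂ) 1 = 1 := degree_one_of_commutators τ.2 fun g h => htriv _ (by
      rw [hL, Subgroup.top_lowerCentralSeries_one]
      exact Subgroup.commutator_mem_commutator (Subgroup.mem_top g) (Subgroup.mem_top h))
    obtain ⟨f, hf⟩ := exists_hom_of_degree_one (IsIrrCharacter.isCharacter τ.2) h1
    have hf1 : f ≠ 1 := fun e => hτ (Subtype.ext (by rw [hf, e]; rfl))
    have := (hz τ hτ).1
    rw [classInner, hf, hlin f hf1, mul_zero] at this
    exact_mod_cast (mul_eq_zero.1 this.symm).resolve_left hP0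
  have main : ∀ i, ∀ τ : IrrCharacter T, τ ≠ principal T →
      (∀ y ∈ L (i + 1), (τ : T → ℂ) y = (τ : T → ℂ) 1) → z τ = 0 := by
    intro i
    induction i with
    | zero => exact hz1
    | succ i ih =>
      intro τ hτ htriv
      by_contra hne
      set N := L (i + 1) with hN
      haveI hNchar : N.Characteristic := Subgroup.lowerCentralSeries_characteristic (S := (⊤ : Subgroup T)) (i + 1)
      haveI : N.Normal := inferInstance
      obtain ⟨y₀, hy₀, hy₀τ⟩ : ∃ y ∈ N, (τ : T → ℂ) y ≠ (τ : T → ℂ) 1 := by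
        by_contra h; push Not at h; exact hne (ih τ hτ h)
      have hsc : ∀ y ∈ N, ∃ c : ℂ, ‖c‖ = 1 ∧ ∀ g, (τ : T → ℂ) (y * g) = c * (τ : T → ℂ) g := fun y hy =>
        exists_scalar τ fun g => htriv _ (by
          rw [hL, Subgroup.lowerCentralSeries_succ]
          exact Subgroup.commutator_mem_commutator hy (Subgroup.mem_top g))
      obtain ⟨d, hd0, hd⟩ := IsIrrCharacter.exists_degree τ.2
      -- the degree
      have hdN : d ^ 2 * Nat.card N ≤ Nat.card T := by
        have h1 := classInner_self_normSq (τ : T → ℂ)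
        rw [classInner_self_irr τ.2, Complex.one_re] at h1
        have hT0 : (0 : ℝ) < Nat.card T := by exact_mod_cast Nat.card_pos
        rw [eq_inv_mul_iff_mul_eq₀ hT0.ne', mul_one] at h1
        have hsum : ∑ g ∈ Finset.univ.filter (· ∈ N), Complex.normSq ((τ : T → ℂ) g) =
            (d : ℝ) ^ 2 * Nat.card N := by
          rw [Finset.sum_congr rfl (g := fun _ => (d : ℝ) ^ 2) fun g hg => ?_, Finset.sum_const,
            ← Fintype.card_subtype, ← Nat.card_eq_fintype_card, nsmul_eq_mul, mul_comm]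
          obtain ⟨c, hc1, hcg⟩ := hsc g (Finset.mem_filter.1 hg).2
          have := hcg 1
          rw [mul_one, hd] at this
          rw [this, Complex.normSq_eq_norm_sq, norm_mul, hc1, one_mul, Complex.norm_natCast]
        have h2' : (d : ℝ) ^ 2 * Nat.card N ≤ Nat.card T := by
          rw [← hsum, h1]
          exact Finset.sum_le_sum_of_subset_of_nonneg (Finset.subset_univ _)
            fun _ _ _ => Complex.normSq_nonneg _
        exact_mod_cast h2'
      have hdW : d ^ 2 ≤ N.index := by
        rw [← Subgroup.card_mul_index N, mul_comm (d ^ 2)] at hdN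
        exact Nat.le_of_mul_le_mul_left hdN Nat.card_pos
      -- inverted elements act freely on the translates
      have hfix : ∀ k : invK a t,
          conjIrr hS sp (Subgroup.inclusion (invK_le hS) k) τ = τ → k = 1 := by
        intro k hk
        by_contra hk1
        set dk := Subgroup.inclusion (invK_le hS) k with hdk
        have hinj : Function.Injective fun y : N => (y : T)⁻¹ * conjT hS sp dk y := by
          intro y w h
          have hj : (w : T) * (y : T)⁻¹ = conjT hS sp dk ((w : T) * (y : T)⁻¹) := by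
            rw [map_mul, map_inv]
            calc (w : T) * (y : T)⁻¹ = w * ((w : T)⁻¹ * conjT hS sp dk w) *
                  ((y : T)⁻¹ * conjT hS sp dk y)⁻¹ * (y : T)⁻¹ := by
                    simp only at h; rw [h]; group
              _ = _ := by group
          have h1 : ((w : T) * (y : T)⁻¹ : T) = 1 := by
            refine Subtype.ext (invK_fpf hS h2 k.2 (fun e => hk1 (Subtype.ext e)) (sp.T_le ((w : T) * (y : T)⁻¹).2) ?_)
            have h3 := congrArg Subtype.val hj
            change ((w : T) * (y : T)⁻¹ : T).1 = (k : G)⁻¹ * ((w : T) * (y : T)⁻¹ : T).1 * (k : G) at h3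
            conv_lhs => rw [h3]
            group
          exact Subtype.ext (mul_inv_eq_one.1 h1).symm
        have hcN : ∀ y : N, (y : T)⁻¹ * conjT hS sp dk y ∈ N := fun y => by
          refine mul_mem (inv_mem y.2) ?_
          have hbij : Function.Bijective (conjT hS sp dk) :=
            ⟨fun _ _ h => Subtype.ext (mul_left_cancel (mul_right_cancel (congrArg Subtype.val h))),
              conjT_surjective hS sp dk⟩
          have hfx := Subgroup.characteristic_iff_map_eq.1 hNchar (MulEquiv.ofBijective _ hbij)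
          exact (SetLike.ext_iff.1 hfx _).1 (Subgroup.mem_map_of_mem _ y.2)
        have hsurj := Finite.surjective_of_injective
          (f := fun y : N => (⟨_, hcN y⟩ : N)) fun y w h => hinj (congrArg Subtype.val h)
        obtain ⟨y, hy⟩ := hsurj ⟨y₀, hy₀⟩
        apply hy₀τ
        rw [← show (y : T)⁻¹ * conjT hS sp dk y = y₀ from congrArg Subtype.val hy]
        obtain ⟨c, -, hcg⟩ := hsc _ (inv_mem y.2)
        rw [hcg, ← conjIrr_apply, hk, ← hcg, inv_mul_cancel]
      set O : Finset (IrrCharacter T) := (Finset.univ : Finset (invK a t)).image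
        (fun k => conjIrr hS sp (Subgroup.inclusion (invK_le hS) k) τ) with hO
      have hOcard : O.card = Nat.card (invK a t) := by
        rw [hO, Finset.card_image_of_injective, Finset.card_univ, Nat.card_eq_fintype_card]
        intro k l hkl
        have h3 : conjIrr hS sp (Subgroup.inclusion (invK_le hS) (k⁻¹ * l)) τ = τ := by
          refine Subtype.ext (funext fun x => ?_)
          have h4 := congrFun (congrArg Subtype.val hkl) (conjT hS sp (Subgroup.inclusion (invK_le hS) k⁻¹) x)
          simp only [conjIrr_apply] at h4 ⊢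
          refine Eq.trans (congrArg (τ : T → ℂ) (Subtype.ext ?_)) (h4.symm.trans (congrArg (τ : T → ℂ) (Subtype.ext ?_)))
          · simp [conjT, mul_assoc]
          · simp [conjT, mul_assoc]
        exact inv_mul_eq_one.1 (hfix _ h3)
      set A : Finset (IrrCharacter T) := Finset.univ.filter
        (fun σ => σ ≠ principal T ∧ ∀ y ∈ N, (σ : T → ℂ) y = (σ : T → ℂ) 1) with hA
      have hOnot : ∀ σ ∈ O, ¬ ∀ y ∈ N, (σ : T → ℂ) y = (σ : T → ℂ) 1 := by
        intro σ hσ hall
        obtain ⟨k, -, rfl⟩ := Finset.mem_image.1 hσ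
        apply hy₀τ
        set dk := Subgroup.inclusion (invK_le hS) k
        have hbij : Function.Bijective (conjT hS sp dk) :=
          ⟨fun _ _ h => Subtype.ext (mul_left_cancel (mul_right_cancel (congrArg Subtype.val h))),
            conjT_surjective hS sp dk⟩
        have hfx := Subgroup.characteristic_iff_map_eq.1 hNchar (MulEquiv.ofBijective _ hbij)
        rw [← hfx] at hy₀
        obtain ⟨y, hy, rfl⟩ := hy₀
        have := hall y hy
        rwa [conjIrr_apply, conjIrr_apply, map_one] at this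
      have hdisj : Disjoint A O := Finset.disjoint_left.2 fun σ hσ hσO =>
        hOnot σ hσO (Finset.mem_filter.1 hσ).2.2
      have hprin : principal T ∉ A ∪ O := by
        rw [Finset.mem_union]
        rintro (h | h)
        · exact (Finset.mem_filter.1 h).2.1 rfl
        · exact hOnot _ h fun _ _ => rfl
      have key := hb _ hprin
      rw [Finset.sum_union hdisj] at key
      have hsumA : ∑ σ ∈ A, ((z σ : ℝ) - b * charDegree (σ : T → ℂ)) ^ 2 =
          b ^ 2 * ((N.index : ℝ) - 1) := by
        have h0 : ∀ σ ∈ A, ((z σ : ℝ) - b * charDegree (σ : T → ℂ)) ^ 2 =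
            b ^ 2 * (charDegree (σ : T → ℂ) : ℝ) ^ 2 := fun σ hσ => by
          rw [ih σ (Finset.mem_filter.1 hσ).2.1 (Finset.mem_filter.1 hσ).2.2, Nat.cast_zero]; ring
        rw [Finset.sum_congr rfl h0, ← Finset.mul_sum]
        congr 1
        have hsq := sum_sq_trivialOn N (insert (principal T) A) fun σ => by
          by_cases h : σ = principal T
          · simp [h, principal]
          · simp [hA, h]
        rw [Finset.sum_insert (fun h => (Finset.mem_filter.1 h).2.1 rfl),
          show charDegree (principal T : T → ℂ) = 1 from Cfsg.Agent.CharX.charDegree_one] at hsq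
        rw [← hsq]
        push_cast; ring
      have hdeg : charDegree (τ : T → ℂ) = d := by
        have := Cfsg.Agent.CharX.irr_deg τ
        rw [hd] at this
        exact_mod_cast this.symm
      have hsumO : ∑ σ ∈ O, ((z σ : ℝ) - b * charDegree (σ : T → ℂ)) ^ 2 =
          (Nat.card (invK a t) : ℝ) * ((z τ : ℝ) - b * d) ^ 2 := by
        rw [← hOcard, Finset.sum_congr rfl (g := fun _ => ((z τ : ℝ) - b * d) ^ 2) fun σ hσ => ?_,
          Finset.sum_const, nsmul_eq_mul]
        obtain ⟨k, -, rfl⟩ := Finset.mem_image.1 hσ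
        set σ := conjIrr hS sp (Subgroup.inclusion (invK_le hS) k) τ
        have hσne : σ ≠ principal T := fun e => hOnot σ hσ (by rw [e]; exact fun _ _ => rfl)
        have h3 := (hz σ hσne).1
        rw [classInner_conjIrr, (hz τ hτ).1, mul_right_inj' hP0, Nat.cast_inj] at h3
        have h4 : charDegree (σ : T → ℂ) = d := by
          rw [← hdeg]
          simp only [Cfsg.charDegree, σ, conjIrr_apply, map_one]
        rw [← h3, h4]
      rw [hsumA, hsumO] at key
      -- the index is large
      have hW : Nat.card (invK a t) + 1 ≤ N.index := by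
        have h1 : (L 1).index ∣ N.index :=
          Subgroup.index_dvd_of_le (Subgroup.lowerCentralSeries_antitone _ (Nat.le_add_left 1 i))
        refine le_trans ?_ (Nat.le_of_dvd (Nat.pos_of_ne_zero Subgroup.index_ne_zero_of_finite) h1)
        rw [hL, Subgroup.top_lowerCentralSeries_one, ← card_hom]
        haveI : Finite (T →* ℂˣ) := finite_hom
        haveI : Fintype (T →* ℂˣ) := Fintype.ofFinite _
        obtain ⟨f, hf⟩ : ∃ f : T →* ℂˣ, f ≠ 1 := by
          have := one_lt_card_hom T
          rw [Finite.one_lt_card_iff_nontrivial] at this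
          exact exists_ne 1
        have hinj : Function.Injective (fun k : invK a t =>
            (⟨f.comp (conjT hS sp (Subgroup.inclusion (invK_le hS) k)), fun e => hf (MonoidHom.ext fun x => by
              obtain ⟨y, rfl⟩ := conjT_surjective hS sp (Subgroup.inclusion (invK_le hS) k) x
              exact DFunLike.congr_fun e y)⟩ : {g : T →* ℂˣ // g ≠ 1})) := by
          intro k l hkl
          by_contra hne'
          apply hf
          have hkl' := congrArg Subtype.val hkl
          refine MonoidHom.ext fun x => ?_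
          obtain ⟨y, rfl⟩ := conjT_surjective hS sp (Subgroup.inclusion (invK_le hS) k) x
          have := eq_one_of_fixed hS sp.T_le (d := Subgroup.inclusion (invK_le hS) (k⁻¹ * l))
            (θ := f.comp sp.snd) (fun w hw => by
              simpa using sp.T_conj _ (inv_mem (Subgroup.mem_inf.1 (invK_le hS (k⁻¹ * l).2)).1) w hw)
            (fun w hw hcw => invK_fpf hS h2 (k⁻¹ * l).2 (fun e => hne' (inv_mul_eq_one.1 (Subtype.ext e)))
              (sp.T_le hw) hcw) ?_ (conjT hS sp (Subgroup.inclusion (invK_le hS) k) y)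
          · rw [MonoidHom.comp_apply, show sp.snd (Subgroup.inclusion sp.T_le _) = _ from sp.snd_inT _] at this
            exact this
          · refine MonoidHom.ext fun q => ?_
            simp only [MonoidHom.comp_apply]
            have hs : sp.snd (conjQ hS (Subgroup.inclusion (invK_le hS) (k⁻¹ * l)) q) =
                conjT hS sp (Subgroup.inclusion (invK_le hS) l)
                  (conjT hS sp (Subgroup.inclusion (invK_le hS) k⁻¹) (sp.snd q)) := by
              refine Subtype.ext ?_
              have hdec := sp.decomp q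
              have hPm : ((k⁻¹ * l : invK a t) : G)⁻¹ * (sp.fst q : P) * ((k⁻¹ * l : invK a t) : G) ∈ P := by
                simpa using sp.P_conj _ (inv_mem (Subgroup.mem_inf.1 (invK_le hS (k⁻¹ * l).2)).1) _ (sp.fst q).2
              have hTm : ((k⁻¹ * l : invK a t) : G)⁻¹ * (sp.snd q : T) * ((k⁻¹ * l : invK a t) : G) ∈ T := by
                simpa using sp.T_conj _ (inv_mem (Subgroup.mem_inf.1 (invK_le hS (k⁻¹ * l).2)).1) _ (sp.snd q).2
              have e := sp.decomp (conjQ hS (Subgroup.inclusion (invK_le hS) (k⁻¹ * l)) q)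
              have e2 : ((conjQ hS (Subgroup.inclusion (invK_le hS) (k⁻¹ * l)) q : Q) : G) =
                  (((k⁻¹ * l : invK a t) : G)⁻¹ * (sp.fst q : P) * ((k⁻¹ * l : invK a t) : G)) *
                  (((k⁻¹ * l : invK a t) : G)⁻¹ * (sp.snd q : T) * ((k⁻¹ * l : invK a t) : G)) := by
                rw [conjQ_coe, Subgroup.coe_inclusion, hdec]; group
              rw [e] at e2
              refine ((sp.unique (sp.fst _).2 hPm (sp.snd _).2 hTm e2).2).trans ?_
              simp [conjT, mul_assoc]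
            rw [hs]
            have h5 := DFunLike.congr_fun hkl' (conjT hS sp (Subgroup.inclusion (invK_le hS) k⁻¹) (sp.snd q))
            simp only [MonoidHom.comp_apply] at h5
            rw [← h5]
            congr 1
            exact Subtype.ext (by simp [conjT, mul_assoc])
        have := Nat.card_le_card_of_injective _ hinj
        rw [Nat.card_eq_fintype_card (α := {g : T →* ℂˣ // g ≠ 1}), Fintype.card_subtype_compl,
          Fintype.card_subtype_eq, ← Nat.card_eq_fintype_card (α := T →* ℂˣ)] at this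
        have := Nat.card_pos (α := T →* ℂˣ)
        omega
      -- the contradiction
      have hK := (three_le_card_invK hS h2).1
      set K : ℝ := ((Nat.card (invK a t) : ℕ) : ℝ)
      set Wm : ℝ := (N.index : ℝ) - 1 with hWm
      have hK3 : (3 : ℝ) ≤ K := by simp only [K]; exact_mod_cast hK
      have hWK : K ≤ Wm := by
        have : ((Nat.card (invK a t) + 1 : ℕ) : ℝ) ≤ (N.index : ℝ) := by exact_mod_cast hW
        push_cast at this
        simp only [K, hWm]
        linarith
      have hz' : (1 : ℝ) ≤ (z τ : ℝ) := by exact_mod_cast Nat.one_le_iff_ne_zero.2 hne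
      have hd2 : (d : ℝ) ^ 2 ≤ Wm + 1 := by
        have : ((d ^ 2 : ℕ) : ℝ) ≤ (N.index : ℝ) := by exact_mod_cast hdW
        push_cast at this
        simp only [hWm]
        linarith
      have hhalf : (1 : ℝ) ≤ 2 * (b ^ 2 * Wm + K * ((z τ : ℝ) - b * d) ^ 2) := by
        have e : (b ^ 2 * Wm + K * ((z τ : ℝ) - b * d) ^ 2) * (Wm + K * (d : ℝ) ^ 2) =
            Wm * K * (z τ : ℝ) ^ 2 + ((Wm + K * (d : ℝ) ^ 2) * b - K * (z τ : ℝ) * d) ^ 2 := by ring
        have h1 : Wm + K * (d : ℝ) ^ 2 ≤ 2 * (Wm * K) := by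
          nlinarith [mul_le_mul_of_nonneg_left hd2 (by linarith : (0 : ℝ) ≤ K),
            mul_nonneg (by linarith : (0 : ℝ) ≤ Wm - 2) (by linarith : (0 : ℝ) ≤ K - 2)]
        have h2' : Wm * K ≤ Wm * K * (z τ : ℝ) ^ 2 :=
          le_mul_of_one_le_right (mul_nonneg (by linarith) (by linarith)) (one_le_pow₀ hz')
        have hpos : 0 ≤ b ^ 2 * Wm + K * ((z τ : ℝ) - b * d) ^ 2 :=
          add_nonneg (mul_nonneg (sq_nonneg b) (by linarith)) (mul_nonneg (by linarith) (sq_nonneg _))
        have h3 : Wm * K ≤ (b ^ 2 * Wm + K * ((z τ : ℝ) - b * d) ^ 2) * (2 * (Wm * K)) :=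
          le_trans (le_trans h2' (le_trans (le_add_of_nonneg_right (sq_nonneg _)) e.ge))
            (mul_le_mul_of_nonneg_left h1 hpos)
        have hWK0 : 0 < Wm * K := mul_pos (by linarith) (by linarith)
        nlinarith
      have hbig' : 2 * (Nat.card (twoStab a t) : ℝ) < Nat.card P := by exact_mod_cast hbig
      nlinarith [mul_le_mul_of_nonneg_left hhalf (Nat.cast_nonneg (Nat.card P) : (0 : ℝ) ≤ Nat.card P)]
  obtain ⟨n, hn⟩ := Subgroup.nilpotent_iff_lowerCentralSeries.1 (inferInstance : Group.IsNilpotent T)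
  have hall : ∀ τ : IrrCharacter T, τ ≠ principal T → z τ = 0 := fun τ hτ => main n τ hτ fun y hy => by
    have : y ∈ L n := Subgroup.lowerCentralSeries_antitone _ (Nat.le_succ n) hy
    rw [hL, hn, Subgroup.mem_bot] at this
    rw [this]
  intro s hs
  have hchar := IsCharacter.restrict (IsIrrCharacter.isCharacter χ.2) T
  have key : ∀ u : T, (χ : G → ℂ) u =
      classInner (fun s : T => (χ : G → ℂ) s) (principal T : T → ℂ) := by
    intro u
    have h := congrFun (classFunction_eq_sum (IsCharacter.isClassFunction hchar)) u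
    rw [Finset.sum_apply, Finset.sum_eq_single (principal T)] at h
    · rw [h]; simp [principal]
    · intro τ _ hτ
      rw [Pi.smul_apply, (hz τ hτ).1, hall τ hτ, Nat.cast_zero, mul_zero, zero_smul]
    · exact fun h => absurd (Finset.mem_univ _) h
  exact (key ⟨s, hs⟩).trans (key 1).symm

/-- A normal subgroup containing an involution contains `Q`. -/
theorem Q_le_of_invol_mem (hS : IsRankOneSetup G Ω a t Q)
    (h2 : ∃ x y : G, x ≠ 1 ∧ y ≠ 1 ∧ x ≠ y ∧ x * x = 1 ∧ y * y = 1 ∧ x * y = y * x)
    {N : Subgroup G} [hN : N.Normal] {u : G} (hu : IsInvol u) (huN : u ∈ N) : Q ≤ N := by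
  have hall : ∀ v : G, IsInvol v → v ∈ N := fun v hv => by
    obtain ⟨g, rfl⟩ := all_conj hS hu hv
    exact hN.conj_mem u huN g
  obtain ⟨k, hk, hk1⟩ := exists_inverted_ne_one hS h2
  have hkN : k ∈ N := by
    have h1 := hall _ (swap_of_inverted hS hk).1
    have h2' := mul_mem (hall t (t_invol hS)) h1
    rwa [← mul_assoc, hS.mul_self, one_mul] at h2'
  have hkH : k ∈ stabilizer G a := (Subgroup.mem_inf.1 hk.1).1
  let f : Q → Q := fun x => ⟨k * (x : G) * k⁻¹ * (x : G)⁻¹,
    mul_mem (hS.conj_mem k hkH x x.2) (inv_mem x.2)⟩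
  have hf : Function.Injective f := fun x y h => by
    have h' : k * (x : G) * k⁻¹ * (x : G)⁻¹ = k * (y : G) * k⁻¹ * (y : G)⁻¹ := congrArg Subtype.val h
    refine Subtype.ext (inv_mul_eq_one.1 (invK_fpf hS h2 (Subgroup.subset_closure hk) hk1
      (mul_mem (inv_mem x.2) y.2) ?_))
    calc k * ((x : G)⁻¹ * y) =
          (x : G)⁻¹ * ((k * (x : G) * k⁻¹ * (x : G)⁻¹)⁻¹ * (k * (y : G) * k⁻¹ * (y : G)⁻¹)) * y * k := by group
      _ = (x : G)⁻¹ * y * k := by rw [h']; group
  intro x hx
  obtain ⟨y, hy⟩ := Finite.surjective_of_injective hf ⟨x, hx⟩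
  have e : k * (y : G) * k⁻¹ * (y : G)⁻¹ = x := congrArg Subtype.val hy
  rw [← e, mul_assoc k, mul_assoc k]
  exact mul_mem hkN (hN.conj_mem _ (inv_mem hkN) y)

/-- An irreducible character constant on `T` is constant on `Q`. -/
theorem const_Q_of_const_T (hS : IsRankOneSetup G Ω a t Q)
    (h2 : ∃ x y : G, x ≠ 1 ∧ y ≠ 1 ∧ x ≠ y ∧ x * x = 1 ∧ y * y = 1 ∧ x * y = y * x)
    (sp : Split a Q P T) (χ : IrrCharacter G)
    (h : ∀ s ∈ T, (χ : G → ℂ) s = (χ : G → ℂ) 1) :
    ∀ q : Q, (χ : G → ℂ) q = (χ : G → ℂ) 1 := by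
  obtain ⟨N, hN, hmem, -⟩ := IsCharacter.exists_kernel (IsIrrCharacter.isCharacter χ.2)
  haveI := hN
  obtain ⟨s, -, hs, -, -⟩ := two_invol_fixing hS h2
  intro q
  exact (hmem q).1 (Q_le_of_invol_mem hS h2 ((mem_involutionsIn hS).1 hs).1
    ((hmem s).2 (h s (sp.invol_mem hs))) q.2)

end Cfsg.Agent.RankOneChar
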