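import Cfsg.Agent.Lib.RankOneChar.Family
import Cfsg.Agent.Lib.RankOneChar.Section
import Cfsg.Agent.Lib.RankOneChar.Series
import Mathlib.GroupTheory.GroupAction.ConjAct

/-!
# `D` does not act fixed-point-freely on a Sylow subgroup of odd order of `Q`
-/

set_option autoImplicit false
set_option linter.unusedSectionVars false
set_option linter.style.haveILetI false

namespace Cfsg.Agent.RankOneChar

open Cfsg Cfsg.Agent.Char Cfsg.Agent.RankOne MulAction
open scoped ComplexConjugate

universe u v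

variable {G : Type u} {Ω : Type v} [Group G] [Fintype G] [MulAction G Ω] {a : Ω} {t : G}
  {Q P T : Subgroup G}

theorem Owners.exists_rep {hS : IsRankOneSetup G Ω a t Q} {sp : Split a Q P T} {ι : Type u}
    [Fintype ι] (ow : Owners hS sp ι) {θ : Q →* ℂˣ} (hθ : Regular hS sp θ) :
    ∃ i, ∃ d : twoStab a t, θ = (ow.θ i).comp (conjQ hS d) := by
  haveI : Finite (Q →* ℂˣ) := finite_hom
  have hreg : ∀ p : ι × twoStab a t, Regular hS sp ((ow.θ p.1).comp (conjQ hS p.2)) := fun p =>
    ⟨nontrivP_comp hS sp (ow.reg p.1).1 p.2, fun e he => by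
      have he' : ((ow.θ p.1).comp (conjQ hS p.2)).comp (conjQ hS e) = (ow.θ p.1).comp (conjQ hS p.2) := he
      have h : Fixes hS (p.2⁻¹ * e * p.2) (ow.θ p.1) := by
        refine MonoidHom.ext fun x => ?_
        have h := DFunLike.congr_fun he' (conjQ hS p.2⁻¹ x)
        simp only [MonoidHom.comp_apply, ← conjQ_mul, inv_mul_cancel, conjQ_one] at h
        rw [MonoidHom.comp_apply]
        exact h
      calc e = p.2 * (p.2⁻¹ * e * p.2) * p.2⁻¹ := by group
        _ = 1 := by rw [(ow.reg p.1).2 _ h]; group⟩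
  have hinj : Function.Injective (fun p : ι × twoStab a t =>
      (⟨(ow.θ p.1).comp (conjQ hS p.2), hreg p⟩ : {θ : Q →* ℂˣ // Regular hS sp θ})) := by
    rintro ⟨i, d⟩ ⟨j, e⟩ h
    have h' : (ow.θ i).comp (conjQ hS d) = (ow.θ j).comp (conjQ hS e) := congrArg Subtype.val h
    have h1 : ow.θ i = (ow.θ j).comp (conjQ hS (d⁻¹ * e)) := MonoidHom.ext fun x => by
      have h2 := DFunLike.congr_fun h' (conjQ hS d⁻¹ x)
      simp only [MonoidHom.comp_apply, ← conjQ_mul, inv_mul_cancel, conjQ_one] at h2 ⊢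
      exact h2
    obtain rfl := ow.orbit i j _ h1
    rw [inv_mul_eq_one.1 ((ow.reg i).2 _ h1.symm)]
  have hbij := (Nat.bijective_iff_injective_and_card _).2
    ⟨hinj, (Nat.card_prod _ _).trans ow.card_eq⟩
  obtain ⟨⟨i, d⟩, h⟩ := hbij.2 ⟨θ, hθ⟩
  exact ⟨i, d, (congrArg Subtype.val h).symm⟩

/-- The stabiliser in `D` of a linear character, inside `G_a`. -/
noncomputable def extSub (hS : IsRankOneSetup G Ω a t Q) (St : Subgroup (twoStab a t)) : Subgroup G :=
  (St.comap (dPart hS)).map (stabilizer G a).subtype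

theorem mem_extSub {hS : IsRankOneSetup G Ω a t Q} {St : Subgroup (twoStab a t)} {g : G} :
    g ∈ extSub hS St ↔ ∃ hg : g ∈ stabilizer G a, dPart hS ⟨g, hg⟩ ∈ St :=
  ⟨fun ⟨h, hh, e⟩ => e ▸ ⟨h.2, hh⟩, fun ⟨hg, h⟩ => ⟨⟨g, hg⟩, h, rfl⟩⟩

theorem extSub_le {hS : IsRankOneSetup G Ω a t Q} {St : Subgroup (twoStab a t)} :
    extSub hS St ≤ stabilizer G a := fun _ h => (mem_extSub.1 h).choose

theorem le_extSub {hS : IsRankOneSetup G Ω a t Q} {St : Subgroup (twoStab a t)} :
    Q ≤ extSub hS St := fun x hx =>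
  mem_extSub.2 ⟨hS.le hx, by rw [dPart_of_mem_Q hS _ hx]; exact one_mem _⟩

section ext

variable (hS : IsRankOneSetup G Ω a t Q) (St : Subgroup (twoStab a t))

/-- The projection to `St`. -/
noncomputable def extD : extSub hS St →* St where
  toFun m := ⟨dPart hS ⟨m, extSub_le m.2⟩, (mem_extSub.1 m.2).choose_spec⟩
  map_one' := Subtype.ext (map_one (dPart hS))
  map_mul' m n := Subtype.ext (map_mul (dPart hS) ⟨m, extSub_le m.2⟩ ⟨n, extSub_le n.2⟩)

/-- The `Q`-part. -/
noncomputable def extQ (m : extSub hS St) : Q :=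
  ⟨(m : G) * (((extD hS St m : St) : twoStab a t) : G)⁻¹, dPart_spec hS ⟨m, extSub_le m.2⟩⟩

/-- The extension of an invariant linear character. -/
noncomputable def extHom (θ : Q →* ℂˣ) (hθ : ∀ d ∈ St, Fixes hS d θ) : extSub hS St →* ℂˣ :=
  MonoidHom.mk' (fun m => θ (extQ hS St m)) fun m n => by
    set d : twoStab a t := ((extD hS St m : St) : twoStab a t) with hd
    have e : extQ hS St (m * n) = extQ hS St m * conjQ hS d⁻¹ (extQ hS St n) := by
      refine Subtype.ext ?_
      simp only [extQ, hd, map_mul, Subgroup.coe_mul, conjQ_coe, Subgroup.coe_inv, inv_inv,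
        mul_inv_rev]
      group
    have h := DFunLike.congr_fun (hθ _ (inv_mem (extD hS St m).2)) (extQ hS St n)
    rw [MonoidHom.comp_apply] at h
    rw [e, map_mul, h]

/-- `Q × St` is the subgroup. -/
noncomputable def extEquiv : extSub hS St ≃ Q × St where
  toFun m := (extQ hS St m, extD hS St m)
  invFun p := ⟨(p.1 : G) * ((p.2 : twoStab a t) : G), mem_extSub.2
    ⟨mul_mem (hS.le p.1.2) (Subgroup.mem_inf.1 (p.2 : twoStab a t).2).1, by
      rw [dPart_mul_eq hS p.1.2 (p.2 : twoStab a t).2 _ rfl]; exact p.2.2⟩⟩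
  left_inv m := Subtype.ext (by simp [extQ])
  right_inv p := by
    have hd : dPart hS (⟨(p.1 : G) * ((p.2 : twoStab a t) : G),
        mul_mem (hS.le p.1.2) (Subgroup.mem_inf.1 (p.2 : twoStab a t).2).1⟩ : stabilizer G a) = p.2 :=
      dPart_mul_eq hS p.1.2 (p.2 : twoStab a t).2 _ rfl
    refine Prod.ext (Subtype.ext ?_) (Subtype.ext hd)
    simp [extQ, extD, hd]

theorem sum_ext {A : Type*} [AddCommMonoid A] (F : Q → St → A) :
    ∑ m : extSub hS St, F (extQ hS St m) (extD hS St m) = ∑ q : Q, ∑ d : St, F q d := by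
  rw [← Fintype.sum_prod_type']
  exact Fintype.sum_equiv (extEquiv hS St) _ _ fun m => rfl

theorem card_ext : Nat.card (extSub hS St) = Nat.card Q * Nat.card St := by
  rw [Nat.card_congr (extEquiv hS St), Nat.card_prod]

/-- An element of `Q D` with a second fixed point has `Q`-part a twisted commutator. -/
theorem extHom_eq_one (θ : Q →* ℂˣ) (hθ : ∀ d ∈ St, Fixes hS d θ) (m : extSub hS St)
    (hm : ¬ Lonely a (m : G)) : extHom hS St θ hθ m = 1 := by
  obtain ⟨q, hq, hd⟩ := exists_conj_twoStab hS (extSub_le m.2) hm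
  set d : twoStab a t := ((extD hS St m : St) : twoStab a t) with hdd
  have hdq : dPart hS ⟨m, extSub_le m.2⟩ = ⟨_, hd⟩ := by
    refine dPart_mul_eq hS (q := q * ((q⁻¹ * (m : G) * q) * q⁻¹ * (q⁻¹ * (m : G) * q)⁻¹))
      (mul_mem hq (hS.conj_mem _ (Subgroup.mem_inf.1 hd).1 _ (inv_mem hq))) hd _ ?_
    group
  have e : extQ hS St m = (⟨q, hq⟩ : Q) * (conjQ hS d⁻¹ ⟨q, hq⟩)⁻¹ := by
    refine Subtype.ext ?_
    have hd' : (d : G) = q⁻¹ * (m : G) * q := congrArg Subtype.val hdq
    show (m : G) * (d : G)⁻¹ = q * (((d⁻¹ : twoStab a t) : G)⁻¹ * q * (d⁻¹ : twoStab a t))⁻¹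
    rw [Subgroup.coe_inv, hd']
    group
  have h := DFunLike.congr_fun (hθ _ (inv_mem (extD hS St m).2)) (⟨q, hq⟩ : Q)
  rw [MonoidHom.comp_apply] at h
  show θ (extQ hS St m) = 1
  rw [e, map_mul, map_inv, h, mul_inv_cancel]

end ext

theorem eq_zero_of_mul_normSq_le {n : ℕ} {c : ℂ} {z : ℤ} (hz : c = z) {B : ℝ}
    (h : (n : ℝ) * Complex.normSq c ≤ B) (hB : B < n) : c = 0 := by
  by_contra h0
  have hz0 : z ≠ 0 := fun e => h0 (by rw [hz, e, Int.cast_zero])
  have h1 : (1 : ℝ) ≤ Complex.normSq c := by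
    rw [hz, ← Complex.ofReal_intCast, Complex.normSq_ofReal, ← Int.cast_mul, ← Int.cast_one,
      Int.cast_le]
    exact mul_self_pos.2 hz0
  nlinarith [mul_le_mul_of_nonneg_left h1 (Nat.cast_nonneg n : (0 : ℝ) ≤ n)]

/-- Members of the family have no constituent trivial on `Q` in `G_a`. -/
theorem Owners.sum_Q_eq_zero {hS : IsRankOneSetup G Ω a t Q} {sp : Split a Q P T} {ι : Type u}
    [Fintype ι] (ow : Owners hS sp ι) (hm : 3 ≤ Nat.card ι) (i : ι) (d : twoStab a t) :
    ∑ q : Q, (ow.X i : G → ℂ) ((q : G) * d) = 0 := by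
  classical
  have hHX : ∀ (j : ι), IsCharacter (stabilizer G a) (fun h : stabilizer G a => (ow.X j : G → ℂ) h) :=
    fun j => IsCharacter.restrict (IsIrrCharacter.isCharacter (ow.X j).2) _
  set g : twoStab a t → ℂ := fun d => ∑ q : Q, (ow.X i : G → ℂ) ((q : G) * d) with hg
  have hgc : IsClassFunction (twoStab a t) g := by
    intro x y
    simp only [hg]
    refine Fintype.sum_bijective (conjQ hS y) (conjQ_bijective hS y) _ _ fun q => ?_
    have h := IsCharacter.isClassFunction (IsIrrCharacter.isCharacter (ow.X i).2)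
      ((conjQ hS y q : G) * (x : G)) (y : G)
    rw [← h, conjQ_coe]
    congr 1
    simp only [Subgroup.coe_mul, Subgroup.coe_inv]
    group
  suffices g = 0 from congrFun this d
  refine eq_zero_of_orthogonal hgc fun φ hφ => ?_
  have hφc := IsCharacter.isClassFunction (IsIrrCharacter.isCharacter hφ)
  set φb : stabilizer G a → ℂ := fun h => φ (dPart hS h) with hφb
  have hφbc : IsCharacter (stabilizer G a) φb := IsCharacter.comp (IsIrrCharacter.isCharacter hφ) (dPart hS)
  let w : G → ℂ := fun g => if hg : g ∈ stabilizer G a then conj (φ (dPart hS ⟨g, hg⟩)) else 0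
  have hw : ∀ x ∈ P, ∀ s ∈ T, w (x * s) = w s := fun x hx s hs => by
    have h1 : x * s ∈ Q := mul_mem (sp.P_le hx) (sp.T_le hs)
    simp only [w, dif_pos (hS.le h1), dif_pos (hS.le (sp.T_le hs)), dPart_of_mem_Q hS ⟨_, hS.le h1⟩ h1,
      dPart_of_mem_Q hS ⟨_, hS.le (sp.T_le hs)⟩ (sp.T_le hs)]
  have hinner : ∀ j, classInner (inflInd hS φ) (ow.X j : G → ℂ) =
      (Nat.card (stabilizer G a) : ℂ)⁻¹ * conj (∑ h : stabilizer G a, (ow.X j : G → ℂ) h * w h) := by
    intro j
    rw [inflInd, classInner_indFun_left _ _ (IsCharacter.isClassFunction (IsIrrCharacter.isCharacter (ow.X j).2)),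
      classInner, map_sum]
    congr 1
    refine Finset.sum_congr rfl fun h _ => ?_
    simp only [w, dif_pos h.2, map_mul, Complex.conj_conj]
    ring
  have hconst : ∀ j, classInner (inflInd hS φ) (ow.X j : G → ℂ) = classInner (inflInd hS φ) (ow.X i : G → ℂ) :=
    fun j => by rw [hinner, hinner, ow.sum_eq hS.le le_rfl w hw j i]
  have hle := ow.card_mul_normSq_le (isClassFunction_indFun _ _) hconst
  obtain ⟨n, hn⟩ := IsCharacter.exists_classInner_nat hφbc (hHX i)
  have hn' : classInner (inflInd hS φ) (ow.X i : G → ℂ) = (n : ℂ) := by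
    rw [inflInd, classInner_indFun_left _ _ (IsCharacter.isClassFunction (IsIrrCharacter.isCharacter (ow.X i).2))]
    exact hn
  have hnorm : (classInner (inflInd hS φ) (inflInd hS φ)).re ≤ 2 := by
    set φt : twoStab a t → ℂ := fun d => φ ⟨t * d * t⁻¹, conj_twoStab hS d.2⟩ with hφt
    rw [classInner_inflInd hS hφc hφc, classInner_self_irr hφ, Complex.add_re, Complex.one_re]
    have h1 := classInner_self_nonneg (φt - φ)
    have h2 : classInner φt φt = 1 := by
      rw [← classInner_self_irr hφ, classInner, classInner]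
      congr 1
      refine Fintype.sum_bijective (fun d : twoStab a t => (⟨t * d * t⁻¹, conj_twoStab hS d.2⟩ : twoStab a t))
        ⟨fun x y h => Subtype.ext (mul_left_cancel (mul_right_cancel (congrArg Subtype.val h))),
          fun x => ⟨⟨t * x * t⁻¹, conj_twoStab hS x.2⟩, Subtype.ext ?_⟩⟩ _ _ fun d => rfl
      show t * (t * (x : G) * t⁻¹) * t⁻¹ = x
      calc t * (t * (x : G) * t⁻¹) * t⁻¹ = (t * t) * (x : G) * (t * t)⁻¹ := by group
        _ = x := by rw [hS.mul_self]; group
    rw [classInner_sub_left, classInner_sub_right, classInner_sub_right, h2, classInner_self_irr hφ,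
      ← classInner_conj_symm φt φ, Complex.sub_re, Complex.sub_re, Complex.sub_re, Complex.one_re,
      Complex.conj_re] at h1
    linarith
  have h0 := eq_zero_of_mul_normSq_le (n := Nat.card ι) (z := (n : ℤ)) (by rw [hn']; simp)
    (hle.trans hnorm) (by
    exact_mod_cast (show 2 < Nat.card ι by omega))
  rw [hinner, mul_eq_zero] at h0
  have h2 := h0.resolve_left (inv_ne_zero (Nat.cast_ne_zero.2 Nat.card_pos.ne'))
  rw [map_eq_zero] at h2
  rw [sum_stabilizer hS (fun g => (ow.X i : G → ℂ) g * w g), Finset.sum_comm] at h2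
  have hzero : ∑ d : twoStab a t, g d * conj (φ d) = 0 := by
    rw [← h2]
    refine Finset.sum_congr rfl fun d _ => ?_
    simp only [hg, Finset.sum_mul]
    refine Finset.sum_congr rfl fun q _ => ?_
    have hm : (q : G) * d ∈ stabilizer G a := mul_mem (hS.le q.2) (Subgroup.mem_inf.1 d.2).1
    simp only [w, dif_pos hm, dPart_mul_eq hS q.2 d.2 ⟨_, hm⟩ rfl]
  rw [classInner, hzero, mul_zero]

/-- Fixed-point-freeness of `D` on `P` gives `C_{G_a}(x) ≤ Q`. -/
theorem centralizer_le_Q (hS : IsRankOneSetup G Ω a t Q) (sp : Split a Q P T) {p : ℕ} [Fact p.Prime]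
    (hP : IsPGroup p P) (hfpf : ∀ d ∈ twoStab a t, d ≠ 1 → ∀ x ∈ P, d * x = x * d → x = 1)
    {x : G} (hx : x ∈ P) (hx1 : x ≠ 1) {g : G} (hg : g * x = x * g) : g ∈ Q := by
  classical
  have hgH : g ∈ stabilizer G a := by
    refine mem_stabilizer_of_conj' (lonely_of_mem_Q hS (sp.P_le hx) hx1) ?_
    rw [mul_assoc, ← hg, inv_mul_cancel_left]
    exact hS.le (sp.P_le hx)
  obtain ⟨q, hq, d, hd, rfl⟩ := exists_qd hS hgH
  by_contra hnot
  have hd1 : d ≠ 1 := fun e => hnot (by rw [e, mul_one]; exact hq)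
  obtain ⟨u, hu, s, hs, rfl⟩ := sp.cover q hq
  have hdH := (Subgroup.mem_inf.1 hd).1
  -- the class of `x` in `P` is stable under `d`
  set x' : P := ⟨x, hx⟩
  set C : Set P := MulAction.orbit (ConjAct P) x' with hC
  have hdx : ∀ y ∈ C, (⟨d * (y : G) * d⁻¹, sp.P_conj d hdH _ y.2⟩ : P) ∈ C := by
    rintro _ ⟨v, rfl⟩
    obtain ⟨v, rfl⟩ := ConjAct.toConjAct.surjective v
    have h1 : d * x * d⁻¹ = u⁻¹ * x * u := by
      have h2 : s * (d * x * d⁻¹) = (d * x * d⁻¹) * s := (sp.comm _ (sp.P_conj d hdH x hx) s hs).symm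
      calc d * x * d⁻¹ = u⁻¹ * (u * (s * (d * x * d⁻¹)) * s⁻¹ * u⁻¹) * u := by rw [h2]; group
        _ = u⁻¹ * ((u * s * d) * x * (u * s * d)⁻¹) * u := by group
        _ = u⁻¹ * x * u := by rw [hg, mul_inv_cancel_right]
    refine ⟨ConjAct.toConjAct (⟨d * (v : G) * d⁻¹ * u⁻¹,
      mul_mem (sp.P_conj d hdH _ v.2) (inv_mem hu)⟩ : P), ?_⟩
    refine Subtype.ext ?_
    simp only [ConjAct.toConjAct_smul, Subgroup.coe_mul, Subgroup.coe_inv, x']
    calc d * (v : G) * d⁻¹ * u⁻¹ * x * (d * (v : G) * d⁻¹ * u⁻¹)⁻¹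
        = d * (v : G) * d⁻¹ * (u⁻¹ * x * u) * d * (v : G)⁻¹ * d⁻¹ := by group
      _ = d * ((v : G) * x * (v : G)⁻¹) * d⁻¹ := by rw [← h1]; group
  -- free actions of `⟨d⟩`
  set Z := Subgroup.zpowers d with hZ
  have hZD : Z ≤ twoStab a t := Subgroup.zpowers_le.2 hd
  letI : MulAction Z P :=
    { smul := fun z y => ⟨(z : G) * y * (z : G)⁻¹, sp.P_conj z (Subgroup.mem_inf.1 (hZD z.2)).1 _ y.2⟩
      one_smul := fun y => Subtype.ext (show (1 : G) * (y : G) * (1 : G)⁻¹ = y by group)
      mul_smul := fun z w y => Subtype.ext (show ((z : G) * w) * (y : G) * ((z : G) * w)⁻¹ =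
        (z : G) * ((w : G) * y * (w : G)⁻¹) * (z : G)⁻¹ by group) }
  have hfree : ∀ (z : Z) (y : P), z • y = y → y ≠ 1 → z = 1 := by
    intro z y h hy
    by_contra hz
    refine hy (Subtype.ext (hfpf z (hZD z.2) (fun e => hz (Subtype.ext e)) y y.2 ?_))
    exact mul_inv_eq_iff_eq_mul.1 (congrArg Subtype.val h)
  have hCne : ∀ y ∈ C, y ≠ 1 := by
    rintro _ ⟨v, rfl⟩ h
    exact hx1 (congrArg Subtype.val ((smul_eq_iff_eq_inv_smul v).1 h |>.trans (smul_one v⁻¹)))
  have hCZ : ∀ (z : Z), ∀ y ∈ C, z • y ∈ C := by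
    intro z y hy
    obtain ⟨z, hz⟩ := z
    obtain ⟨n, rfl⟩ := mem_powers_iff_mem_zpowers.2 hz
    induction n with
    | zero =>
      convert hy using 1
      exact Subtype.ext (show d ^ 0 * (y : G) * (d ^ 0)⁻¹ = y by group)
    | succ n ih =>
      have h := hdx _ (ih (mem_powers_iff_mem_zpowers.1 ⟨n, rfl⟩))
      convert h using 1
      exact Subtype.ext (show d ^ (n + 1) * (y : G) * (d ^ (n + 1))⁻¹ =
        d * (d ^ n * (y : G) * (d ^ n)⁻¹) * d⁻¹ by rw [pow_succ']; group)
  let CS : SubMulAction Z P := { carrier := C, smul_mem' := fun z {y} hy => hCZ z y hy }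
  let PS : SubMulAction Z P :=
    { carrier := {y | y ≠ 1}
      smul_mem' := fun z {y} hy e => hy (by
        have e' : (z : G) * (y : G) * (z : G)⁻¹ = 1 := congrArg Subtype.val e
        exact Subtype.ext (conj_eq_one_iff.1 e')) }
  have h1 : Nat.card Z ∣ Nat.card C :=
    card_dvd_of_free (X := CS) fun z y h => hfree z y.1 (congrArg Subtype.val h) (hCne _ y.2)
  have h2 : Nat.card Z ∣ Nat.card P - 1 := by
    have := card_dvd_of_free (X := PS) fun z y h => hfree z y.1 (congrArg Subtype.val h) y.2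
    rwa [show Nat.card PS = Nat.card P - 1 by
      rw [show Nat.card PS = Nat.card {y : P // y ≠ 1} from rfl, Nat.card_eq_fintype_card,
        Fintype.card_subtype_compl, Fintype.card_subtype_eq, Nat.card_eq_fintype_card]] at this
  have h3 : Nat.card C ∣ Nat.card P := by
    have := (MulAction.stabilizer (ConjAct P) x').index_dvd_card
    rw [index_stabilizer, ← Nat.card_coe_set_eq] at this
    exact this
  have h4 : Nat.card Z ∣ 1 := by
    have hpos := Nat.card_pos (α := P)
    have := Nat.dvd_sub (h1.trans h3) h2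
    rwa [Nat.sub_sub_self hpos] at this
  exact hd1 (Subgroup.zpowers_eq_bot.1 (Subgroup.card_eq_one.1 (Nat.dvd_one.1 h4)))

/-- **Main theorem.** -/
theorem main (hS : IsRankOneSetup G Ω a t Q)
    (h2 : ∃ x y : G, x ≠ 1 ∧ y ≠ 1 ∧ x ≠ y ∧ x * x = 1 ∧ y * y = 1 ∧ x * y = y * x)
    (sp : Split a Q P T) {p : ℕ} [Fact p.Prime] (hP : IsPGroup p P) (hT : ¬ p ∣ Nat.card T)
    (hfpf : ∀ d ∈ twoStab a t, d ≠ 1 → ∀ x ∈ P, d * x = x * d → x = 1) : False := by
  classical
  haveI := sp.nilpotent_T hS h2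
  haveI := sp.nontrivial_T hS h2
  haveI : Finite (Q →* ℂˣ) := finite_hom
  haveI : Finite (P →* ℂˣ) := finite_hom
  haveI : Finite (T →* ℂˣ) := finite_hom
  obtain ⟨M, hM⟩ := Cfsg.Agent.Blocks.exists_isPModular_witness p
  haveI := hM.2.1.isPrime
  set E := Nat.card (P →* ℂˣ) with hE
  set Tab := Nat.card (T →* ℂˣ) with hTab
  have hEb : 2 * Nat.card (twoStab a t) + 1 ≤ E := sp.hom_P_bound hS h2 _ le_rfl hfpf
  have hTab2 : 2 ≤ Tab := one_lt_card_hom T
  have hregP : ∀ θ : Q →* ℂˣ, Regular hS sp θ ↔ sp.NontrivP θ := by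
    refine fun θ => ⟨fun h => h.1, fun h => ⟨h, fun d hd => ?_⟩⟩
    by_contra hd1
    exact h (MonoidHom.ext fun x => eq_one_of_fixed hS sp.P_le (fun y hy => by
      simpa using sp.P_conj _ (inv_mem (Subgroup.mem_inf.1 d.2).1) y hy)
      (fun y hy hc => hfpf d d.2 (fun e => hd1 (Subtype.ext e)) y hy hc) hd x)
  have hnP : ∀ β : P →* ℂˣ, β ≠ 1 → sp.NontrivP (β.comp sp.fst) := fun β hβ e => hβ
    (MonoidHom.ext fun x => by simpa [sp.fst_inP] using DFunLike.congr_fun e x)
  obtain ⟨β, hβ⟩ : ∃ β : P →* ℂˣ, β ≠ 1 := by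
    have : 1 < E := by
      have := Nat.card_pos (α := twoStab a t)
      omega
    rw [hE, Finite.one_lt_card_iff_nontrivial] at this
    exact exists_ne 1
  obtain ⟨ι, _, ⟨ow⟩⟩ := exists_owners hS sp ⟨β.comp sp.fst, (hregP _).2 (hnP β hβ)⟩
  have hcard : Nat.card ι * Nat.card (twoStab a t) = (E - 1) * Tab := by
    rw [ow.card_eq, hTab]
    haveI : Fintype (P →* ℂˣ) := Fintype.ofFinite _
    have : E - 1 = Nat.card {β : P →* ℂˣ // β ≠ 1} := by
      rw [hE, Nat.card_eq_fintype_card (α := {β : P →* ℂˣ // β ≠ 1}), Fintype.card_subtype_compl,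
        Fintype.card_subtype_eq, Nat.card_eq_fintype_card]
    rw [this, ← Nat.card_prod]
    refine Nat.card_congr ((Equiv.subtypeEquiv (q := fun p => p.1 ≠ 1) sp.homEquiv fun θ => hregP θ).trans
      { toFun := fun x => (⟨x.1.1, x.2⟩, x.1.2)
        invFun := fun x => ⟨(x.1.1, x.2), x.1.2⟩
        left_inv := fun x => rfl
        right_inv := fun x => rfl })
  have hm : 2 * Tab ≤ Nat.card ι := by
    refine Nat.le_of_mul_le_mul_right (c := Nat.card (twoStab a t)) ?_ Nat.card_pos
    rw [hcard]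
    calc 2 * Tab * Nat.card (twoStab a t) = (2 * Nat.card (twoStab a t)) * Tab := by ring
      _ ≤ (E - 1) * Tab := Nat.mul_le_mul_right _ (by omega)
  haveI : Nontrivial ι := Finite.one_lt_card_iff_nontrivial.1 (by omega)
  have hc := ow.sum_Q_eq_zero (show 3 ≤ Nat.card ι by omega)
  -- linear characters of `T`
  have hlin : ∀ i, ∀ τ : T →* ℂˣ, τ ≠ 1 →
      ∑ q : Q, (ow.X i : G → ℂ) q * conj (τ (sp.snd q) : ℂ) = 0 := by
    intro i τ hτ
    set θ : Q →* ℂˣ := τ.comp sp.snd with hθ
    have hθ1 : θ ≠ 1 := fun e => hτ (MonoidHom.ext fun y => by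
      simpa [hθ, sp.snd_inT] using DFunLike.congr_fun e (sp.inT y))
    letI := linAction hS
    set St : Subgroup (twoStab a t) := stabilizer (twoStab a t) θ with hSt
    have hfix : ∀ d ∈ St, Fixes hS d θ := fun d hd => hd
    have horb : Nat.card (twoStab a t) ≤ (Tab - 1) * Nat.card St := by
      have h1 := Subgroup.index_mul_card St
      rw [← h1]
      refine Nat.mul_le_mul_right _ ?_
      rw [hSt, index_stabilizer]
      have hinj : ∀ d : twoStab a t, (d • θ).comp sp.inP = 1 ∧ (d • θ).comp sp.inT ≠ 1 := by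
        intro d
        have h1 : (d • θ).comp sp.inP = 1 := by
          refine MonoidHom.ext fun x => ?_
          show τ (sp.snd (conjQ hS d (sp.inP x))) = 1
          have hx : (d : G)⁻¹ * (x : G) * d ∈ P := by
            simpa using sp.P_conj _ (inv_mem (Subgroup.mem_inf.1 d.2).1) _ x.2
          rw [show conjQ hS d (sp.inP x) = sp.inP ⟨_, hx⟩ from rfl, sp.snd_inP, map_one]
        refine ⟨h1, fun h2 => hθ1 (smul_left_cancel d ?_)⟩
        have : d • θ = 1 := sp.homEquiv.injective (Prod.ext h1 h2)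
        rw [this]
        exact (MonoidHom.ext fun x => rfl)
      haveI : Fintype (T →* ℂˣ) := Fintype.ofFinite _
      have : Tab - 1 = Nat.card {τ : T →* ℂˣ // τ ≠ 1} := by
        rw [hTab, Nat.card_eq_fintype_card (α := {τ : T →* ℂˣ // τ ≠ 1}), Fintype.card_subtype_compl,
          Fintype.card_subtype_eq, Nat.card_eq_fintype_card]
      rw [this, ← Nat.card_coe_set_eq]
      refine Nat.card_le_card_of_injective (fun o : MulAction.orbit (twoStab a t) θ =>
        (⟨o.1.comp sp.inT, by obtain ⟨d, hd⟩ := o.2; rw [← hd]; exact (hinj d).2⟩ : {τ : T →* ℂˣ // τ ≠ 1}))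
        fun o o' h => Subtype.ext (sp.homEquiv.injective (Prod.ext ?_ (congrArg Subtype.val h)))
      obtain ⟨d, hd⟩ := o.2
      obtain ⟨d', hd'⟩ := o'.2
      show o.1.comp sp.inP = o'.1.comp sp.inP
      rw [← hd, ← hd']
      exact (hinj d).1.trans (hinj d').1.symm
    set Msub := extSub hS St with hMsub
    set χM : extSub hS St → ℂ := fun m => (extHom hS St θ hfix m : ℂ) with hχM
    have key : ∀ φ : IrrCharacter St, ∑ q : Q, ∑ d : St,
        (ow.X i : G → ℂ) ((q : G) * ((d : twoStab a t) : G)) * (conj ((φ : St → ℂ) d) * conj (θ q : ℂ)) = 0 := by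
      intro φ
      set φb : extSub hS St → ℂ := fun m => (φ : St → ℂ) (extD hS St m) with hφb
      have hφbc : IsCharacter (extSub hS St) φb :=
        IsCharacter.comp (IsIrrCharacter.isCharacter φ.2) (extD hS St)
      set f : extSub hS St → ℂ := φb - φb * χM with hf
      have hfg : IsGeneralizedCharacter (extSub hS St) f :=
        IsGeneralizedCharacter.sub (IsGeneralizedCharacter.of_isCharacter hφbc)
          (IsGeneralizedCharacter.of_isCharacter (IsCharacter.mul hφbc
            (IsIrrCharacter.isCharacter (isIrrCharacter_linear (extHom hS St θ hfix)))))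
      have hfval : ∀ m, f m = (φ : St → ℂ) (extD hS St m) * (1 - (θ (extQ hS St m) : ℂ)) := fun m => by
        simp only [hf, hφb, hχM, Pi.sub_apply, Pi.mul_apply]
        rw [mul_sub, mul_one]; rfl
      have hsupp : Supp a (extSub hS St) f := fun m hm => by
        by_contra hl
        refine hm ?_
        have h1 := extHom_eq_one hS St θ hfix m hl
        rw [hfval, show θ (extQ hS St m) = 1 from h1, Units.val_one, sub_self, mul_zero]
      have hnormf : (classInner f f).re = 2 := by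
        rw [classInner_self_normSq]
        simp only [hfval, Complex.normSq_mul]
        rw [sum_ext hS St (fun q d => Complex.normSq ((φ : St → ℂ) d) * Complex.normSq (1 - (θ q : ℂ))),
          Finset.sum_comm]
        simp only [← Finset.mul_sum, ← Finset.sum_mul]
        have hq : ∑ q : Q, Complex.normSq (1 - (θ q : ℂ)) = 2 * Nat.card Q := by
          have h1 : ∀ q : Q, (Complex.normSq (1 - (θ q : ℂ)) : ℂ) = 2 - ((θ q : ℂ) + conj (θ q : ℂ)) := by
            intro q
            have hroot : conj (θ q : ℂ) * (θ q : ℂ) = 1 := by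
              have hpow : (θ q : ℂ) ^ Nat.card Q = 1 := by
                rw [← Units.val_pow_eq_pow_val, ← map_pow, pow_card_eq_one', map_one, Units.val_one]
              rw [Complex.conj_mul', norm_eq_one_of_pow Nat.card_pos.ne' hpow]; norm_num
            rw [← Complex.mul_conj, map_sub, map_one]
            linear_combination hroot
          have h2 : (((∑ q : Q, Complex.normSq (1 - (θ q : ℂ))) : ℝ) : ℂ) = ((2 * Nat.card Q : ℝ) : ℂ) := by
            push_cast
            rw [Finset.sum_congr rfl fun q _ => h1 q, Finset.sum_sub_distrib, Finset.sum_add_distrib,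
              sum_hom, if_neg hθ1, sum_hom_conj, if_neg hθ1, Finset.sum_const, Finset.card_univ,
              nsmul_eq_mul, ← Nat.card_eq_fintype_card]
            ring
          exact_mod_cast h2
        have hd : ∑ d : St, Complex.normSq ((φ : St → ℂ) d) = Nat.card St := by
          have h := classInner_self_normSq (φ : St → ℂ)
          rw [classInner_self_irr φ.2, Complex.one_re] at h
          field_simp at h
          linarith
        rw [hd, hq, card_ext]
        push_cast
        field_simp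
      let w : G → ℂ := fun g => if hg : g ∈ extSub hS St then conj (f ⟨g, hg⟩) else 0
      have hw : ∀ x ∈ P, ∀ s ∈ T, w (x * s) = w s := fun x hx s hs => by
        have h1 : x * s ∈ Q := mul_mem (sp.P_le hx) (sp.T_le hs)
        have hD1 : ∀ (y : G) (hy : y ∈ Q), extD hS St ⟨y, le_extSub hy⟩ = 1 ∧
            extQ hS St ⟨y, le_extSub hy⟩ = ⟨y, hy⟩ := fun y hy => by
          have h := dPart_of_mem_Q hS ⟨y, hS.le hy⟩ hy
          refine ⟨Subtype.ext h, Subtype.ext ?_⟩
          simp [extQ, extD, h]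
        simp only [w, dif_pos (le_extSub (hS := hS) (St := St) h1),
          dif_pos (le_extSub (hS := hS) (St := St) (sp.T_le hs)), hfval, (hD1 _ h1).1, (hD1 _ h1).2,
          (hD1 _ (sp.T_le hs)).1, (hD1 _ (sp.T_le hs)).2]
        have e1 : θ ⟨x * s, h1⟩ = θ ⟨s, sp.T_le hs⟩ := by
          simp only [hθ, MonoidHom.comp_apply]
          rw [sp.snd_mul ⟨x, hx⟩ ⟨s, hs⟩ h1, show (⟨s, sp.T_le hs⟩ : Q) = sp.inT ⟨s, hs⟩ from rfl,
            sp.snd_inT]
        rw [e1]
      have hinner : ∀ j, classInner (indFun (extSub hS St) f) (ow.X j : G → ℂ) =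
          (Nat.card (extSub hS St) : ℂ)⁻¹ * conj (∑ m : extSub hS St, (ow.X j : G → ℂ) m * w m) := by
        intro j
        rw [classInner_indFun_left _ _ (IsCharacter.isClassFunction (IsIrrCharacter.isCharacter (ow.X j).2)),
          classInner, map_sum]
        congr 1
        refine Finset.sum_congr rfl fun m _ => ?_
        simp only [w, dif_pos m.2, map_mul, Complex.conj_conj]
        ring
      have hconst : ∀ j, classInner (indFun (extSub hS St) f) (ow.X j : G → ℂ) =
          classInner (indFun (extSub hS St) f) (ow.X i : G → ℂ) := fun j => by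
        rw [hinner, hinner, ow.sum_eq le_extSub extSub_le w hw j i]
      have hle := ow.card_mul_normSq_le (isClassFunction_indFun _ _) hconst
      have hB := norm_indFun_le extSub_le hsupp
      rw [hnormf, card_ext, card_stabilizer hS] at hB
      obtain ⟨n, hn⟩ := IsGeneralizedCharacter.exists_classInner_int hfg
        (IsGeneralizedCharacter.of_isCharacter (IsCharacter.restrict (IsIrrCharacter.isCharacter (ow.X i).2) (extSub hS St)))
      have hn' : classInner (indFun (extSub hS St) f) (ow.X i : G → ℂ) = (n : ℂ) := by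
        rw [classInner_indFun_left _ _ (IsCharacter.isClassFunction (IsIrrCharacter.isCharacter (ow.X i).2))]
        exact hn
      have h0 := eq_zero_of_mul_normSq_le hn' (hle.trans hB) (by
        have hN : (0 : ℝ) < Nat.card Q := by exact_mod_cast Nat.card_pos
        have hS0 : (0 : ℝ) < Nat.card St := by exact_mod_cast Nat.card_pos
        have h1 : ((Nat.card (twoStab a t) : ℕ) : ℝ) ≤ (((Tab - 1) * Nat.card St : ℕ) : ℝ) := by
          exact_mod_cast horb
        have h2 : ((2 * Tab : ℕ) : ℝ) ≤ (Nat.card ι : ℝ) := by exact_mod_cast hm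
        rw [Nat.cast_mul, Nat.cast_sub (by omega : 1 ≤ Tab), Nat.cast_one] at h1
        push_cast at h2 ⊢
        rw [mul_div_mul_left _ _ hN.ne', div_mul_eq_mul_div, div_lt_iff₀ hS0]
        nlinarith)
      rw [hinner, mul_eq_zero] at h0
      have h2 := h0.resolve_left (inv_ne_zero (Nat.cast_ne_zero.2 Nat.card_pos.ne'))
      rw [map_eq_zero] at h2
      have hwm : ∀ m : extSub hS St, (ow.X i : G → ℂ) m * w m =
          (ow.X i : G → ℂ) ((extQ hS St m : G) * (((extD hS St m : St) : twoStab a t) : G)) *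
            (conj ((φ : St → ℂ) (extD hS St m)) * (1 - conj (θ (extQ hS St m) : ℂ))) := fun m => by
        simp only [w, dif_pos m.2, hfval, map_mul, map_sub, map_one]
        congr 2
        simp [extQ]
      rw [Finset.sum_congr rfl fun m _ => hwm m, sum_ext hS St (fun q d => (ow.X i : G → ℂ)
        ((q : G) * ((d : twoStab a t) : G)) * (conj ((φ : St → ℂ) d) * (1 - conj (θ q : ℂ))))] at h2
      simp only [mul_sub, mul_one, Finset.sum_sub_distrib] at h2
      rw [sub_eq_zero] at h2
      rw [← h2, Finset.sum_comm]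
      refine Finset.sum_eq_zero fun d _ => ?_
      rw [← Finset.sum_mul, hc i, zero_mul]
    -- column orthogonality
    have hsum : ∑ φ : IrrCharacter St, (φ : St → ℂ) 1 * ∑ q : Q, ∑ d : St,
        (ow.X i : G → ℂ) ((q : G) * ((d : twoStab a t) : G)) * (conj ((φ : St → ℂ) d) * conj (θ q : ℂ)) = 0 :=
      Finset.sum_eq_zero fun φ _ => by rw [key, mul_zero]
    simp only [Finset.mul_sum] at hsum
    rw [Finset.sum_comm] at hsum
    rw [← mul_left_cancel₀ (Nat.cast_ne_zero.2 (Nat.card_pos (α := St)).ne' : (Nat.card St : ℂ) ≠ 0)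
      (show (Nat.card St : ℂ) * ∑ q : Q, (ow.X i : G → ℂ) q * conj (τ (sp.snd q) : ℂ) = (Nat.card St : ℂ) * 0 from ?_)]
    rw [mul_zero, ← hsum, Finset.mul_sum]
    refine Finset.sum_congr rfl fun q _ => ?_
    rw [Finset.sum_comm, Finset.sum_eq_single (1 : St)]
    · have hcent : Subgroup.centralizer ({(1 : St)} : Set St) = ⊤ := by
        ext z; simp [Subgroup.mem_centralizer_singleton_iff]
      have hcol := column_orth_of_isConj (IsConj.refl (1 : St))
      rw [hcent, Subgroup.card_top] at hcol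
      rw [← hcol, Finset.sum_mul]
      refine Finset.sum_congr rfl fun φ _ => ?_
      simp only [OneMemClass.coe_one, mul_one, hθ, MonoidHom.comp_apply]
      ring
    · intro d _ hd
      have hcol := column_orth_of_not_isConj (fun h => hd (isConj_one_right.1 h) : ¬ IsConj (1 : St) d)
      calc _ = (ow.X i : G → ℂ) ((q : G) * ((d : twoStab a t) : G)) * conj (θ q : ℂ) *
            ∑ φ : IrrCharacter St, (φ : St → ℂ) 1 * conj ((φ : St → ℂ) d) := by
              rw [Finset.mul_sum]; exact Finset.sum_congr rfl fun φ _ => by ring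
        _ = 0 := by rw [hcol, mul_zero]
    · exact fun h => absurd (Finset.mem_univ _) h
  -- two pure orbits
  obtain ⟨i, d₀, hi⟩ := ow.exists_rep ((hregP _).2 (hnP β hβ))
  have hpure : ∀ {γ : P →* ℂˣ} {k : ι} {d : twoStab a t}, γ.comp sp.fst = (ow.θ k).comp (conjQ hS d) →
      (ow.θ k).comp sp.inT = 1 := by
    intro γ k d h
    refine MonoidHom.ext fun y => ?_
    have hy : (d : G) * (y : G) * (d : G)⁻¹ ∈ T := sp.T_conj _ (Subgroup.mem_inf.1 d.2).1 _ y.2
    have h1 := DFunLike.congr_fun h (sp.inT ⟨_, hy⟩)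
    rw [MonoidHom.comp_apply, sp.fst_inT, map_one, MonoidHom.comp_apply] at h1
    rw [MonoidHom.one_apply, MonoidHom.comp_apply, h1]
    congr 1
    refine Subtype.ext ?_
    show (y : G) = (d : G)⁻¹ * ((d : G) * (y : G) * (d : G)⁻¹) * d
    group
  have hXi : (ow.θ i).comp sp.inT = 1 := hpure hi
  obtain ⟨γ, hγ1, hγ⟩ : ∃ γ : P →* ℂˣ, γ ≠ 1 ∧
      ∀ d : twoStab a t, γ.comp sp.fst ≠ (ow.θ i).comp (conjQ hS d) := by
    by_contra hall
    push Not at hall
    choose dd hdd using fun γ : {γ : P →* ℂˣ // γ ≠ 1} => hall γ.1 γ.2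
    have hinj : Function.Injective dd := fun γ γ' h => Subtype.ext (MonoidHom.ext fun x => by
      have h1 := DFunLike.congr_fun ((hdd γ).trans ((h ▸ hdd γ').symm)) (sp.inP x)
      simpa [sp.fst_inP] using h1)
    haveI : Fintype (P →* ℂˣ) := Fintype.ofFinite _
    have := Nat.card_le_card_of_injective dd hinj
    rw [Nat.card_eq_fintype_card (α := {γ : P →* ℂˣ // γ ≠ 1}), Fintype.card_subtype_compl,
      Fintype.card_subtype_eq, ← Nat.card_eq_fintype_card (α := P →* ℂˣ), ← hE] at this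
    have := Nat.card_pos (α := twoStab a t)
    omega
  obtain ⟨j, d₁, hj⟩ := ow.exists_rep ((hregP _).2 (hnP γ hγ1))
  have hij : i ≠ j := fun e => hγ d₁ (e.symm ▸ hj)
  have hXj : (ow.θ j).comp sp.inT = 1 := hpure hj
  set χ := ow.X i with hχdef
  -- the principal block
  have hB0 : χ ∈ principalBlock M G := by
    by_contra hnot
    have h0 : ∀ x ∈ P, x ≠ 1 → ∑ s : T, (χ : G → ℂ) (x * s) = 0 := fun x hx hx1 =>
      sum_eq_zero_of_not_principal hS sp hM hP hT hnot hx hx1
        fun g hg _ => centralizer_le_Q hS sp hP hfpf hx hx1 hg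
    have h1 := classInner_indFun_left Q (lv (ow.θ i) - lv (ow.θ j))
      (IsCharacter.isClassFunction (IsIrrCharacter.isCharacter χ.2))
    rw [ow.ind, classInner_smul_left, classInner_sub_left, hχdef, classInner_self_irr (ow.X i).2,
      classInner_irr_of_ne (ow.X j).2 (ow.X i).2 (fun e => hij (ow.inj (Subtype.ext e)).symm),
      sub_zero, mul_one] at h1
    refine ow.eps_ne_zero (h1.trans ?_)
    rw [classInner, mul_eq_zero]
    right
    let F : G → ℂ := fun g => if hg : g ∈ Q then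
      (lv (ow.θ i) - lv (ow.θ j)) ⟨g, hg⟩ * conj ((ow.X i : G → ℂ) g) else 0
    have hF : ∀ q : Q, (lv (ow.θ i) - lv (ow.θ j)) q * conj ((ow.X i : G → ℂ) q) = F q := fun q => by
      simp [F, q.2]
    rw [Finset.sum_congr rfl fun q _ => hF q, sp.sum_Q F]
    refine Finset.sum_eq_zero fun x _ => ?_
    have hF2 : ∀ y : T, F (x * y) = (lv (ow.θ i) - lv (ow.θ j)) (sp.inP x) * conj ((ow.X i : G → ℂ) (x * y)) := by
      intro y
      have hm' : (x : G) * y ∈ Q := mul_mem (sp.P_le x.2) (sp.T_le y.2)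
      simp only [F, dif_pos hm', lv, Pi.sub_apply]
      rw [show (⟨(x : G) * y, hm'⟩ : Q) = sp.inP x * sp.inT y from rfl, map_mul, map_mul,
        show ow.θ i (sp.inT y) = 1 from DFunLike.congr_fun hXi y,
        show ow.θ j (sp.inT y) = 1 from DFunLike.congr_fun hXj y, mul_one, mul_one]
    rw [Finset.sum_congr rfl fun y _ => hF2 y, ← Finset.mul_sum, ← map_sum]
    by_cases hx1 : x = 1
    · subst hx1; rw [map_one, lv_sub_one, zero_mul]
    · rw [h0 _ x.2 fun e => hx1 (Subtype.ext e), map_zero, mul_zero]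
  have hconstX : ∀ x ∈ P, x ≠ 1 → ∀ s ∈ T, (χ : G → ℂ) (x * s) = (χ : G → ℂ) x := fun x hx hx1 s hs =>
    apply_eq_of_principal hS sp hM hP hT hB0 hx hx1 hs
  have hlinT : ∀ τ : T →* ℂˣ, τ ≠ 1 → ∑ s : T, (χ : G → ℂ) s * conj (τ s : ℂ) = 0 := by
    intro τ hτ
    have h := hlin i τ hτ
    let F : G → ℂ := fun g => if hg : g ∈ Q then (χ : G → ℂ) g * conj (τ (sp.snd ⟨g, hg⟩) : ℂ) else 0
    have hF : ∀ q : Q, (ow.X i : G → ℂ) q * conj (τ (sp.snd q) : ℂ) = F q := fun q => by
      simp [F, hχdef, q.2]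
    rw [Finset.sum_congr rfl fun q _ => hF q, sp.sum_Q F,
      Finset.sum_eq_single (1 : P) (fun x _ hx1 => ?_) (fun h => absurd (Finset.mem_univ _) h)] at h
    · rw [← h]
      refine Finset.sum_congr rfl fun s _ => ?_
      have hm' : ((1 : P) : G) * s ∈ Q := mul_mem (sp.P_le (1 : P).2) (sp.T_le s.2)
      simp only [F, dif_pos hm', sp.snd_mul]
      simp
    · have hF2 : ∀ s : T, F (x * s) = (χ : G → ℂ) x * conj (τ s : ℂ) := fun s => by
        have hm' : (x : G) * s ∈ Q := mul_mem (sp.P_le x.2) (sp.T_le s.2)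
        simp only [F, dif_pos hm', sp.snd_mul, hconstX _ x.2 (fun e => hx1 (Subtype.ext e)) _ s.2]
      rw [Finset.sum_congr rfl fun s _ => hF2 s, ← Finset.mul_sum, sum_hom_conj, if_neg hτ, mul_zero]
  have hTconst := const_on_T hS h2 sp χ hconstX hlinT (by
    have : E ≤ Nat.card P := by rw [hE, card_hom]; exact Nat.le_of_dvd Nat.card_pos (Subgroup.index_dvd_card _)
    omega)
  exact ow.not_const i (const_Q_of_const_T hS h2 sp χ hTconst)

end Cfsg.Agent.RankOneChar
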