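import Cfsg.Agent.Lib.RankOneChar.ResidualChar
import Cfsg.Agent.Lib.RankOneChar.Section
import Cfsg.Agent.Lib.RankOneChar.Hall

/-!
# The good constituent lies in the principal blocks
-/

set_option autoImplicit false
set_option linter.unusedSectionVars false
set_option linter.style.haveILetI false

namespace Cfsg.Agent.RankOneChar

open Cfsg Cfsg.Agent.Char Cfsg.Agent.CharX Cfsg.Agent.RankOne MulAction
open scoped ComplexConjugate

universe u v

variable {G : Type u} {Ω : Type v} [Group G] [Fintype G] [MulAction G Ω] {a : Ω} {t : G}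
  {Q P T P' T' : Subgroup G} {hS : IsRankOneSetup G Ω a t Q}

/-- The sum of a good constituent over the second factor of a splitting inside the odd part. -/
theorem Good.sum_part {sp : Split a Q P T} {A : IrrCharacter G} (hA : Good hS sp A)
    (sp' : Split a Q P' T') (hle : P' ≤ P) :
    ∃ n : ℕ, ∑ s : T', (A : G → ℂ) s = ((Nat.card T' * n : ℕ) : ℂ) ∧
      ∀ p : ℕ, (∀ γ : IrrCharacter P', charDegree (γ : P' → ℂ) ≠ 1 → p ∣ charDegree (γ : P' → ℂ)) →
        n ≡ 1 [MOD p] := by
  classical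
  have hAc := IsCharacter.isClassFunction (IsIrrCharacter.isCharacter A.2)
  set h : P' → ℂ := fun u => (Nat.card T' : ℂ)⁻¹ * ∑ s : T', (A : G → ℂ) ((u : G) * s) with hh
  have hclass : IsClassFunction P' h := by
    intro u w
    simp only [hh]
    congr 1
    refine Finset.sum_congr rfl fun s _ => ?_
    rw [← hAc ((u : G) * s) (w : G)]
    congr 1
    simp only [Subgroup.coe_mul, Subgroup.coe_inv]
    have hc : ((w : G)⁻¹) * s = s * (w : G)⁻¹ := sp'.comm _ (inv_mem w.2) _ s.2
    rw [mul_assoc _ ((w : G)⁻¹) (s : G), hc]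
    group
  have hmult : ∀ γ : IrrCharacter P', classInner h (γ : P' → ℂ) =
      classInner (fun q : Q => (A : G → ℂ) q) (fun q : Q => (γ : P' → ℂ) (sp'.fst q)) := by
    intro γ
    let F : G → ℂ := fun g => if hg : g ∈ Q then
      (A : G → ℂ) g * conj ((γ : P' → ℂ) (sp'.fst ⟨g, hg⟩)) else 0
    have hF : ∀ q : Q, (A : G → ℂ) q * conj ((γ : P' → ℂ) (sp'.fst q)) = F q := fun q => by
      simp [F, q.2]
    have hF2 : ∀ (x : P') (s : T'), F (x * s) = (A : G → ℂ) (x * s) * conj ((γ : P' → ℂ) x) := fun x s => by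
      have hm : (x : G) * s ∈ Q := mul_mem (sp'.P_le x.2) (sp'.T_le s.2)
      simp only [F, dif_pos hm, sp'.fst_mul]
    rw [classInner, classInner, Finset.sum_congr rfl fun q _ => hF q, sp'.sum_Q F, sp'.card_eq,
      Nat.cast_mul, mul_inv, mul_assoc]
    congr 1
    rw [Finset.mul_sum]
    refine Finset.sum_congr rfl fun x _ => ?_
    rw [Finset.sum_congr rfl fun s _ => hF2 x s, ← Finset.sum_mul, hh, mul_assoc]
  have hnat : ∀ γ : IrrCharacter P', ∃ m : ℕ, classInner h (γ : P' → ℂ) = (m : ℂ) := fun γ => by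
    rw [hmult]
    exact IsCharacter.exists_classInner_nat (IsCharacter.restrict (IsIrrCharacter.isCharacter A.2) Q)
      (IsCharacter.comp (IsIrrCharacter.isCharacter γ.2) sp'.fst)
  choose m hm using hnat
  refine ⟨∑ γ, m γ * charDegree (γ : P' → ℂ), ?_, ?_⟩
  · have h1 := congrFun (classFunction_eq_sum hclass) 1
    simp only [Finset.sum_apply, Pi.smul_apply, smul_eq_mul, hm, irr_deg] at h1
    conv_lhs at h1 => simp only [hh, OneMemClass.coe_one, one_mul]
    rw [inv_mul_eq_iff_eq_mul₀ (Nat.cast_ne_zero.2 Nat.card_pos.ne')] at h1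
    rw [h1]
    push_cast
    rfl
  · intro p hp
    have hm1 : m (principal P') = 1 := by
      have h1 := (hm (principal P')).symm.trans (hmult (principal P'))
      rw [show (fun q : Q => (principal P' : P' → ℂ) (sp'.fst q)) = lv (1 : Q →* ℂˣ) from rfl, hA.one] at h1
      exact_mod_cast h1
    have hdeg1 : charDegree (principal P' : P' → ℂ) = 1 := charDegree_one
    have hrest : ∀ γ : IrrCharacter P', γ ≠ principal P' → p ∣ m γ * charDegree (γ : P' → ℂ) := by
      intro γ hγ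
      by_cases hd : charDegree (γ : P' → ℂ) = 1
      · obtain ⟨f, hf⟩ := exists_hom_of_degree_one (IsIrrCharacter.isCharacter γ.2)
          (by rw [irr_deg, hd, Nat.cast_one])
        have hf1 : f ≠ 1 := fun e => hγ (Subtype.ext (by rw [hf, e]; rfl))
        have hN : sp.NontrivP (f.comp sp'.fst) := fun e => hf1 (MonoidHom.ext fun x => by
          have h2 := DFunLike.congr_fun e (⟨x, hle x.2⟩ : P)
          simp only [MonoidHom.comp_apply] at h2
          rwa [show sp.inP (⟨x, hle x.2⟩ : P) = sp'.inP x from rfl, sp'.fst_inP] at h2)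
        have h1 := (hm γ).symm.trans (hmult γ)
        rw [hf, show (fun q : Q => (f (sp'.fst q) : ℂ)) = lv (f.comp sp'.fst) from rfl, hA.mult _ hN] at h1
        rw [show m γ = 0 by exact_mod_cast h1, zero_mul]
        exact dvd_zero p
      · exact Dvd.dvd.mul_left (hp γ hd) _
    rw [← Finset.add_sum_erase _ _ (Finset.mem_univ (principal P')), hm1, hdeg1, one_mul]
    have hdvd : p ∣ ∑ γ ∈ Finset.univ.erase (principal P'), m γ * charDegree (γ : P' → ℂ) :=
      Finset.dvd_sum fun γ hγ => hrest γ (Finset.mem_erase.1 hγ).1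
    exact ((Nat.modEq_iff_dvd' (Nat.le_add_right 1 _)).2 (by simpa using hdvd)).symm

variable {l : ℕ} (tw : Twist hS l)
include tw

/-- A good constituent is constant on the cosets of `T'`. -/
theorem Twist.good_const (h2 : ∃ x y : G, x ≠ 1 ∧ y ≠ 1 ∧ x ≠ y ∧ x * x = 1 ∧ y * y = 1 ∧ x * y = y * x)
    {sp : Split a Q P T} {A : IrrCharacter G} (hA : Good hS sp A)
    (sp' : Split a Q P' T') (hle : P' ≤ P) {p : ℕ} [Fact p.Prime] (hP' : IsPGroup p P')
    (hT' : ¬ p ∣ Nat.card T') {x : G} (hx : x ∈ P') (hx1 : x ≠ 1) {s : G} (hs : s ∈ T') :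
    (A : G → ℂ) (x * s) = (A : G → ℂ) x := by
  classical
  have hp : p.Prime := Fact.out
  obtain ⟨M, hM⟩ := Cfsg.Agent.Blocks.exists_isPModular_witness p
  haveI := hM.2.1.isPrime
  refine apply_eq_of_principal hS sp' hM hP' hT' ?_ hx hx1 hs
  by_contra hnot
  -- a central element
  haveI : Nontrivial P' := P'.nontrivial_iff_ne_bot.2 sp'.P_ne
  haveI := hP'.center_nontrivial
  obtain ⟨z, hz⟩ := exists_ne (1 : Subgroup.center P')
  set z₀ : G := ((z : P') : G) with hz₀
  have hz1 : z₀ ≠ 1 := fun e => hz (Subtype.ext (Subtype.ext e))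
  have hzP : z₀ ∈ P' := (z : P').2
  have hzc : ∀ u ∈ P', u * z₀ = z₀ * u := fun u hu =>
    congrArg Subtype.val (Subgroup.mem_center_iff.1 z.2 ⟨u, hu⟩)
  have hgood : ∀ g : G, g * z₀ = z₀ * g → (∀ u ∈ P', u * z₀ = z₀ * u → g * u = u * g) → g ∈ Q := by
    intro g hg hcent
    have hgP : ∀ u ∈ P', g * u = u * g := fun u hu => hcent u hu (hzc u hu)
    have hgH : g ∈ stabilizer G a := by
      refine mem_stabilizer_of_conj' (lonely_of_mem_Q hS (sp'.P_le hzP) hz1) ?_
      rw [mul_assoc, ← hg, inv_mul_cancel_left]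
      exact hS.le (sp'.P_le hzP)
    obtain ⟨q, hq, d, hd, rfl⟩ := exists_qd hS hgH
    obtain ⟨u, hu, s', hs', rfl⟩ := sp'.cover q hq
    set d' : twoStab a t := ⟨d, hd⟩
    have hdH := (Subgroup.mem_inf.1 hd).1
    -- `d` fixes all linear characters of `P'`
    have hfixed : ∀ γ : P' →* ℂˣ, Fixes hS d' (γ.comp sp'.fst) := by
      intro γ
      refine MonoidHom.ext fun y => ?_
      set v : P' := sp'.fst y
      have hv' : d⁻¹ * (v : G) * d ∈ P' := by
        simpa using sp'.P_conj _ (inv_mem hdH) _ v.2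
      set v' : P' := ⟨_, hv'⟩
      have he : sp'.fst (conjQ hS d' y) = v' := by
        refine sp'.fst_eq _ hv' (by simpa using sp'.T_conj _ (inv_mem hdH) _ (sp'.snd y).2 :
          d⁻¹ * ((sp'.snd y : T') : G) * d ∈ T') ?_
        show d⁻¹ * (y : G) * d = _
        rw [sp'.decomp y]; group; rfl
      have hvv : (v : G) = (u : G)⁻¹ * (v' : G) * u := by
        have h1 := hgP _ hv'
        have h3 : s' * (v : G) = (v : G) * s' := (sp'.comm _ v.2 _ hs').symm
        have h4 : u * (v : G) * (s' * d) = d⁻¹ * (v : G) * d * (u * s' * d) := by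
          rw [← h1]
          calc u * (v : G) * (s' * d) = u * ((v : G) * s') * d := by group
            _ = u * s' * d * (d⁻¹ * (v : G) * d) := by rw [← h3]; group
        have h5 : u * (v : G) = d⁻¹ * (v : G) * d * u := by
          refine mul_right_cancel (b := s' * d) ?_
          rw [h4]; group
        show (v : G) = u⁻¹ * (d⁻¹ * (v : G) * d) * u
        rw [mul_assoc, ← h5, inv_mul_cancel_left]
      have e : v = (⟨u, hu⟩ : P')⁻¹ * v' * ⟨u, hu⟩ := Subtype.ext hvv
      show γ (sp'.fst (conjQ hS d' y)) = γ v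
      rw [he, e, map_mul, map_mul, map_inv, mul_comm (γ ⟨u, hu⟩)⁻¹, mul_assoc, inv_mul_cancel, mul_one]
    haveI : Finite (P' →* ℂˣ) := finite_hom
    haveI := sp'.nilpotent_P hS h2
    haveI := Finite.one_lt_card_iff_nontrivial.1 (one_lt_card_hom P')
    obtain ⟨γ₀, hγ₀⟩ := exists_ne (1 : P' →* ℂˣ)
    set θ₀ := γ₀.comp sp'.fst
    have hN : sp.NontrivP θ₀ := fun e => hγ₀ (MonoidHom.ext fun x => by
      have h3 := DFunLike.congr_fun e (⟨x, hle x.2⟩ : P)
      simp only [θ₀, MonoidHom.comp_apply] at h3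
      rwa [show sp.inP (⟨x, hle x.2⟩ : P) = sp'.inP x from rfl, sp'.fst_inP] at h3)
    suffices hd1 : d' = 1 by
      rw [show d = 1 from congrArg Subtype.val hd1, mul_one]
      exact hq
    by_contra hd1
    letI := linAction hS
    have hφd : tw.φ d' ≠ 1 := fun e => hd1 (tw.fixes_eq_one sp hN e (hfixed γ₀))
    obtain ⟨k, hk, hk1⟩ := exists_inverted_ne_one hS h2
    have hkK : k ∈ invK a t := Subgroup.subset_closure hk
    set k' : twoStab a t := ⟨k, invK_le hS hkK⟩
    set e := d'⁻¹ * (k' * d' * k'⁻¹) with he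
    have hkfix : k' * d' * k'⁻¹ ∈ stabilizer (twoStab a t) θ₀ := by
      obtain ⟨γ₁, hγ₁⟩ : ∃ γ₁ : P' →* ℂˣ, k'⁻¹ • θ₀ = γ₁.comp sp'.fst := by
        refine ⟨(k'⁻¹ • θ₀).comp sp'.inP, MonoidHom.ext fun y => ?_⟩
        show θ₀ (conjQ hS k'⁻¹ y) = θ₀ (conjQ hS k'⁻¹ (sp'.inP (sp'.fst y)))
        conv_lhs => rw [← sp'.inP_mul_inT y, map_mul, map_mul]
        obtain ⟨w, hw⟩ : ∃ w : T', conjQ hS k'⁻¹ (sp'.inT (sp'.snd y)) = sp'.inT w :=
          ⟨⟨_, by simpa using sp'.T_conj _ (Subgroup.mem_inf.1 k'.2).1 _ (sp'.snd y).2⟩,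
            Subtype.ext (by simp)⟩
        rw [hw, show θ₀ (sp'.inT w) = 1 by simp [θ₀, sp'.fst_inT], mul_one]
      rw [mem_stabilizer_iff, mul_smul, mul_smul, hγ₁, show d' • γ₁.comp sp'.fst = γ₁.comp sp'.fst from
        hfixed γ₁, ← hγ₁, smul_inv_smul]
    have heK : (e : G) ∈ invK a t := by
      have h1 := conj_mem_invK hS h2 (inv_mem hd) hkK
      have h3 : (e : G) = d⁻¹ * k * d⁻¹⁻¹ * k⁻¹ := by
        simp only [he, Subgroup.coe_mul, Subgroup.coe_inv]; group; rfl
      rw [h3]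
      exact mul_mem h1 (inv_mem hkK)
    have hee : e = 1 := invK_fixes_eq_one tw h2 (fun e' => hN (by rw [e']; rfl)) heK
      (show e • θ₀ = θ₀ from (mul_smul _ _ _).trans (by
        rw [mem_stabilizer_iff.1 hkfix, inv_smul_eq_iff]; exact (hfixed γ₀).symm))
    have hcomm : (d' : G) * k = k * d' := by
      have h3 : k' * d' = d' * k' := by
        calc k' * d' = d' * (d'⁻¹ * (k' * d' * k'⁻¹)) * k' := by group
          _ = d' * k' := by rw [← he, hee, mul_one]
      exact (congrArg Subtype.val h3).symm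
    exact hk1 (tw.kfree d' hφd k hkK hcomm)
  have h0 := sum_eq_zero_of_not_principal hS sp' hM hP' hT' hnot hzP hz1 hgood
  obtain ⟨n, hn, hmod⟩ := hA.sum_part sp' hle
  have hn1 : n ≡ 1 [MOD p] := hmod p fun γ hγ => by
    obtain ⟨k, hk⟩ := IsPGroup.iff_card.1 hP'
    obtain ⟨i, -, hi⟩ := (Nat.dvd_prime_pow hp).1 (hk ▸ irr_deg_dvd_card γ)
    rcases Nat.eq_zero_or_pos i with rfl | hi0
    · exact absurd (by rw [hi, pow_zero]) hγ
    · rw [hi]; exact dvd_pow_self p hi0.ne'
  refine sum_ne_zero hS sp' hM hP' hT' A hn (fun hd => ?_) hzP h0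
  rcases hp.dvd_mul.1 hd with h | h
  · exact hT' h
  · exact hp.one_lt.ne' (Nat.dvd_one.1 ((Nat.ModEq.dvd_iff hn1 dvd_rfl).1 h))

end Cfsg.Agent.RankOneChar
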