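import Cfsg.Agent.Lib.RankOneChar.ResidualCount
import Cfsg.Agent.Lib.RankOneChar.Main
import Cfsg.Agent.Lib.Char.Galois
import Mathlib.Data.Nat.ChineseRemainder

/-!
# The constituent of the induced character of `D`
-/

set_option autoImplicit false
set_option linter.unusedSectionVars false
set_option linter.style.haveILetI false

namespace Cfsg.Agent.RankOneChar

open Cfsg Cfsg.Agent.Char Cfsg.Agent.RankOne MulAction
open scoped ComplexConjugate

universe u v

variable {G : Type u} {Ω : Type v} [Group G] [Fintype G] [MulAction G Ω] {a : Ω} {t : G}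
  {Q P T : Subgroup G} {hS : IsRankOneSetup G Ω a t Q} {l : ℕ} (tw : Twist hS l)

/-- The character of `G` induced from the `i`th power of the linear character. -/
noncomputable def Twist.F (tw : Twist hS l) (i : ℕ) : G → ℂ := inflInd hS (lv (tw.φ ^ i))

include tw

theorem Twist.isCharacter_F (i : ℕ) : IsCharacter G (tw.F i) :=
  isCharacter_indFun _ (IsCharacter.comp (IsIrrCharacter.isCharacter
    (isIrrCharacter_linear (tw.φ ^ i))) (dPart hS))

theorem Twist.pow_eq_iff {i j : ℕ} (hi : i < l) (hj : j < l) : tw.φ ^ i = tw.φ ^ j ↔ i = j := by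
  refine ⟨fun h => ?_, fun h => h ▸ rfl⟩
  have h1 : tw.φ tw.x ^ i = tw.φ tw.x ^ j := by
    simpa using DFunLike.congr_fun h tw.x
  exact pow_injOn_Iio_orderOf (by rwa [tw.orderOf_φx, Set.mem_Iio])
    (by rwa [tw.orderOf_φx, Set.mem_Iio]) h1

theorem Twist.classInner_F {i j : ℕ} (hi : i < l) (hj : j < l) :
    classInner (tw.F i) (tw.F j) = if i = j then 2 else 0 := by
  classical
  have e : (fun d : twoStab a t => lv (tw.φ ^ i) ⟨t * d * t⁻¹, conj_twoStab hS d.2⟩) = lv (tw.φ ^ i) := by
    funext d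
    simp only [lv, MonoidHom.pow_apply, tw.φt]
  rw [Twist.F, Twist.F, classInner_inflInd hS (isClassFunction_lv _) (isClassFunction_lv _), e, classInner_lv]
  simp only [tw.pow_eq_iff hi hj]
  split_ifs <;> norm_num

open scoped Classical in
/-- The values on `Q`. -/
theorem Twist.F_Q (i : ℕ) (q : Q) :
    tw.F i q = if q = 1 then ((Nat.card Q + 1 : ℕ) : ℂ) else 1 := by
  split_ifs with h
  · subst h
    rw [OneMemClass.coe_one, Twist.F, inflInd_one]
    simp [lv]
  · have := inflInd_lonely hS (lv (tw.φ ^ i)) (isClassFunction_lv _) ⟨q, hS.le q.2⟩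
      (lonely_of_mem_Q hS q.2 fun e => h (Subtype.ext e))
    rw [Twist.F, this, dPart_of_mem_Q hS _ q.2]
    simp [lv]

theorem Twist.classInner_F_Q (i : ℕ) (θ : Q →* ℂˣ) [Decidable (θ = 1)] :
    classInner (fun q : Q => tw.F i q) (lv θ) = (if θ = 1 then 1 else 0) + 1 := by
  classical
  have e : ∀ q : Q, tw.F i q * conj (lv θ q) =
      conj (θ q : ℂ) + (if q = 1 then (Nat.card Q : ℂ) else 0) := fun q => by
    rw [tw.F_Q, lv]
    split_ifs with h
    · subst h; simp; ring
    · simp
  rw [classInner, Finset.sum_congr rfl fun q _ => e q, Finset.sum_add_distrib, sum_hom_conj,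
    Finset.sum_ite_eq', if_pos (Finset.mem_univ _)]
  have hQ : (Nat.card Q : ℂ) ≠ 0 := Nat.cast_ne_zero.2 Nat.card_pos.ne'
  split_ifs <;> field_simp <;> ring

/-- The properties of the good constituent. -/
structure Good (hS : IsRankOneSetup G Ω a t Q) (sp : Split a Q P T) (A : IrrCharacter G) : Prop where
  ne_one : A ≠ principal G
  one : classInner (fun q : Q => (A : G → ℂ) q) (lv (1 : Q →* ℂˣ)) = 1
  mult : ∀ θ : Q →* ℂˣ, sp.NontrivP θ → classInner (fun q : Q => (A : G → ℂ) q) (lv θ) = 0
  lt : ∃ d : ℕ, (A : G → ℂ) 1 = d ∧ 0 < d ∧ d < Nat.card Q + 1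

/-- A good constituent exists. -/
theorem Twist.exists_good
    (h2 : ∃ x y : G, x ≠ 1 ∧ y ≠ 1 ∧ x ≠ y ∧ x * x = 1 ∧ y * y = 1 ∧ x * y = y * x)
    (sp : Split a Q P T) (hl : ¬ l ∣ Nat.card Q) :
    ∃ A : IrrCharacter G, Good hS sp A := by
  classical
  obtain ⟨ι, hι, hm, ⟨ow⟩⟩ := tw.exists_owners4 h2 sp
  haveI : Nonempty ι := Finite.card_pos_iff.1 (by omega)
  obtain ⟨i₀, i₁, hi01⟩ : ∃ i j : ι, i ≠ j := by
    haveI : Nontrivial ι := Finite.one_lt_card_iff_nontrivial.1 (by omega)
    exact exists_pair_ne ι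
  have hl2 := tw.prime.two_le
  have hl3 : 3 ≤ l := by obtain ⟨c, hc⟩ := tw.odd; omega
  -- no member of the family is a constituent
  have hXF : ∀ (i : ι) (j : ℕ), j < l → classInner (tw.F j) (ow.X i : G → ℂ) = 0 := by
    intro i j hj
    set φb : G → ℂ := fun g => if hg : g ∈ stabilizer G a then lv (tw.φ ^ j) (dPart hS ⟨g, hg⟩) else 0
    let w : G → ℂ := fun g => conj (φb g)
    have hw : ∀ x ∈ P, ∀ s ∈ T, w (x * s) = w s := fun x hx s hs => by
      have h1 : x * s ∈ Q := mul_mem (sp.P_le hx) (sp.T_le hs)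
      simp only [w, φb, dif_pos (hS.le h1), dif_pos (hS.le (sp.T_le hs)),
        dPart_of_mem_Q hS ⟨_, hS.le h1⟩ h1, dPart_of_mem_Q hS ⟨_, hS.le (sp.T_le hs)⟩ (sp.T_le hs)]
    have hinner : ∀ k, classInner (tw.F j) (ow.X k : G → ℂ) = (Nat.card (stabilizer G a) : ℂ)⁻¹ *
        conj (∑ h : stabilizer G a, (ow.X k : G → ℂ) h * w h) := by
      intro k
      rw [Twist.F, inflInd, classInner_indFun_left _ _
        (IsCharacter.isClassFunction (IsIrrCharacter.isCharacter (ow.X k).2)), classInner, map_sum]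
      congr 1
      refine Finset.sum_congr rfl fun h _ => ?_
      simp only [w, φb, dif_pos h.2, map_mul, Complex.conj_conj]
      ring
    have hconst : ∀ k, classInner (tw.F j) (ow.X k : G → ℂ) = classInner (tw.F j) (ow.X i : G → ℂ) :=
      fun k => by rw [hinner, hinner, ow.sum_eq hS.le le_rfl w hw k i]
    obtain ⟨n, hn⟩ := IsCharacter.exists_classInner_nat (tw.isCharacter_F j) (IsIrrCharacter.isCharacter (ow.X i).2)
    have hle := ow.card_mul_normSq_le (IsCharacter.isClassFunction (tw.isCharacter_F j)) hconst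
    rw [tw.classInner_F hj hj, if_pos rfl] at hle
    exact eq_zero_of_mul_normSq_le (z := (n : ℤ)) (by rw [hn]; simp) hle (by
      have h2' : ((2 : ℂ)).re = 2 := by simp
      rw [h2']
      exact_mod_cast (show 2 < Nat.card ι by omega))
  -- the two constituents of the first character
  obtain ⟨A₀, B₀, hAB, hF⟩ := norm_two (tw.isCharacter_F 1) (by rw [tw.classInner_F (by omega) (by omega), if_pos rfl])
  have hmA : ∀ (C : IrrCharacter G) (θ : Q →* ℂˣ), ∃ n : ℕ,
      classInner (fun q : Q => (C : G → ℂ) q) (lv θ) = (n : ℂ) := fun C θ =>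
    IsCharacter.exists_classInner_nat (IsCharacter.restrict (IsIrrCharacter.isCharacter C.2) Q)
      (IsIrrCharacter.isCharacter (isIrrCharacter_linear θ))
  choose mu hmu using hmA
  have hsum : ∀ θ : Q →* ℂˣ, mu A₀ θ + mu B₀ θ = (if θ = 1 then 1 else 0) + 1 := by
    intro θ
    have h := tw.classInner_F_Q 1 θ
    rw [show (fun q : Q => tw.F 1 q) = (fun q : Q => (A₀ : G → ℂ) q) + (fun q : Q => (B₀ : G → ℂ) q) from
      funext fun q => congrFun hF q, classInner_add_left, hmu, hmu] at h
    have h' : ((mu A₀ θ + mu B₀ θ : ℕ) : ℂ) = (((if θ = 1 then 1 else 0) + 1 : ℕ) : ℂ) := by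
      rw [Nat.cast_add, h]
      split_ifs <;> norm_num
    exact_mod_cast h'
  have hn0 : ∀ i, ow.θ i ≠ 1 := fun i e => (ow.reg i).1 (by rw [e]; rfl)
  obtain ⟨A, B, hne, hFAB, hA0, hsumAB⟩ : ∃ A B : IrrCharacter G, A ≠ B ∧
      tw.F 1 = (A : G → ℂ) + (B : G → ℂ) ∧ mu A (ow.θ i₀) = 0 ∧
      ∀ θ : Q →* ℂˣ, mu A θ + mu B θ = (if θ = 1 then 1 else 0) + 1 := by
    have h := hsum (ow.θ i₀)
    rw [if_neg (hn0 i₀)] at h
    rcases Nat.eq_zero_or_pos (mu A₀ (ow.θ i₀)) with h0 | h0
    · exact ⟨A₀, B₀, hAB, hF, h0, hsum⟩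
    · exact ⟨B₀, A₀, hAB.symm, hF.trans (add_comm _ _), by omega, fun θ => by rw [add_comm]; exact hsum θ⟩
  -- inner products with the induced character
  have hFA : ∀ C : IrrCharacter G, classInner (tw.F 1) (C : G → ℂ) =
      (if A = C then 1 else 0) + (if B = C then 1 else 0) := by
    intro C
    rw [hFAB, classInner_add_left, classInner_irr A.2 C.2, classInner_irr B.2 C.2]
    simp only [Subtype.coe_inj]
  have hnotX : ∀ (i : ι) (C : IrrCharacter G), (C = A ∨ C = B) → ow.X i ≠ C := by
    intro i C hC e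
    have h := hXF i 1 (by omega)
    rw [e, hFA] at h
    rcases hC with rfl | rfl
    · rw [if_pos rfl, if_neg hne.symm] at h; simp at h
    · rw [if_neg hne, if_pos rfl] at h; simp at h
  -- regular multiplicities
  have hconj : ∀ (C : IrrCharacter G) (θ : Q →* ℂˣ) (d : twoStab a t),
      mu C (θ.comp (conjQ hS d)) = mu C θ := by
    intro C θ d
    have : classInner (fun q : Q => (C : G → ℂ) q) (lv (θ.comp (conjQ hS d))) =
        classInner (fun q : Q => (C : G → ℂ) q) (lv θ) := by
      simp only [classInner]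
      congr 1
      refine Fintype.sum_bijective (conjQ hS d) (conjQ_bijective hS d) _ _ fun q => ?_
      simp only [lv, MonoidHom.comp_apply]
      congr 1
      have h := IsCharacter.isClassFunction (IsIrrCharacter.isCharacter C.2) (q : G) (d : G)⁻¹
      rw [inv_inv] at h
      exact h.symm
    rw [hmu, hmu] at this
    exact_mod_cast this
  have hregA : ∀ i, mu A (ow.θ i) = 0 := fun i => by
    have h := ow.inner_eq (χ := A) (fun k => hnotX k A (Or.inl rfl)) i i₀
    rw [hmu, hmu, hA0] at h
    exact_mod_cast h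
  have hregB : ∀ i, mu B (ow.θ i) = 1 := fun i => by
    have h := hsumAB (ow.θ i)
    rw [if_neg (hn0 i), hregA i] at h
    omega
  -- conjugates under field automorphisms
  have hgal : ∀ j : Fin (l - 1), ∃ σ : ℂ ≃+* ℂ,
      (∀ z : ℂ, z ^ Nat.card Q = 1 → σ z = z) ∧ ∀ z : ℂ, z ^ l = 1 → σ z = z ^ (j.1 + 1) := by
    intro j
    have hco : (Nat.card Q).Coprime l := ((tw.prime.coprime_iff_not_dvd).2 hl).symm
    obtain ⟨k, hk1, hk2⟩ := Nat.chineseRemainder hco 1 (j.1 + 1)
    have hkQ : k.Coprime (Nat.card Q) := by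
      rw [Nat.Coprime, Nat.ModEq.gcd_eq hk1, Nat.gcd_one_left]
    have hkl : k.Coprime l := by
      rw [Nat.Coprime, Nat.ModEq.gcd_eq hk2]
      exact (tw.prime.coprime_iff_not_dvd.2 (Nat.not_dvd_of_pos_of_lt (by omega) (by have := j.2; omega))).symm
    obtain ⟨σ, hσ⟩ := CharGalois.exists_galoisAut (n := Nat.card Q * l) (k := k)
      (Nat.mul_ne_zero Nat.card_pos.ne' (by omega)) (Nat.Coprime.mul_right hkQ hkl)
    refine ⟨σ, fun z hz => ?_, fun z hz => ?_⟩
    · rw [hσ z (by rw [pow_mul, hz, one_pow]), pow_eq_pow_mod k hz, hk1, ← pow_eq_pow_mod 1 hz, pow_one]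
    · rw [hσ z (by rw [mul_comm, pow_mul, hz, one_pow]), pow_eq_pow_mod k hz, hk2, ← pow_eq_pow_mod _ hz]
  choose σ hσQ hσl using hgal
  let tws : Fin (l - 1) → IrrCharacter G → IrrCharacter G := fun j C =>
    ⟨fun g => σ j ((C : G → ℂ) g), CharGalois.IsIrrCharacter.twist C.2 (σ j)⟩
  have htQ : ∀ (j : Fin (l - 1)) (C : IrrCharacter G) (θ : Q →* ℂˣ),
      classInner (fun q : Q => (tws j C : G → ℂ) q) (lv θ) = (mu C θ : ℂ) := by
    intro j C θ
    rw [← hmu]
    congr 1
    funext q
    have h := CharGalois.map_char (IsCharacter.restrict (IsIrrCharacter.isCharacter C.2) Q) (σ j).toRingHom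
      (k := 1) (fun z hz => by rw [pow_one]; exact hσQ j z hz) q
    rw [pow_one] at h
    exact h
  have htF : ∀ j : Fin (l - 1), tw.F (j.1 + 1) = (tws j A : G → ℂ) + (tws j B : G → ℂ) := by
    intro j
    funext g
    show tw.F (j.1 + 1) g = σ j ((A : G → ℂ) g) + σ j ((B : G → ℂ) g)
    rw [← map_add, show (A : G → ℂ) g + (B : G → ℂ) g = tw.F 1 g from (congrFun hFAB g).symm]
    simp only [Twist.F, inflInd, indFun_apply, map_mul, map_inv₀, map_natCast, map_sum]
    congr 1
    refine Finset.sum_congr rfl fun x _ => ?_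
    by_cases hx : x⁻¹ * g * x ∈ stabilizer G a
    · rw [extendByZero_mem _ _ hx, extendByZero_mem _ _ hx]
      simp only [lv, MonoidHom.pow_apply, pow_one, Units.val_pow_eq_pow_val]
      refine (hσl j _ ?_).symm
      rw [← Units.val_pow_eq_pow_val, tw.φl, Units.val_one]
    · rw [extendByZero_not_mem _ _ hx, extendByZero_not_mem _ _ hx, map_zero]
  let Y : Fin (l - 1) × Bool → IrrCharacter G := fun p => tws p.1 (if p.2 then A else B)
  have htinj : ∀ j, Function.Injective (tws j) := fun j C C' h => Subtype.ext (funext fun g =>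
    (σ j).injective (congrFun (congrArg Subtype.val h) g))
  have hFY : ∀ (j : Fin (l - 1)) (C : IrrCharacter G), classInner (tw.F (j.1 + 1)) (C : G → ℂ) =
      (if Y (j, true) = C then 1 else 0) + (if Y (j, false) = C then 1 else 0) := by
    intro j C
    rw [htF, classInner_add_left, classInner_irr (tws j A).2 C.2, classInner_irr (tws j B).2 C.2]
    simp only [Subtype.coe_inj]
    rfl
  have hlt : ∀ j : Fin (l - 1), j.1 + 1 < l := fun j => by have := j.2; omega
  have hYinj : Function.Injective Y := by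
    rintro ⟨j, b⟩ ⟨j', b'⟩ h
    by_cases hjj : j = j'
    · subst hjj
      have := htinj j h
      cases b <;> cases b' <;> simp_all
    · exfalso
      have h0 := tw.classInner_F (hlt j) (hlt j')
      rw [if_neg (fun e => hjj (Fin.ext (by omega))), htF j', classInner_add_right] at h0
      rw [show (tws j' A) = Y (j', true) from rfl, show (tws j' B) = Y (j', false) from rfl, hFY, hFY] at h0
      have hpos : ∀ (p q r s : Prop) [Decidable p] [Decidable q] [Decidable r] [Decidable s],
          ((if p then (1 : ℂ) else 0) + (if q then 1 else 0)) + ((if r then 1 else 0) + (if s then 1 else 0)) = 0 →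
          ¬ p ∧ ¬ q ∧ ¬ r ∧ ¬ s := by
        intro p q r s _ _ _ _ h
        split_ifs at h with h1 h2 h3 h4 <;> first | exact ⟨by assumption, by assumption, by assumption, by assumption⟩ | norm_num at h
      obtain ⟨h1, h2, h3, h4⟩ := hpos _ _ _ _ h0
      cases b <;> cases b'
      · exact h4 h
      · exact h2 h
      · exact h3 h
      · exact h1 h
  have hYX : ∀ (i : ι) (p : Fin (l - 1) × Bool), ow.X i ≠ Y p := by
    rintro i ⟨j, b⟩ e
    have h := hXF i _ (hlt j)
    rw [e, hFY] at h
    cases b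
    · rw [if_neg (fun e => Bool.noConfusion (congrArg Prod.snd (hYinj e))), if_pos rfl] at h; simp at h
    · rw [if_pos rfl, if_neg (fun e => Bool.noConfusion (congrArg Prod.snd (hYinj e)))] at h; simp at h
  -- irregular multiplicities
  have hirr : ∀ θ : Q →* ℂˣ, sp.NontrivP θ → ¬ Regular hS sp θ → mu A θ = 0 := by
    intro θ hθN hθ
    have hθ1 : θ ≠ 1 := fun e => hθN (by rw [e]; rfl)
    set p := mu A θ with hp
    have hpB : mu B θ + p = 1 := by have := hsumAB θ; rw [if_neg hθ1] at this; omega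
    set f := indFun Q (lv θ - lv (ow.θ i₀)) with hf
    have hnreg : ∀ (i : ι) (d : twoStab a t), θ ≠ (ow.θ i).comp (conjQ hS d) := by
      intro i d e
      refine hθ ⟨hθN, fun e' he' => ?_⟩
      rw [e] at he'
      have h3 : Fixes hS (d⁻¹ * e' * d) (ow.θ i) := by
        refine MonoidHom.ext fun x => ?_
        have h := DFunLike.congr_fun he' (conjQ hS d⁻¹ x)
        simp only [MonoidHom.comp_apply, ← conjQ_mul, inv_mul_cancel, conjQ_one] at h
        exact h
      calc e' = d * (d⁻¹ * e' * d) * d⁻¹ := by group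
        _ = 1 := by rw [(ow.reg i).2 _ h3]; group
    have hnreg' : ∀ (i : ι) (d : twoStab a t), ow.θ i ≠ θ.comp (conjQ hS d) := by
      intro i d e
      refine hnreg i d⁻¹ (MonoidHom.ext fun x => ?_)
      rw [e]
      simp only [MonoidHom.comp_apply, ← conjQ_mul, inv_mul_cancel, conjQ_one]
    have hd : ∀ i j (d : twoStab a t), (ow.θ i = (ow.θ j).comp (conjQ hS d)) ↔ (i = j ∧ d = 1) := by
      intro i j d
      constructor
      · intro h
        obtain rfl := ow.orbit i j d h
        exact ⟨rfl, (ow.reg i).2 d h.symm⟩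
      · rintro ⟨rfl, rfl⟩
        exact MonoidHom.ext fun x => by rw [MonoidHom.comp_apply, conjQ_one]
    have hnorm : (classInner f f).re ≤ l + 1 := by
      rw [hf, classInner_ind_lv hS]
      simp only [hnreg, hnreg', hd, true_and, if_false, sub_zero, zero_sub, sub_neg_eq_add,
        Finset.sum_add_distrib, Finset.sum_ite_eq', Finset.mem_univ, if_true, Complex.add_re, Complex.one_re]
      have h1 : (Finset.univ.filter (fun d : twoStab a t => θ = θ.comp (conjQ hS d))).card ≤ l := by
        have := tw.card_stab_le sp hθN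
        rw [Nat.card_eq_fintype_card, Fintype.card_subtype] at this
        refine le_trans (le_of_eq (congrArg Finset.card (Finset.filter_congr fun d _ => ?_))) this
        exact eq_comm
      rw [Finset.sum_boole, Complex.natCast_re]
      have : ((Finset.univ.filter (fun d : twoStab a t => θ = θ.comp (conjQ hS d))).card : ℝ) ≤ (l : ℝ) :=
        Nat.cast_le.2 h1
      linarith
    have hfY : ∀ q : Fin (l - 1) × Bool, Complex.normSq (classInner f (Y q : G → ℂ)) = (p : ℝ) ^ 2 := by
      rintro ⟨j, b⟩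
      obtain ⟨C, hC⟩ : ∃ C, C = if b then A else B := ⟨_, rfl⟩
      have h : classInner f (Y (j, b) : G → ℂ) = ((mu C θ : ℂ) - (mu C (ow.θ i₀) : ℂ)) := by
        rw [hf, classInner_indFun_left _ _ (IsCharacter.isClassFunction (IsIrrCharacter.isCharacter (Y (j, b)).2)),
          classInner_sub_left]
        have e : ∀ η : Q →* ℂˣ, classInner (lv η) (fun q : Q => (Y (j, b) : G → ℂ) q) = (mu C η : ℂ) := fun η => by
          refine (classInner_comm_of_isCharacter (IsIrrCharacter.isCharacter (isIrrCharacter_linear η))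
            (IsCharacter.restrict (IsIrrCharacter.isCharacter (Y (j, b)).2) Q)).trans ?_
          rw [hC]
          exact htQ j _ η
        rw [e, e]
      rw [h]
      cases b
      · simp only [if_false, Bool.false_eq_true] at hC
        rw [hC, hregB i₀, show ((mu B θ : ℂ)) = 1 - (p : ℂ) by
          rw [eq_sub_iff_add_eq]; exact_mod_cast hpB,
          show (1 : ℂ) - (p : ℂ) - ((1 : ℕ) : ℂ) = -((p : ℝ) : ℂ) by push_cast; ring,
          Complex.normSq_neg, Complex.normSq_ofReal]
        ring
      · simp only [if_true] at hC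
        rw [hC, hregA i₀, ← hp, Nat.cast_zero, sub_zero, ← Complex.ofReal_natCast, Complex.normSq_ofReal]
        ring
    -- one member of the family occurs
    obtain ⟨i, hi⟩ : ∃ i, classInner f (ow.X i : G → ℂ) ≠ 0 := by
      by_contra hall
      push Not at hall
      have h0 : classInner f (ow.ε • ((ow.X i₀ : G → ℂ) - (ow.X i₁ : G → ℂ))) = 0 := by
        rw [classInner_smul_right, classInner_sub_right, hall, hall, sub_zero, mul_zero]
      rw [← ow.ind, hf, classInner_ind_lv hS] at h0
      simp only [hnreg, hd, true_and, hi01, false_and, if_false, sub_zero, zero_sub,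
        Finset.sum_neg_distrib, Finset.sum_ite_eq', Finset.mem_univ, if_true] at h0
      norm_num at h0
    obtain ⟨n, hn⟩ := IsGeneralizedCharacter.exists_classInner_int
      (IsGeneralizedCharacter.indFun Q (IsGeneralizedCharacter.sub
        (IsGeneralizedCharacter.of_isCharacter (IsIrrCharacter.isCharacter (isIrrCharacter_linear θ)))
        (IsGeneralizedCharacter.of_isCharacter (IsIrrCharacter.isCharacter (isIrrCharacter_linear (ow.θ i₀))))))
      (IsGeneralizedCharacter.of_isCharacter (IsIrrCharacter.isCharacter (ow.X i).2))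
    change classInner f (ow.X i : G → ℂ) = (n : ℂ) at hn
    have hX1 : (1 : ℝ) ≤ Complex.normSq (classInner f (ow.X i : G → ℂ)) := by
      have hn0 : n ≠ 0 := fun e => hi (by rw [hn, e, Int.cast_zero])
      rw [hn, ← Complex.ofReal_intCast, Complex.normSq_ofReal, ← Int.cast_mul, ← Int.cast_one, Int.cast_le]
      exact mul_self_pos.2 hn0
    let Z : Option (Fin (l - 1) × Bool) → IrrCharacter G := fun o => o.elim (ow.X i) Y
    have hZ : Function.Injective Z := by
      rintro (_ | q) (_ | q') h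
      · rfl
      · exact absurd h (hYX i q')
      · exact absurd h.symm (hYX i q)
      · exact congrArg some (hYinj h)
    have hb := bessel hZ (isClassFunction_indFun Q (lv θ - lv (ow.θ i₀)))
    rw [Fintype.sum_option] at hb
    simp only [Z, Option.elim_some, Option.elim_none, ← hf, hfY, Finset.sum_const, Finset.card_univ,
      Fintype.card_prod, Fintype.card_fin, Fintype.card_bool, nsmul_eq_mul] at hb
    by_contra hp0
    have hp1 : (1 : ℝ) ≤ (p : ℝ) := by exact_mod_cast Nat.pos_of_ne_zero hp0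
    have hl3' : (3 : ℝ) ≤ (l : ℝ) := by exact_mod_cast hl3
    rw [Nat.cast_mul, Nat.cast_sub (by omega : 1 ≤ l)] at hb
    push_cast at hb
    nlinarith [mul_le_mul_of_nonneg_left (show (1 : ℝ) ≤ (p : ℝ) ^ 2 by nlinarith) (show (0 : ℝ) ≤ (l : ℝ) - 1 by linarith)]
  -- multiplicity of the trivial character
  have htriv : ∀ C : IrrCharacter G, classInner (tw.F 1) (C : G → ℂ) = 1 → 1 ≤ mu C 1 := by
    intro C hC
    set H := stabilizer G a
    obtain ⟨m, hm'⟩ := IsCharacter.exists_decomp (IsCharacter.restrict (IsIrrCharacter.isCharacter C.2) H)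
    let φb : IrrCharacter H := ⟨_, isIrrCharacter_linear ((tw.φ ^ 1).comp (dPart hS))⟩
    have hmφ : (m φb : ℂ) = 1 := by
      have h1 := classInner_indFun_left H (φb : H → ℂ)
        (IsCharacter.isClassFunction (IsIrrCharacter.isCharacter C.2))
      rw [classInner_comm_of_isCharacter (IsIrrCharacter.isCharacter φb.2)
        (IsCharacter.restrict (IsIrrCharacter.isCharacter C.2) H), hm',
        classInner_combination (fun ψ => (m ψ : ℂ))] at h1
      exact h1.symm.trans hC
    let f : Q →* H := Subgroup.inclusion hS.le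
    have hn : ∀ ψ : IrrCharacter H, ∃ n : ℕ, classInner (fun q : Q => (ψ : H → ℂ) (f q)) (lv (1 : Q →* ℂˣ)) = n :=
      fun ψ => IsCharacter.exists_classInner_nat (IsCharacter.comp (IsIrrCharacter.isCharacter ψ.2) f)
        (IsIrrCharacter.isCharacter (isIrrCharacter_linear _))
    choose n hn using hn
    have hnφ : n φb = 1 := by
      have h1 := hn φb
      have e : (fun q : Q => (φb : H → ℂ) (f q)) = lv (1 : Q →* ℂˣ) := funext fun q => by
        show (((tw.φ ^ 1) (dPart hS (f q)) : ℂˣ) : ℂ) = ((1 : ℂˣ) : ℂ)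
        rw [dPart_of_mem_Q hS (f q) q.2, map_one]
      rw [e, classInner_lv, if_pos rfl] at h1
      exact_mod_cast h1.symm
    have h1 : (mu C 1 : ℂ) = ((∑ ψ, m ψ * n ψ : ℕ) : ℂ) := by
      rw [← hmu, show (fun q : Q => (C : G → ℂ) q) =
        ∑ ψ, (m ψ : ℂ) • (fun q : Q => (ψ : H → ℂ) (f q)) from funext fun q => by
          have := congrFun hm' (f q)
          simp only [Finset.sum_apply, Pi.smul_apply] at this ⊢
          exact this, classInner_sum_left]
      push_cast
      exact Finset.sum_congr rfl fun ψ _ => by rw [classInner_smul_left, hn]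
    have h3 : mu C 1 = ∑ ψ, m ψ * n ψ := by exact_mod_cast h1
    have h4 : m φb = 1 := by exact_mod_cast hmφ
    rw [h3]
    refine le_trans ?_ (Finset.single_le_sum (fun ψ _ => Nat.zero_le (m ψ * n ψ)) (Finset.mem_univ φb))
    rw [h4, hnφ]
  have hFA1 : classInner (tw.F 1) (A : G → ℂ) = 1 := by rw [hFA, if_pos rfl, if_neg hne.symm, add_zero]
  have hFB1 : classInner (tw.F 1) (B : G → ℂ) = 1 := by rw [hFA, if_neg hne, if_pos rfl, zero_add]
  refine ⟨A, ⟨fun e => ?_, ?_, fun θ hθ => ?_, ?_⟩⟩
  · -- not principal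
    have h := classInner_indFun_left (stabilizer G a) (fun h => lv (tw.φ ^ 1) (dPart hS h))
      (isClassFunction_lv (1 : G →* ℂˣ))
    rw [e] at hFA1
    have hp1 : (lv (1 : G →* ℂˣ)) = (principal G : G → ℂ) := funext fun g => rfl
    rw [hp1] at h
    have h1 : classInner (fun h => lv (tw.φ ^ 1) (dPart hS h))
        (lv (1 : stabilizer G a →* ℂˣ)) = 1 := h.symm.trans hFA1
    rw [show (fun h => lv (tw.φ ^ 1) (dPart hS h)) = lv ((tw.φ ^ 1).comp (dPart hS)) from rfl,
      classInner_lv, if_neg] at h1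
    · exact zero_ne_one h1
    · intro e1
      refine tw.φx ?_
      have := DFunLike.congr_fun e1 ⟨(tw.x : G), (Subgroup.mem_inf.1 tw.x.2).1⟩
      simpa [dPart_twoStab hS ⟨(tw.x : G), (Subgroup.mem_inf.1 tw.x.2).1⟩ tw.x.2] using this
  · have h := hsumAB 1
    rw [if_pos rfl] at h
    have := htriv A hFA1
    have := htriv B hFB1
    rw [hmu, show mu A 1 = 1 by omega, Nat.cast_one]
  · rw [hmu]
    by_cases hreg : Regular hS sp θ
    · obtain ⟨i, d, rfl⟩ := ow.exists_rep hreg
      rw [hconj, hregA, Nat.cast_zero]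
    · rw [hirr θ hθ hreg, Nat.cast_zero]
  · obtain ⟨dA, hdA⟩ := IsCharacter.exists_degree (IsIrrCharacter.isCharacter A.2)
    obtain ⟨dB, hdB⟩ := IsCharacter.exists_degree (IsIrrCharacter.isCharacter B.2)
    refine ⟨dA, hdA, Nat.pos_of_ne_zero fun e => IsIrrCharacter.one_ne_zero A.2 (by rw [hdA, e, Nat.cast_zero]), ?_⟩
    have h := congrFun hFAB 1
    rw [show tw.F 1 1 = ((Nat.card Q + 1 : ℕ) : ℂ) by rw [Twist.F, inflInd_one]; simp [lv],
      Pi.add_apply, hdA, hdB, ← Nat.cast_add, Nat.cast_inj] at h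
    have : dB ≠ 0 := fun e => IsIrrCharacter.one_ne_zero B.2 (by rw [hdB, e, Nat.cast_zero])
    omega

end Cfsg.Agent.RankOneChar
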