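import Cfsg.Agent.Lib.RankOneChar.TwistTransfer
import Cfsg.Agent.Lib.RankOneChar.Family

/-!
# Regular orbits in the presence of a twist
-/

set_option autoImplicit false
set_option linter.unusedSectionVars false
set_option linter.style.haveILetI false

namespace Cfsg.Agent.RankOneChar

open Cfsg Cfsg.Agent.RankOne MulAction

universe u v

variable {G : Type u} {Ω : Type v} [Group G] [Fintype G] [MulAction G Ω] {a : Ω} {t : G}
  {Q P T : Subgroup G} {hS : IsRankOneSetup G Ω a t Q} {l : ℕ} (tw : Twist hS l)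
include tw

/-- A subgroup of `D` meeting the kernel trivially has order at most `l`. -/
theorem Twist.card_le (St : Subgroup (twoStab a t)) (h : ∀ d ∈ St, tw.φ d = 1 → d = 1) :
    Nat.card St ≤ l := by
  haveI : NeZero l := ⟨tw.prime.ne_zero⟩
  let f : St → rootsOfUnity l ℂ := fun d => ⟨tw.φ d, (mem_rootsOfUnity l _).2 (tw.φl _)⟩
  refine (Nat.card_le_card_of_injective f fun d e hde => ?_).trans ?_
  · have h1 : tw.φ d = tw.φ e := congrArg Subtype.val hde
    refine Subtype.ext (inv_mul_eq_one.1 (h _ (mul_mem (inv_mem d.2) e.2) ?_))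
    rw [map_mul, map_inv, h1, inv_mul_cancel]
  · exact card_rootsOfUnity ℂ l

/-- The order of `D`. -/
theorem Twist.card_D : Nat.card (twoStab a t) = l * Nat.card tw.φ.ker := by
  haveI : NeZero l := ⟨tw.prime.ne_zero⟩
  rw [← Subgroup.card_mul_index tw.φ.ker, Subgroup.index_ker, mul_comm]
  congr 1
  refine le_antisymm ?_ ?_
  · refine (Nat.card_le_card_of_injective (fun z : tw.φ.range =>
      (⟨z, (mem_rootsOfUnity l _).2 (by obtain ⟨d, hd⟩ := z.2; rw [← hd]; exact tw.φl d)⟩ : rootsOfUnity l ℂ))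
      fun z w h => by
        have := congrArg Subtype.val h
        exact Subtype.ext this).trans ?_
    exact card_rootsOfUnity ℂ l
  · haveI : Finite tw.φ.range := Finite.of_surjective _ tw.φ.rangeRestrict_surjective
    have h : Subgroup.zpowers (tw.φ tw.x) ≤ tw.φ.range := Subgroup.zpowers_le.2 ⟨_, rfl⟩
    have := Subgroup.card_le_of_le h
    rwa [Nat.card_zpowers, tw.orderOf_φx] at this

/-- The kernel fixes no character that is non-trivial on the odd part. -/
theorem Twist.fixes_eq_one (sp : Split a Q P T) {θ : Q →* ℂˣ} (hθ : sp.NontrivP θ) {d : twoStab a t}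
    (hd : tw.φ d = 1) (h : Fixes hS d θ) : d = 1 := by
  by_contra hd1
  refine hθ (MonoidHom.ext fun x => eq_one_of_fixed hS sp.P_le (fun y hy => ?_) (fun y hy hc => ?_) h x)
  · simpa using sp.P_conj _ (inv_mem (Subgroup.mem_inf.1 d.2).1) y hy
  · refine tw.fpf d hd hd1 y (sp.P_le hy) (sp.odd_P.of_dvd_nat ?_) hc
    have := orderOf_dvd_natCard (⟨y, hy⟩ : P)
    rwa [← Subgroup.orderOf_coe] at this

/-- The stabiliser of a character non-trivial on the odd part has order at most `l`. -/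
theorem Twist.card_stab_le (sp : Split a Q P T) {θ : Q →* ℂˣ} (hθ : sp.NontrivP θ) :
    Nat.card {d : twoStab a t // Fixes hS d θ} ≤ l := by
  letI := linAction hS
  exact tw.card_le (stabilizer (twoStab a t) θ) fun d hd h => tw.fixes_eq_one sp hθ h hd

variable (h2 : ∃ x y : G, x ≠ 1 ∧ y ≠ 1 ∧ x ≠ y ∧ x * x = 1 ∧ y * y = 1 ∧ x * y = y * x)
include h2

/-- The group of inverted elements has order at least `2 l + 1`. -/
theorem Twist.card_invK_ge : 2 * l + 1 ≤ Nat.card (invK a t) := by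
  classical
  haveI := Fact.mk tw.prime
  set Z := Subgroup.zpowers tw.x with hZ
  letI : MulAction Z (invK a t) :=
    { smul := fun z k => ⟨((z : twoStab a t) : G) * k * ((z : twoStab a t) : G)⁻¹,
        conj_mem_invK hS h2 (z : twoStab a t).2 k.2⟩
      one_smul := fun k => Subtype.ext (show (1 : G) * (k : G) * (1 : G)⁻¹ = k by group)
      mul_smul := fun z w k => Subtype.ext (show ((z : twoStab a t) : G) * (w : twoStab a t) * (k : G) *
          (((z : twoStab a t) : G) * (w : twoStab a t))⁻¹ = (z : twoStab a t) * (((w : twoStab a t) : G) * k *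
          ((w : twoStab a t) : G)⁻¹) * ((z : twoStab a t) : G)⁻¹ by group) }
  have hox : orderOf tw.x = l := orderOf_eq_prime tw.xl fun h => tw.φx (by rw [h, map_one])
  have hZp : IsPGroup l Z := IsPGroup.of_card (n := 1) (by rw [hZ, Nat.card_zpowers, hox, pow_one])
  have h := hZp.card_modEq_card_fixedPoints (invK a t)
  have hfix : Nat.card (fixedPoints Z (invK a t)) = 1 := by
    rw [Nat.card_eq_one_iff_unique]
    refine ⟨⟨fun k k' => Subtype.ext (Subtype.ext ?_)⟩, ⟨⟨1, fun z => Subtype.ext (by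
      show ((z : twoStab a t) : G) * ((1 : invK a t) : G) * ((z : twoStab a t) : G)⁻¹ = ((1 : invK a t) : G)
      rw [OneMemClass.coe_one, mul_one, mul_inv_cancel])⟩⟩⟩
    have key : ∀ k : fixedPoints Z (invK a t), ((k : invK a t) : G) = 1 := fun k =>
      tw.kfree tw.x tw.φx _ (k : invK a t).2 (mul_inv_eq_iff_eq_mul.1
        (congrArg Subtype.val (k.2 ⟨tw.x, Subgroup.mem_zpowers _⟩)))
    rw [key, key]
  rw [hfix] at h
  obtain ⟨h3, hodd⟩ := three_le_card_invK hS h2
  have hd : l ∣ Nat.card (invK a t) - 1 := (Nat.modEq_iff_dvd' (by omega)).1 h.symm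
  obtain ⟨c, hc⟩ := hd
  obtain ⟨j, hj⟩ := hodd
  obtain ⟨i, hi⟩ := tw.odd
  rcases c with _ | _ | c
  · omega
  · rw [Nat.mul_one] at hc; omega
  · rw [Nat.mul_add, Nat.mul_add, Nat.mul_one] at hc; omega

/-- An inverted element fixing a non-trivial linear character is trivial. -/
theorem invK_fixes_eq_one {θ : Q →* ℂˣ} (hθ : θ ≠ 1) {k : twoStab a t} (hk : (k : G) ∈ invK a t)
    (h : Fixes hS k θ) : k = 1 := by
  by_contra hk1
  refine hθ (MonoidHom.ext fun x => ?_)
  have := eq_one_of_fixed hS le_rfl (fun y hy => by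
      simpa using hS.conj_mem _ (inv_mem (Subgroup.mem_inf.1 k.2).1) y hy)
    (fun y hy hc => invK_fpf hS h2 hk (fun e => hk1 (Subtype.ext e)) hy hc) h x
  exact this

/-- There are at least four regular orbits. -/
theorem Twist.exists_owners4 (sp : Split a Q P T) :
    ∃ (ι : Type u) (_ : Fintype ι), 4 ≤ Nat.card ι ∧ Nonempty (Owners hS sp ι) := by
  classical
  haveI : Finite (Q →* ℂˣ) := finite_hom
  haveI : Finite (P →* ℂˣ) := finite_hom
  haveI := sp.nilpotent_T hS h2
  haveI := sp.nontrivial_T hS h2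
  letI := linAction hS
  set K := invK a t with hK
  let j : K → twoStab a t := fun k => ⟨k, invK_le hS k.2⟩
  let XT := {θ : Q →* ℂˣ // θ.comp sp.inP = 1 ∧ θ ≠ 1}
  haveI : Fintype XT := Fintype.ofFinite _
  have hsmul : ∀ (d : twoStab a t) (θ : XT), (d • (θ : Q →* ℂˣ)).comp sp.inP = 1 ∧ d • (θ : Q →* ℂˣ) ≠ 1 := by
    intro d θ
    refine ⟨MonoidHom.ext fun x => ?_, fun e => θ.2.2 ?_⟩
    · have hx : (d : G)⁻¹ * x * d ∈ P := by
        simpa using sp.P_conj _ (inv_mem (Subgroup.mem_inf.1 d.2).1) _ x.2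
      exact DFunLike.congr_fun θ.2.1 ⟨_, hx⟩
    · rw [← inv_smul_smul d (θ : Q →* ℂˣ), e]
      exact MonoidHom.ext fun x => rfl
  -- inverted elements act freely
  have hKfree : ∀ (θ : XT) (k k' : K), j k • (θ : Q →* ℂˣ) = j k' • (θ : Q →* ℂˣ) → k = k' := by
    intro θ k k' h
    have h1 : Fixes hS ((j k')⁻¹ * j k) (θ : Q →* ℂˣ) :=
      show ((j k')⁻¹ * j k) • (θ : Q →* ℂˣ) = θ by rw [mul_smul, h, inv_smul_smul]
    have := invK_fixes_eq_one tw h2 θ.2.2 (k := (j k')⁻¹ * j k) (mul_mem (inv_mem k'.2) k.2) h1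
    exact Subtype.ext (congrArg Subtype.val (inv_mul_eq_one.1 this)).symm
  have hKX : Nat.card K ≤ Nat.card XT := by
    haveI : Finite (T →* ℂˣ) := finite_hom
    haveI := Finite.one_lt_card_iff_nontrivial.1 (one_lt_card_hom T)
    obtain ⟨τ, hτ⟩ := exists_ne (1 : T →* ℂˣ)
    let θ₀ : XT := ⟨τ.comp sp.snd, MonoidHom.ext fun x => by simp [sp.snd_inP],
      fun e => hτ (MonoidHom.ext fun y => by simpa [sp.snd_inT] using DFunLike.congr_fun e (sp.inT y))⟩
    exact Nat.card_le_card_of_injective (fun k : K => (⟨j k • (θ₀ : Q →* ℂˣ), hsmul _ θ₀⟩ : XT))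
      fun k k' h => hKfree θ₀ k k' (congrArg Subtype.val h)
  -- the regular characters over one character of the odd part
  have hgood : ∀ β : {β : P →* ℂˣ // β ≠ 1},
      Nat.card K - 1 ≤ Nat.card {θ : XT // Regular hS sp (β.1.comp sp.fst * (θ : Q →* ℂˣ))} := by
    intro β
    set g : XT → Prop := fun θ => Regular hS sp (β.1.comp sp.fst * (θ : Q →* ℂˣ))
    have hN : ∀ θ : XT, sp.NontrivP (β.1.comp sp.fst * (θ : Q →* ℂˣ)) := fun θ e => β.2 (MonoidHom.ext fun x => by
      have h1 := DFunLike.congr_fun e x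
      simp only [MonoidHom.comp_apply, MonoidHom.mul_apply, sp.fst_inP, MonoidHom.one_apply] at h1
      rwa [show (θ : Q →* ℂˣ) (sp.inP x) = 1 from DFunLike.congr_fun θ.2.1 x, mul_one] at h1)
    have hβN : sp.NontrivP (β.1.comp sp.fst) := fun e => β.2 (MonoidHom.ext fun x => by
      simpa [sp.fst_inP] using DFunLike.congr_fun e x)
    -- a fixed product has fixed factors
    have hfac : ∀ (θ : XT) (d : twoStab a t), Fixes hS d (β.1.comp sp.fst * (θ : Q →* ℂˣ)) →
        Fixes hS d (β.1.comp sp.fst) ∧ Fixes hS d (θ : Q →* ℂˣ) := by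
      intro θ d hd
      have hPd : ∀ x : P, ∃ y : P, conjQ hS d (sp.inP x) = sp.inP y := fun x =>
        ⟨⟨_, by simpa using sp.P_conj _ (inv_mem (Subgroup.mem_inf.1 d.2).1) _ x.2⟩, rfl⟩
      have hTd : ∀ x : T, ∃ y : T, conjQ hS d (sp.inT x) = sp.inT y := fun x =>
        ⟨⟨_, by simpa using sp.T_conj _ (inv_mem (Subgroup.mem_inf.1 d.2).1) _ x.2⟩, rfl⟩
      have hθT : Fixes hS d (θ : Q →* ℂˣ) := by
        refine MonoidHom.ext fun q => ?_
        rw [← sp.inP_mul_inT q, MonoidHom.comp_apply, map_mul, map_mul, map_mul]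
        obtain ⟨y, hy⟩ := hPd (sp.fst q)
        obtain ⟨y', hy'⟩ := hTd (sp.snd q)
        have h1 := DFunLike.congr_fun hd (sp.inT (sp.snd q))
        simp only [MonoidHom.comp_apply, MonoidHom.mul_apply, hy', sp.fst_inT, map_one, one_mul] at h1
        rw [hy, hy', h1, show (θ : Q →* ℂˣ) (sp.inP y) = 1 from DFunLike.congr_fun θ.2.1 y,
          show (θ : Q →* ℂˣ) (sp.inP (sp.fst q)) = 1 from DFunLike.congr_fun θ.2.1 _]
      refine ⟨MonoidHom.ext fun q => ?_, hθT⟩
      have h1 := DFunLike.congr_fun hd q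
      have h3 := DFunLike.congr_fun hθT q
      simp only [MonoidHom.comp_apply, MonoidHom.mul_apply] at h1 h3 ⊢
      rw [h3] at h1
      exact mul_right_cancel h1
    have hbad : Nat.card {θ : XT // ¬ g θ} * Nat.card K ≤ Nat.card XT := by
      by_cases hd0 : ∃ d₀ : twoStab a t, d₀ ≠ 1 ∧ Fixes hS d₀ (β.1.comp sp.fst)
      · obtain ⟨d₀, hd₁, hd₀⟩ := hd0
        have hd₀φ : tw.φ d₀ ≠ 1 := fun e => hd₁ (tw.fixes_eq_one sp hβN e hd₀)
        -- the stabiliser has prime order
        set St := stabilizer (twoStab a t) (β.1.comp sp.fst) with hSt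
        have hbf : ∀ θ : XT, ¬ g θ → Fixes hS d₀ (θ : Q →* ℂˣ) := by
          intro θ hθ
          obtain ⟨d, hd, hd1⟩ : ∃ d, Fixes hS d (β.1.comp sp.fst * (θ : Q →* ℂˣ)) ∧ d ≠ 1 := by
            by_contra hall
            push Not at hall
            exact hθ ⟨hN θ, hall⟩
          obtain ⟨hdβ, hdθ⟩ := hfac θ d hd
          have hle : Nat.card St ≤ l := tw.card_le St fun e he h => tw.fixes_eq_one sp hβN h he
          have hzle : Subgroup.zpowers d ≤ St := Subgroup.zpowers_le.2 hdβ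
          have hdφ : tw.φ d ≠ 1 := fun e => hd1 (tw.fixes_eq_one sp hβN e hdβ)
          haveI := Fact.mk tw.prime
          have hod : l ≤ Nat.card (Subgroup.zpowers d) := by
            rw [Nat.card_zpowers, ← orderOf_eq_prime (tw.φl d) hdφ]
            exact Nat.le_of_dvd (orderOf_pos d) (orderOf_map_dvd tw.φ d)
          have : d₀ ∈ Subgroup.zpowers d := by
            rw [Subgroup.eq_of_le_of_card_ge hzle (hle.trans hod)]
            exact hd₀
          exact (Subgroup.zpowers_le.2 (show d ∈ stabilizer (twoStab a t) (θ : Q →* ℂˣ) from hdθ)) this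
        rw [← Nat.card_prod]
        refine Nat.card_le_card_of_injective
          (fun p : {θ : XT // ¬ g θ} × K => (⟨j p.2 • (p.1.1 : Q →* ℂˣ), hsmul _ p.1.1⟩ : XT)) ?_
        rintro ⟨⟨θ, hθ⟩, k⟩ ⟨⟨θ', hθ'⟩, k'⟩ h
        have h' : j k • (θ : Q →* ℂˣ) = j k' • (θ' : Q →* ℂˣ) := congrArg Subtype.val h
        set e : twoStab a t := (j k')⁻¹ * j k with he
        have heθ : e • (θ : Q →* ℂˣ) = θ' := by rw [he, mul_smul, h', inv_smul_smul]
        have hf1 : d₀ • (θ : Q →* ℂˣ) = θ := hbf θ hθ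
        have hf2 : d₀ • (θ' : Q →* ℂˣ) = θ' := hbf θ' hθ'
        have hcomm : d₀⁻¹ * e⁻¹ * d₀ * e = 1 := by
          refine invK_fixes_eq_one tw h2 θ.2.2 ?_
            (show (d₀⁻¹ * e⁻¹ * d₀ * e) • (θ : Q →* ℂˣ) = θ by
              rw [mul_smul, heθ, mul_smul, hf2, mul_smul, ← heθ, inv_smul_smul, inv_smul_eq_iff, hf1])
          have heK : (e : G) ∈ K := mul_mem (inv_mem k'.2) k.2
          have h1 := conj_mem_invK hS h2 (inv_mem d₀.2) (inv_mem heK)
          rw [inv_inv] at h1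
          exact mul_mem h1 heK
        have he1 : (e : G) = 1 := by
          refine tw.kfree d₀ hd₀φ _ (mul_mem (inv_mem k'.2) k.2) ?_
          have h1 : d₀ * e = e * d₀ := by
            calc d₀ * e = e * d₀ * (d₀⁻¹ * e⁻¹ * d₀ * e) := by group
              _ = e * d₀ := by rw [hcomm, mul_one]
          exact congrArg Subtype.val h1
        have hkk : k = k' := Subtype.ext (congrArg Subtype.val (inv_mul_eq_one.1 (Subtype.ext he1 :
          (j k')⁻¹ * j k = 1))).symm
        subst hkk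
        exact Prod.ext (Subtype.ext (Subtype.ext (smul_left_cancel _ h'))) rfl
      · have h0 : Nat.card {θ : XT // ¬ g θ} = 0 := by
          refine Finite.card_eq_zero_iff.2 ⟨fun θ => θ.2 ⟨hN θ.1, fun d hd => ?_⟩⟩
          by_contra hd1
          exact hd0 ⟨d, hd1, (hfac θ.1 d hd).1⟩
        rw [h0, zero_mul]
        exact Nat.zero_le _
    have hsplit : Nat.card {θ : XT // g θ} + Nat.card {θ : XT // ¬ g θ} = Nat.card XT := by
      rw [← Nat.card_sum]
      exact Nat.card_congr (Equiv.sumCompl g)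
    obtain ⟨h3, -⟩ := three_le_card_invK hS h2
    rw [← hK] at h3
    by_contra hlt
    push Not at hlt
    have h4 : Nat.card {θ : XT // g θ} + 2 ≤ Nat.card K := by
      have : Nat.card {θ : XT // g θ} < Nat.card K - 1 := hlt
      omega
    rcases Nat.eq_zero_or_pos (Nat.card {θ : XT // ¬ g θ}) with h0 | h0
    · omega
    · have := Nat.mul_le_mul h0 (le_refl (Nat.card K))
      nlinarith
  -- the count
  haveI : Fintype {β : P →* ℂˣ // β ≠ 1} := Fintype.ofFinite _
  let R := {θ : Q →* ℂˣ // Regular hS sp θ}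
  have hcount : Nat.card {β : P →* ℂˣ // β ≠ 1} * (Nat.card K - 1) ≤ Nat.card R := by
    calc Nat.card {β : P →* ℂˣ // β ≠ 1} * (Nat.card K - 1)
        ≤ ∑ β : {β : P →* ℂˣ // β ≠ 1},
            Nat.card {θ : XT // Regular hS sp (β.1.comp sp.fst * (θ : Q →* ℂˣ))} := by
          rw [Nat.card_eq_fintype_card, ← Finset.card_univ, ← smul_eq_mul, ← Finset.sum_const]
          exact Finset.sum_le_sum fun β _ => hgood β
      _ = Nat.card (Σ β : {β : P →* ℂˣ // β ≠ 1},
            {θ : XT // Regular hS sp (β.1.comp sp.fst * (θ : Q →* ℂˣ))}) := Nat.card_sigma.symm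
      _ ≤ Nat.card R := by
          refine Nat.card_le_card_of_injective (fun p => (⟨p.1.1.comp sp.fst * (p.2.1 : Q →* ℂˣ), p.2.2⟩ : R)) ?_
          rintro ⟨β, θ, hθ⟩ ⟨β', θ', hθ'⟩ h
          have h' : β.1.comp sp.fst * (θ : Q →* ℂˣ) = β'.1.comp sp.fst * (θ' : Q →* ℂˣ) :=
            congrArg Subtype.val h
          obtain rfl : β = β' := Subtype.ext (MonoidHom.ext fun x => by
            have h1 := DFunLike.congr_fun h' (sp.inP x)
            simpa only [MonoidHom.mul_apply, MonoidHom.comp_apply, sp.fst_inP,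
              show (θ : Q →* ℂˣ) (sp.inP x) = 1 from DFunLike.congr_fun θ.2.1 x,
              show (θ' : Q →* ℂˣ) (sp.inP x) = 1 from DFunLike.congr_fun θ'.2.1 x, mul_one] using h1)
          obtain rfl : θ = θ' := Subtype.ext (mul_left_cancel h')
          rfl
  have hE := sp.hom_P_bound hS h2 (tw.φ.ker.map (twoStab a t).subtype) (Subgroup.map_subtype_le _)
    (fun d hd hd1 x hx hc => by
      obtain ⟨d', hd', rfl⟩ := hd
      refine tw.fpf d' hd' (fun e => hd1 (by rw [e]; rfl)) x (sp.P_le hx) (sp.odd_P.of_dvd_nat ?_) hc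
      have := orderOf_dvd_natCard (⟨x, hx⟩ : P)
      rwa [← Subgroup.orderOf_coe] at this)
  rw [Subgroup.card_map_of_injective (Subgroup.subtype_injective _)] at hE
  have hE1 : Nat.card {β : P →* ℂˣ // β ≠ 1} + 1 = Nat.card (P →* ℂˣ) := by
    haveI : Fintype (P →* ℂˣ) := Fintype.ofFinite _
    rw [Nat.card_eq_fintype_card, Fintype.card_subtype_compl, Fintype.card_subtype_eq,
      Nat.card_eq_fintype_card]
    exact Nat.sub_add_cancel (Fintype.card_pos)
  have hKl : 2 * l + 1 ≤ Nat.card K := tw.card_invK_ge h2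
  have hR : 4 * Nat.card (twoStab a t) ≤ Nat.card R := by
    rw [tw.card_D]
    calc 4 * (l * Nat.card tw.φ.ker) = (2 * Nat.card tw.φ.ker) * (2 * l) := by ring
      _ ≤ Nat.card {β : P →* ℂˣ // β ≠ 1} * (Nat.card K - 1) := Nat.mul_le_mul (by omega) (by omega)
      _ ≤ Nat.card R := hcount
  have hne : Nonempty R := Finite.card_pos_iff.1 (by
    have := Nat.card_pos (α := twoStab a t)
    omega)
  obtain ⟨⟨θ, hθ⟩⟩ := hne
  obtain ⟨ι, hι, ⟨ow⟩⟩ := exists_owners hS sp ⟨θ, hθ⟩
  refine ⟨ι, hι, ?_, ⟨ow⟩⟩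
  refine Nat.le_of_mul_le_mul_right (c := Nat.card (twoStab a t)) ?_ Nat.card_pos
  rw [ow.card_eq]
  exact hR

end Cfsg.Agent.RankOneChar
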