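import Cfsg.Agent.Lib.RankOneChar.Local
import Cfsg.Agent.Lib.RankOne.HPart
import Cfsg.Agent.Lib.Char.Galois

/-!
# Splittings `Q = P × T` and their linear characters
-/

set_option autoImplicit false
set_option linter.unusedSectionVars false
set_option linter.style.haveILetI false

namespace Cfsg.Agent.RankOneChar

open Cfsg Cfsg.Agent.Char Cfsg.Agent.RankOne MulAction

universe u v

variable {G : Type u} {Ω : Type v} [Group G] [MulAction G Ω]

/-- A splitting `Q = P × T` normalised by `G_a`, with `P` of odd order and `T` containing the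
involutions of `G_a`. -/
structure Split (a : Ω) (Q P T : Subgroup G) : Prop where
  P_le : P ≤ Q
  T_le : T ≤ Q
  comm : ∀ x ∈ P, ∀ y ∈ T, x * y = y * x
  disj : P ⊓ T = ⊥
  cover : ∀ q ∈ Q, ∃ x ∈ P, ∃ y ∈ T, q = x * y
  P_conj : ∀ h ∈ stabilizer G a, ∀ x ∈ P, h * x * h⁻¹ ∈ P
  T_conj : ∀ h ∈ stabilizer G a, ∀ x ∈ T, h * x * h⁻¹ ∈ T
  odd_P : Odd (Nat.card P)
  P_ne : P ≠ ⊥
  invol_mem : Cfsg.involutionsIn (stabilizer G a : Set G) ⊆ T

namespace Split

variable {a : Ω} {t : G} {Q P T : Subgroup G} (sp : Split a Q P T)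
include sp

theorem unique {x x' y y' : G} (hx : x ∈ P) (hx' : x' ∈ P) (hy : y ∈ T) (hy' : y' ∈ T)
    (h : x * y = x' * y') : x = x' ∧ y = y' := by
  have h1 : x'⁻¹ * x ∈ P ⊓ T := by
    refine Subgroup.mem_inf.2 ⟨mul_mem (inv_mem hx') hx, ?_⟩
    rw [show x'⁻¹ * x = y' * y⁻¹ by
      calc x'⁻¹ * x = x'⁻¹ * (x * y) * y⁻¹ := by group
        _ = y' * y⁻¹ := by rw [h]; group]
    exact mul_mem hy' (inv_mem hy)
  rw [sp.disj, Subgroup.mem_bot, inv_mul_eq_one] at h1
  exact ⟨h1.symm, mul_left_cancel (h1.symm ▸ h)⟩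

/-- The projection to `P`. -/
noncomputable def fst : Q →* P where
  toFun q := ⟨(sp.cover q q.2).choose, (sp.cover q q.2).choose_spec.1⟩
  map_one' := by
    obtain ⟨hy, he⟩ := (sp.cover _ (1 : Q).2).choose_spec.2.choose_spec
    exact Subtype.ext (sp.unique (one_mem _) (sp.cover _ (1 : Q).2).choose_spec.1 (one_mem _) hy
      (by rw [one_mul]; exact he)).1.symm
  map_mul' g h := by
    have hx := (sp.cover _ (g * h).2).choose_spec.1
    obtain ⟨hy, he⟩ := (sp.cover _ (g * h).2).choose_spec.2.choose_spec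
    have hx1 := (sp.cover _ g.2).choose_spec.1
    obtain ⟨hy1, he1⟩ := (sp.cover _ g.2).choose_spec.2.choose_spec
    have hx2 := (sp.cover _ h.2).choose_spec.1
    obtain ⟨hy2, he2⟩ := (sp.cover _ h.2).choose_spec.2.choose_spec
    refine Subtype.ext (sp.unique (mul_mem hx1 hx2) hx (mul_mem hy1 hy2) hy ?_).1.symm
    refine Eq.trans ?_ he
    rw [Subgroup.coe_mul]
    conv_rhs => rw [he1, he2]
    rw [mul_assoc, ← mul_assoc _ _ ((sp.cover _ h.2).choose_spec.2.choose),
      sp.comm _ hx2 _ hy1, mul_assoc, ← mul_assoc]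

theorem fst_spec (q : Q) : ((sp.fst q : P) : G)⁻¹ * (q : G) ∈ T := by
  obtain ⟨hy, he⟩ := (sp.cover _ q.2).choose_spec.2.choose_spec
  exact (inv_mul_eq_iff_eq_mul.2 he).symm ▸ hy

theorem fst_eq (q : Q) {x y : G} (hx : x ∈ P) (hy : y ∈ T) (h : (q : G) = x * y) :
    sp.fst q = ⟨x, hx⟩ :=
  Subtype.ext (sp.unique (sp.fst q).2 hx (sp.fst_spec q) hy (by rw [← h]; group)).1

/-- The projection to `T`. -/
noncomputable def snd : Q →* T where
  toFun q := ⟨((sp.fst q : P) : G)⁻¹ * (q : G), sp.fst_spec q⟩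
  map_one' := Subtype.ext (by simp)
  map_mul' g h := Subtype.ext (by
    have h1 := sp.comm _ (sp.fst h).2 _ (sp.fst_spec g)
    simp only [map_mul, Subgroup.coe_mul, mul_inv_rev]
    calc ((sp.fst h : P) : G)⁻¹ * ((sp.fst g : P) : G)⁻¹ * ((g : G) * h) =
        ((sp.fst h : P) : G)⁻¹ * ((((sp.fst g : P) : G)⁻¹ * g) * (sp.fst h : P)) *
          (((sp.fst h : P) : G)⁻¹ * h) := by group
      _ = _ := by rw [← h1]; group)

theorem decomp (q : Q) : (q : G) = (sp.fst q : P) * ((sp.snd q : T) : G) := by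
  show (q : G) = (sp.fst q : P) * (((sp.fst q : P) : G)⁻¹ * q)
  group

theorem fst_mul (x : P) (y : T) (h : (x : G) * y ∈ Q) : sp.fst ⟨_, h⟩ = x :=
  sp.fst_eq _ x.2 y.2 rfl

theorem snd_mul (x : P) (y : T) (h : (x : G) * y ∈ Q) : sp.snd ⟨_, h⟩ = y := by
  refine Subtype.ext ?_
  show ((sp.fst ⟨_, h⟩ : P) : G)⁻¹ * ((x : G) * y) = y
  rw [sp.fst_mul x y h]; group

/-- `Q ≅ P × T`. -/
noncomputable def equiv : Q ≃* P × T :=
  MulEquiv.ofBijective (sp.fst.prod sp.snd) ⟨fun p q h => Subtype.ext (by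
    obtain ⟨h1, h2⟩ := Prod.mk.inj h
    rw [sp.decomp p, sp.decomp q, h1, h2]),
    fun p => ⟨⟨(p.1 : G) * p.2, mul_mem (sp.P_le p.1.2) (sp.T_le p.2.2)⟩,
      Prod.ext (sp.fst_mul p.1 p.2 _) (sp.snd_mul p.1 p.2 _)⟩⟩

theorem card_eq : Nat.card Q = Nat.card P * Nat.card T := by
  rw [Nat.card_congr sp.equiv.toEquiv, Nat.card_prod]

/-- The inclusion of `P` in `Q`. -/
abbrev inP : P →* Q := Subgroup.inclusion sp.P_le

/-- The inclusion of `T` in `Q`. -/
abbrev inT : T →* Q := Subgroup.inclusion sp.T_le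

theorem fst_inP (x : P) : sp.fst (sp.inP x) = x :=
  sp.fst_eq _ x.2 (one_mem T) (mul_one _).symm

theorem fst_inT (y : T) : sp.fst (sp.inT y) = 1 :=
  sp.fst_eq _ (one_mem P) y.2 (one_mul _).symm

theorem snd_inT (y : T) : sp.snd (sp.inT y) = y := by
  refine Subtype.ext ?_
  show ((sp.fst (sp.inT y) : P) : G)⁻¹ * (y : G) = y
  rw [sp.fst_inT]; simp

theorem snd_inP (x : P) : sp.snd (sp.inP x) = 1 := by
  refine Subtype.ext ?_
  show ((sp.fst (sp.inP x) : P) : G)⁻¹ * (x : G) = 1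
  rw [sp.fst_inP]; simp

theorem inP_mul_inT (q : Q) : sp.inP (sp.fst q) * sp.inT (sp.snd q) = q :=
  Subtype.ext (sp.decomp q).symm

/-- Linear characters of `Q` are pairs of linear characters of the factors. -/
noncomputable def homEquiv : (Q →* ℂˣ) ≃ (P →* ℂˣ) × (T →* ℂˣ) where
  toFun θ := (θ.comp sp.inP, θ.comp sp.inT)
  invFun p := p.1.comp sp.fst * p.2.comp sp.snd
  left_inv θ := MonoidHom.ext fun q => by
    rw [MonoidHom.mul_apply, MonoidHom.comp_apply, MonoidHom.comp_apply, MonoidHom.comp_apply,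
      MonoidHom.comp_apply, ← map_mul, sp.inP_mul_inT]
  right_inv p := Prod.ext
    (MonoidHom.ext fun x => by simp [sp.fst_inP, sp.snd_inP])
    (MonoidHom.ext fun y => by simp [sp.fst_inT, sp.snd_inT])

theorem sum_Q [Fintype G] {A : Type*} [AddCommMonoid A] (F : G → A) :
    ∑ q : Q, F q = ∑ x : P, ∑ y : T, F (x * y) := by
  rw [← Fintype.sum_prod_type']
  refine Fintype.sum_equiv sp.equiv.toEquiv _ _ fun q => ?_
  show F q = F (((sp.fst q : P) : G) * ((sp.snd q : T) : G))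
  rw [← sp.decomp]

/-- `θ` is non-trivial on `P`. -/
def NontrivP (θ : Q →* ℂˣ) : Prop := θ.comp sp.inP ≠ 1

end Split

/-! ## Counting linear characters -/

theorem finite_hom {K : Type*} [Group K] [Finite K] : Finite (K →* ℂˣ) := by
  haveI : Fintype K := Fintype.ofFinite K
  exact Finite.of_injective (fun f => (⟨fun g => (f g : ℂ), isIrrCharacter_linear f⟩ : IrrCharacter K))
    fun f f' h => MonoidHom.ext fun g => Units.ext (congrFun (congrArg Subtype.val h) g)

theorem card_hom (K : Type u) [Group K] [Finite K] : Nat.card (K →* ℂˣ) = (commutator K).index := by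
  haveI : Finite (Abelianization K) := inferInstanceAs (Finite (K ⧸ commutator K))
  haveI : NeZero (Monoid.exponent (Abelianization K) : ℂ) :=
    ⟨Nat.cast_ne_zero.mpr Monoid.exponent_ne_zero_of_finite⟩
  rw [Nat.card_congr Abelianization.lift, CommGroup.card_monoidHom_of_hasEnoughRootsOfUnity]
  rfl

theorem one_lt_card_hom (K : Type u) [Group K] [Finite K] [Group.IsNilpotent K] [Nontrivial K] :
    1 < Nat.card (K →* ℂˣ) := by
  rw [card_hom]
  have h := IsSolvable.commutator_lt_top_of_nontrivial K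
  rcases Nat.lt_or_ge 1 (commutator K).index with h1 | h1
  · exact h1
  · have h0 : (commutator K).index ≠ 0 := Subgroup.index_ne_zero_of_finite
    exact absurd (Subgroup.index_eq_one.1 (by omega)) h.ne

/-- A fixed linear character is trivial on a subgroup without fixed points. -/
theorem eq_one_of_fixed {a : Ω} {t : G} {Q : Subgroup G} [Finite G]
    (hS : IsRankOneSetup G Ω a t Q) {M : Subgroup G} (hMQ : M ≤ Q) {d : twoStab a t}
    (hMd : ∀ x ∈ M, (d : G)⁻¹ * x * d ∈ M)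
    (hfpf : ∀ x ∈ M, (d : G) * x = x * d → x = 1) {θ : Q →* ℂˣ} (hθ : Fixes hS d θ) (x : M) :
    θ (Subgroup.inclusion hMQ x) = 1 := by
  let f : M → M := fun y => ⟨(y : G)⁻¹ * ((d : G)⁻¹ * y * d), mul_mem (inv_mem y.2) (hMd _ y.2)⟩
  have hf : Function.Injective f := fun y z h => by
    have h' : (y : G)⁻¹ * ((d : G)⁻¹ * y * d) = (z : G)⁻¹ * ((d : G)⁻¹ * z * d) := congrArg Subtype.val h
    refine Subtype.ext (mul_inv_eq_one.1 (hfpf _ (mul_mem z.2 (inv_mem y.2)) ?_)).symm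
    have h2 : (d : G)⁻¹ * ((z : G) * (y : G)⁻¹) * d = z * (y : G)⁻¹ := by
      calc (d : G)⁻¹ * ((z : G) * (y : G)⁻¹) * d
          = (z : G) * ((z : G)⁻¹ * ((d : G)⁻¹ * z * d)) * ((y : G)⁻¹ * ((d : G)⁻¹ * y * d))⁻¹ * (y : G)⁻¹ := by
            group
        _ = z * (y : G)⁻¹ := by rw [h']; group
    calc (d : G) * ((z : G) * (y : G)⁻¹) = d * ((d : G)⁻¹ * ((z : G) * (y : G)⁻¹) * d) := by rw [h2]
      _ = _ := by group
  obtain ⟨y, rfl⟩ := Finite.surjective_of_injective hf x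
  have e : Subgroup.inclusion hMQ (f y) =
      (Subgroup.inclusion hMQ y)⁻¹ * conjQ hS d (Subgroup.inclusion hMQ y) :=
    Subtype.ext (by simp [f])
  have h := DFunLike.congr_fun hθ (Subgroup.inclusion hMQ y)
  rw [MonoidHom.comp_apply] at h
  rw [e, map_mul, map_inv, h, inv_mul_cancel]

section
variable [Fintype G] {a : Ω} {t : G} {Q P T : Subgroup G}
variable (hS : IsRankOneSetup G Ω a t Q)
  (h2 : ∃ x y : G, x ≠ 1 ∧ y ≠ 1 ∧ x ≠ y ∧ x * x = 1 ∧ y * y = 1 ∧ x * y = y * x)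
include hS h2

/-- The order of the group of inverted elements is odd and at least three. -/
theorem three_le_card_invK : 3 ≤ Nat.card (invK a t) ∧ Odd (Nat.card (invK a t)) := by
  have hodd : Odd (Nat.card (invK a t)) :=
    hS.odd_card.of_dvd_nat (Subgroup.card_dvd_of_le (invK_le hS))
  refine ⟨?_, hodd⟩
  obtain ⟨k, hk, hk1⟩ := exists_inverted_ne_one hS h2
  have : 1 < Nat.card (invK a t) := by
    haveI : Nontrivial (invK a t) := ⟨⟨k, Subgroup.subset_closure hk⟩, 1, fun h => hk1 (congrArg Subtype.val h)⟩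
    exact Finite.one_lt_card
  obtain ⟨r, hr⟩ := hodd
  omega

/-- Inverted elements act fixed-point-freely on `Q`. -/
theorem invK_fpf {k : G} (hk : k ∈ invK a t) (hk1 : k ≠ 1) {x : G} (hx : x ∈ Q) (hc : k * x = x * k) :
    x = 1 := by
  have h := inverted_fpf hS ((mem_invK hS h2).1 hk) hk1
  rw [eq_bot_iff] at h
  exact Subgroup.mem_bot.1 (h (Subgroup.mem_inf.2
    ⟨hx, Subgroup.mem_centralizer_iff.2 fun y hy => by rw [Set.mem_singleton_iff.1 hy]; exact hc⟩))

variable (sp : Split a Q P T)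
include sp

theorem Split.nilpotent_P : Group.IsNilpotent P := by
  haveI := nilpotent_Q hS h2
  exact Group.nilpotent_of_mulEquiv (Subgroup.subgroupOfEquivOfLe sp.P_le)

theorem Split.nilpotent_T : Group.IsNilpotent T := by
  haveI := nilpotent_Q hS h2
  exact Group.nilpotent_of_mulEquiv (Subgroup.subgroupOfEquivOfLe sp.T_le)

theorem Split.nontrivial_T : Nontrivial T := by
  obtain ⟨s, -, hs, -, -⟩ := two_invol_fixing hS h2
  exact ⟨⟨s, sp.invol_mem hs⟩, 1, fun h => hs.2.1 (congrArg Subtype.val h)⟩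

/-- `|P / P'| ≥ 2 |D₀| + 1` for `D₀` acting fixed-point-freely on `P`. -/
theorem Split.hom_P_bound (D₀ : Subgroup G) (hD₀ : D₀ ≤ twoStab a t)
    (hfpf : ∀ d ∈ D₀, d ≠ 1 → ∀ x ∈ P, d * x = x * d → x = 1) :
    2 * Nat.card D₀ + 1 ≤ Nat.card (P →* ℂˣ) := by
  classical
  haveI := sp.nilpotent_P hS h2
  haveI : Nontrivial P := P.nontrivial_iff_ne_bot.2 sp.P_ne
  haveI : Finite (P →* ℂˣ) := finite_hom
  haveI : Finite (Q →* ℂˣ) := finite_hom
  letI := linAction hS
  letI : MulAction D₀ (Q →* ℂˣ) := MulAction.compHom _ (Subgroup.inclusion hD₀)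
  let X : SubMulAction D₀ (Q →* ℂˣ) :=
    { carrier := {θ | θ.comp sp.inT = 1 ∧ sp.NontrivP θ}
      smul_mem' := fun d θ h => by
        have hd := (Subgroup.mem_inf.1 (hD₀ d.2)).1
        refine ⟨MonoidHom.ext fun y => ?_, fun e => h.2 (MonoidHom.ext fun x => ?_)⟩
        · have hy : (d : G)⁻¹ * y * d ∈ T := by
            simpa using sp.T_conj _ (inv_mem hd) _ y.2
          exact DFunLike.congr_fun h.1 ⟨_, hy⟩
        · have hx : (d : G) * x * (d : G)⁻¹ ∈ P := sp.P_conj _ hd _ x.2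
          have h3 := DFunLike.congr_fun e (⟨_, hx⟩ : P)
          refine Eq.trans (congrArg θ (Subtype.ext ?_)) h3
          show (x : G) = (d : G)⁻¹ * ((d : G) * x * (d : G)⁻¹) * d
          group }
  have hdvd : Nat.card D₀ ∣ Nat.card X := card_dvd_of_free fun d θ hθ => by
    by_contra hd
    refine θ.2.2 (MonoidHom.ext fun x => eq_one_of_fixed hS sp.P_le (d := Subgroup.inclusion hD₀ d)
      (fun y hy => ?_) (fun y hy hc => hfpf d d.2 (fun e => hd (Subtype.ext e)) y hy hc)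
      (θ := (θ : Q →* ℂˣ)) (congrArg Subtype.val hθ) x)
    simpa using sp.P_conj _ (inv_mem (Subgroup.mem_inf.1 (hD₀ d.2)).1) y hy
  have hX : Nat.card X = Nat.card (P →* ℂˣ) - 1 := by
    haveI : Fintype (P →* ℂˣ) := Fintype.ofFinite _
    rw [Nat.card_congr (α := X) (β := {β : P →* ℂˣ // β ≠ 1})
        { toFun := fun θ => ⟨(θ : Q →* ℂˣ).comp sp.inP, θ.2.2⟩
          invFun := fun β => ⟨β.1.comp sp.fst,
            MonoidHom.ext fun y => by simp [sp.fst_inT],
            fun e => β.2 (MonoidHom.ext fun x => by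
              simpa [sp.fst_inP] using DFunLike.congr_fun e x)⟩
          left_inv := fun θ => Subtype.ext (MonoidHom.ext fun q => by
            conv_rhs => rw [← sp.inP_mul_inT q, map_mul]
            have := DFunLike.congr_fun θ.2.1 (sp.snd q)
            simp only [MonoidHom.comp_apply, MonoidHom.one_apply] at this ⊢
            rw [this, mul_one])
          right_inv := fun β => Subtype.ext (MonoidHom.ext fun x => by simp [sp.fst_inP]) },
      Nat.card_eq_fintype_card, Fintype.card_subtype_compl, Fintype.card_subtype_eq,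
      Nat.card_eq_fintype_card]
  have h1 := one_lt_card_hom P
  have hoddE : Odd (Nat.card (P →* ℂˣ)) := by
    rw [card_hom]; exact sp.odd_P.of_dvd_nat (Subgroup.index_dvd_card _)
  have hoddD : Odd (Nat.card D₀) := hS.odd_card.of_dvd_nat (Subgroup.card_dvd_of_le hD₀)
  rw [hX] at hdvd
  obtain ⟨c, hc⟩ := hdvd
  rcases c with _ | _ | c
  · omega
  · rw [Nat.mul_one] at hc
    obtain ⟨i, hi⟩ := hoddE; obtain ⟨j, hj⟩ := hoddD
    omega
  · rw [Nat.mul_add, Nat.mul_add, Nat.mul_one] at hc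
    omega

end

end Cfsg.Agent.RankOneChar
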