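import Cfsg.Agent.Lib.RankOneChar.Split
import Cfsg.Agent.Lib.RankOne.InvertedCyclic
import Cfsg.Agent.Lib.RankOne.FieldMaps
import Cfsg.Agent.Lib.Suzuki2.Coord
import Cfsg.Agent.Lib.RankOneW.Defs

/-!
# An element of `V` centralising only one involution of `G_a`

The elements of `V = C_D(t)` act on the involutions of `G_a` as field automorphisms.  If one of prime
order `l` fixes only one involution then `|V : W| = l`, and `D` has a linear character of order `l`
with kernel `K W`.
-/

set_option autoImplicit false
set_option linter.unusedSectionVars false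
set_option linter.style.haveILetI false

namespace Cfsg.Agent.RankOneChar

open Cfsg Cfsg.Agent.RankOne MulAction

universe u v

variable {G : Type u} {Ω : Type v} [Group G] [Fintype G] [MulAction G Ω] {a : Ω} {t : G} {Q : Subgroup G}
variable (hS : IsRankOneSetup G Ω a t Q)
  (h2 : ∃ x y : G, x ≠ 1 ∧ y ≠ 1 ∧ x ≠ y ∧ x * x = 1 ∧ y * y = 1 ∧ x * y = y * x)
include hS h2

/-- `|V : W|` has exponent `l`. -/
theorem pow_mem_ker {l : ℕ} (hl : l.Prime) {x : twoStab a t} (hxt : (x : G) * t = t * x)
    (hxl : x ^ l = 1)
    (huniq : ∀ s s' : G, s ∈ involutionsIn (stabilizer G a : Set G) →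
      s' ∈ involutionsIn (stabilizer G a : Set G) → (x : G) * s = s * x → (x : G) * s' = s' * x → s = s')
    (v : twoStab a t) (hv : (v : G) * t = t * v) : v ^ l ∈ (invAct hS h2).ker := by
  classical
  set E := invSub hS h2 with hE
  letI : CommGroup E :=
    { (inferInstance : Group E) with
      mul_comm := fun x y => Subtype.ext (invSub_comm hS h2 x.2 (invSub_le_Q hS h2 y.2)) }
  set φ := invAct hS h2
  set j : invK a t →* twoStab a t := Subgroup.inclusion (invK_le hS)
  set act : invK a t → Additive E → Additive E := fun k u => Additive.ofMul (φ (j k) (Additive.toMul u))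
  have hcoe : ∀ (k : invK a t) (u : Additive E),
      ((Additive.toMul (act k u) : E) : G) = (k : G) * (Additive.toMul u : E) * (k : G)⁻¹ := fun k u => rfl
  obtain ⟨⟨s, r⟩, ⟨hs, hr, heq⟩, -⟩ := structure_equation hS
  have hVs := centralizer_t_eq hS hs hr heq
  have hfixs : ∀ d : twoStab a t, (d : G) * t = t * d → (d : G) * s = s * d := by
    intro d hd
    have h1 : (d : G) ∈ twoStab a t ⊓ Subgroup.centralizer {s} :=
      hVs ▸ Subgroup.mem_inf.2 ⟨d.2, Subgroup.mem_centralizer_singleton_iff.2 hd⟩
    exact Subgroup.mem_centralizer_singleton_iff.1 (Subgroup.mem_inf.1 h1).2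
  set s₀ : Additive E := Additive.ofMul (⟨s, Or.inr hs⟩ : E)
  have hs₀ : s₀ ≠ 0 := fun h => hs.2.1 (congrArg (fun e : Additive E => ((Additive.toMul e : E) : G)) h)
  have hinv : ∀ u : Additive E, u ≠ 0 → ((Additive.toMul u : E) : G) ∈ involutionsIn (stabilizer G a : Set G) :=
    fun u hu => (Additive.toMul u).2.resolve_left fun h => hu (Additive.toMul.injective (Subtype.ext h))
  have htwo : ∀ u : Additive E, u + u = 0 := fun u => Additive.toMul.injective (Subtype.ext (by
    show ((Additive.toMul u : E) : G) * (Additive.toMul u : E) = 1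
    rcases (Additive.toMul u).2 with h | h
    · rw [h, one_mul]
    · exact h.2.2))
  have hKcomm : ∀ k k' : invK a t, k * k' = k' * k := fun k k' => Subtype.ext (by
    obtain ⟨k₀, -, hiff, -, -⟩ := exists_generator hS h2
    obtain ⟨i, hi⟩ := (hiff k).1 ((mem_invK hS h2).1 k.2)
    obtain ⟨i', hi'⟩ := (hiff k').1 ((mem_invK hS h2).1 k'.2)
    show (k : G) * k' = k' * k
    rw [← hi, ← hi', ← zpow_add, ← zpow_add, add_comm])
  obtain ⟨F, _, _, _, e, g, heg⟩ := Suzuki2.exists_field act
    (fun u => by show Additive.ofMul (φ (j 1) _) = u; rw [map_one, map_one]; rfl)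
    (fun k l u => by
      show Additive.ofMul (φ (j (k * l)) _) = Additive.ofMul (φ (j k) (φ (j l) _))
      rw [map_mul, map_mul]; rfl)
    (fun k u w => by
      show Additive.ofMul (φ (j k) (Additive.toMul u * Additive.toMul w)) = _
      rw [map_mul]; rfl)
    htwo hKcomm
    (fun u w hu hw => by
      obtain ⟨k, hk, hkuw⟩ := inverted_transitive hS (hinv u hu) (hinv w hw)
      refine ⟨⟨k, Subgroup.subset_closure hk⟩⁻¹, Additive.toMul.injective (Subtype.ext ?_), fun k' hk' => ?_⟩
      · rw [hcoe, Subgroup.coe_inv, inv_inv]; exact hkuw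
      · have h1 := congrArg (fun z : Additive E => ((Additive.toMul z : E) : G)) hk'
        simp only [hcoe] at h1
        rw [← hkuw] at h1
        have h2' : k'⁻¹.1⁻¹ * ((Additive.toMul u : E) : G) * k'⁻¹.1 =
            k⁻¹ * ((Additive.toMul u : E) : G) * k := by
          rw [Subgroup.coe_inv, inv_inv]; exact h1
        have h3 := inverted_conj_inj hS ((mem_involutionsIn hS).1 (hinv u hu)).1 (hinv u hu).1
          ((mem_invK hS h2).1 (inv_mem k'.2)) hk (by simpa using h2')
        refine Subtype.ext ?_
        show (k' : G) = k⁻¹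
        have e : ((k'⁻¹ : invK a t) : G) = k := h3
        rw [Subgroup.coe_inv] at e
        rw [← e, inv_inv])
    ⟨s₀, hs₀⟩
  set c : F := e s₀
  have hc : c ≠ 0 := fun h => hs₀ (e.injective (by rw [map_zero]; exact h))
  -- normalised coordinates
  let e' : Additive E ≃+ F := e.trans
    { toFun := fun z => z * c⁻¹
      invFun := fun z => z * c
      left_inv := fun z => by simp [mul_assoc, hc]
      right_inv := fun z => by simp [mul_assoc, hc]
      map_add' := fun z w => add_mul z w _ }
  have heg' : ∀ k u, e' (act k u) = (g k : F) * e' u := fun k u => by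
    show e (act k u) * c⁻¹ = (g k : F) * (e u * c⁻¹)
    rw [heg, mul_assoc]
  have hes : e' s₀ = 1 := mul_inv_cancel₀ hc
  let φA : twoStab a t → (Additive E ≃+ Additive E) := fun d => MulEquiv.toAdditive (φ d)
  let τ : twoStab a t → (F ≃+ F) := fun d => e'.symm.trans ((φA d).trans e')
  have hτ1 : ∀ d : twoStab a t, (d : G) * t = t * d → τ d 1 = 1 := by
    intro d hd
    show e' (Additive.ofMul (φ d (Additive.toMul (e'.symm 1)))) = 1
    rw [← hes, e'.symm_apply_apply]
    congr 1
    refine Additive.toMul.injective (Subtype.ext ?_)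
    show (d : G) * s * (d : G)⁻¹ = s
    rw [hfixs d hd, mul_inv_cancel_right]
  have hτg : ∀ (d : twoStab a t) (k : invK a t) (z : F),
      τ d ((g k : F) * z) = (g ⟨(d : G) * k * (d : G)⁻¹, conj_mem_invK hS h2 d.2 k.2⟩ : F) * τ d z := by
    intro d k z
    show e' (φA d (e'.symm _)) = (g _ : F) * e' (φA d (e'.symm z))
    rw [show e'.symm ((g k : F) * z) = act k (e'.symm z) from e'.injective (by
      rw [e'.apply_symm_apply, heg', e'.apply_symm_apply]), ← heg']
    congr 1
    refine Additive.toMul.injective (Subtype.ext ?_)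
    show (d : G) * ((k : G) * _ * (k : G)⁻¹) * (d : G)⁻¹ =
      ((d : G) * k * (d : G)⁻¹) * ((d : G) * _ * (d : G)⁻¹) * ((d : G) * k * (d : G)⁻¹)⁻¹
    group
  have hτmul : ∀ d : twoStab a t, (d : G) * t = t * d → ∀ y z, τ d (y * z) = τ d y * τ d z := by
    intro d hd y z
    rcases eq_or_ne y 0 with rfl | hy
    · simp
    obtain ⟨k, hk⟩ := g.surjective (Units.mk0 y hy)
    have hy' : y = (g k : F) := by rw [hk]; rfl
    rw [hy', hτg, ← mul_one (g k : F), hτg, hτ1 d hd, mul_one]
  let V : Subgroup (twoStab a t) :=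
    { carrier := {d | (d : G) * t = t * d}
      one_mem' := by show (1 : G) * t = t * 1; group
      mul_mem' := fun {p q} hp hq => by
        show (p : G) * q * t = t * (p * q)
        rw [mul_assoc, show (q : G) * t = t * q from hq, ← mul_assoc, show (p : G) * t = t * p from hp, mul_assoc]
      inv_mem' := fun {p} hp => (Commute.inv_left (show Commute (p : G) t from hp)) }
  let σ : V →* (F ≃+* F) :=
    { toFun := fun d => { τ d.1 with map_mul' := hτmul d.1 d.2 }
      map_one' := RingEquiv.ext fun z => by
        show e' (Additive.ofMul (φ (1 : twoStab a t) _)) = z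
        rw [map_one]
        exact e'.apply_symm_apply z
      map_mul' := fun p q => RingEquiv.ext fun z => by
        show e' (Additive.ofMul (φ ((p : twoStab a t) * q) _)) =
          e' (φA p.1 (e'.symm (e' (φA q.1 (e'.symm z)))))
        rw [e'.symm_apply_apply, map_mul]; rfl }
  have hker : ∀ d : V, σ d = 1 → (d : twoStab a t) ∈ φ.ker := by
    intro d hd
    refine MonoidHom.mem_ker.2 (MulEquiv.ext fun w => ?_)
    have h := DFunLike.congr_fun hd (e' (Additive.ofMul w))
    have h' : e' (φA d.1 (e'.symm (e' (Additive.ofMul w)))) = e' (Additive.ofMul w) := h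
    rw [e'.symm_apply_apply] at h'
    exact Additive.ofMul.injective (e'.injective h')
  set σx := σ ⟨x, hxt⟩ with hσx
  -- the fixed field of `σx` is the prime field
  have hfix : ∀ z : F, σx z = z → z = 0 ∨ z = 1 := by
    intro z hz
    by_cases hz0 : z = 0
    · exact Or.inl hz0
    refine Or.inr ?_
    set u := e'.symm z with hu
    have hu0 : u ≠ 0 := fun h => hz0 (by rw [← e'.apply_symm_apply z, ← hu, h, map_zero])
    have h1 : φA x u = u := e'.injective (hz.trans (e'.apply_symm_apply z).symm)
    have h2' : (x : G) * (Additive.toMul u : E) * (x : G)⁻¹ = (Additive.toMul u : E) :=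
      congrArg (fun w : Additive E => ((Additive.toMul w : E) : G)) h1
    have h3 := huniq _ s (hinv u hu0) hs (mul_inv_eq_iff_eq_mul.1 h2') (hfixs x hxt)
    have h4 : u = s₀ := Additive.toMul.injective (Subtype.ext h3)
    rw [← e'.apply_symm_apply z, ← hu, h4, hes]
  have hl1 : σx ^ l = 1 := by
    rw [hσx, ← map_pow, show (⟨x, hxt⟩ : V) ^ l = 1 from Subtype.ext hxl, map_one]
  set H := Subgroup.zpowers σx with hH
  haveI : Fintype H := Fintype.ofFinite _
  haveI : Fintype (FixedPoints.subfield H F) := Fintype.ofFinite _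
  have hsub : Fintype.card (FixedPoints.subfield H F) = 2 := by
    refine le_antisymm ?_ Fintype.one_lt_card
    have hinj : Function.Injective (fun z : FixedPoints.subfield H F => decide ((z : F) = 0)) := by
      intro y z h
      have h' : ((y : F) = 0) ↔ ((z : F) = 0) := decide_eq_decide.1 h
      have hy := hfix y (y.2 ⟨σx, Subgroup.mem_zpowers σx⟩)
      have hz := hfix z (z.2 ⟨σx, Subgroup.mem_zpowers σx⟩)
      refine Subtype.ext ?_
      rcases hy with hy | hy
      · rw [hy, h'.1 hy]
      · rcases hz with hz | hz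
        · rw [hy] at h'; exact absurd (h'.2 hz) one_ne_zero
        · rw [hy, hz]
    simpa using Fintype.card_le_of_injective _ hinj
  have hcardF : Fintype.card F = 2 ^ Nat.card H := by
    rw [Module.card_eq_pow_finrank (K := FixedPoints.subfield H F), hsub, FixedPoints.finrank_eq_card,
      Nat.card_eq_fintype_card]
  haveI : Fintype (F ≃+* F) := Fintype.ofFinite _
  have hcardH : Nat.card H = Nat.card (F ≃+* F) :=
    Nat.pow_right_injective le_rfl (hcardF.symm.trans FieldMaps.card_aut)
  have hσl : ∀ ρ : F ≃+* F, ρ ^ l = 1 := by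
    intro ρ
    obtain ⟨i, rfl⟩ : ρ ∈ H := by
      rw [Subgroup.eq_top_of_card_eq H hcardH]; trivial
    rw [← zpow_natCast, ← zpow_mul, mul_comm, zpow_mul, zpow_natCast, hl1, one_zpow]
  have h := hker (⟨v, hv⟩ ^ l) (by rw [map_pow]; exact hσl _)
  simpa using h

end Cfsg.Agent.RankOneChar
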