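import Cfsg.Agent.Lib.RankOneChar.Twist
import Cfsg.Agent.Lib.RankOne.SmallQCases

/-!
# The linear character of `D` given by a twisting element of `V`
-/

set_option autoImplicit false
set_option linter.unusedSectionVars false
set_option linter.style.haveILetI false

namespace Cfsg.Agent.RankOneChar

open Cfsg Cfsg.Agent.RankOne MulAction

universe u v

variable {G : Type u} {Ω : Type v} [Group G] [Fintype G] [MulAction G Ω] {a : Ω} {t : G} {Q : Subgroup G}

/-- A linear character `φ` of prime order `l` of `D` whose kernel acts fixed-point-freely on the elements of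
odd order of `Q`. -/
structure Twist (hS : IsRankOneSetup G Ω a t Q) (l : ℕ) where
  x : twoStab a t
  φ : twoStab a t →* ℂˣ
  prime : l.Prime
  odd : Odd l
  xt : (x : G) * t = t * x
  xl : x ^ l = 1
  φx : φ x ≠ 1
  φl : ∀ d, φ d ^ l = 1
  φt : ∀ d : twoStab a t, φ ⟨t * d * t⁻¹, conj_twoStab hS d.2⟩ = φ d
  φK : ∀ k : twoStab a t, (k : G) ∈ invK a t → φ k = 1
  kfree : ∀ d : twoStab a t, φ d ≠ 1 → ∀ k ∈ invK a t, (d : G) * k = k * d → k = 1
  fpf : ∀ d : twoStab a t, φ d = 1 → d ≠ 1 → ∀ y ∈ Q, Odd (orderOf y) → (d : G) * y = y * d → y = 1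

variable (hS : IsRankOneSetup G Ω a t Q)
  (h2 : ∃ x y : G, x ≠ 1 ∧ y ≠ 1 ∧ x ≠ y ∧ x * x = 1 ∧ y * y = 1 ∧ x * y = y * x)
include hS h2

theorem exists_twist {l : ℕ} (hl : l.Prime) {x : twoStab a t} (hxt : (x : G) * t = t * x)
    (hxl : x ^ l = 1) (hx1 : x ≠ 1)
    (huniq : ∀ s s' : G, s ∈ involutionsIn (stabilizer G a : Set G) →
      s' ∈ involutionsIn (stabilizer G a : Set G) → (x : G) * s = s * x → (x : G) * s' = s' * x → s = s')
    (hfix : ∀ e : twoStab a t, e ≠ 1 → (e : G) * t = t * e →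
      (∃ s s' : G, s ∈ involutionsIn (stabilizer G a : Set G) ∧
        s' ∈ involutionsIn (stabilizer G a : Set G) ∧ s ≠ s' ∧ (e : G) * s = s * e ∧ (e : G) * s' = s' * e) →
      ∀ y ∈ Q, Odd (orderOf y) → (e : G) * y = y * e → y = 1) :
    Nonempty (Twist hS l) := by
  classical
  haveI := Fact.mk hl
  set W := (invAct hS h2).ker with hW
  set π := QuotientGroup.mk' W with hπ
  obtain ⟨s₁, s₂, hs₁, hs₂, hne, -⟩ := two_invol_fixing hS h2
  have hox : orderOf x = l := orderOf_eq_prime hxl hx1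
  have hlodd : Odd l := hox ▸ hS.odd_card.of_dvd_nat (orderOf_dvd_natCard x)
  have hxW : x ∉ W := fun h => hne (huniq s₁ s₂ hs₁ hs₂
    ((mem_ker_invAct hS h2).1 h s₁ hs₁).symm ((mem_ker_invAct hS h2).1 h s₂ hs₂).symm)
  have hπx : π x ≠ 1 := fun h => hxW ((QuotientGroup.eq_one_iff x).1 h)
  obtain ⟨k₀, hk₀, hiff, -, v, hv, hgen⟩ := exists_generator hS h2
  -- the image of `V` is generated by that of `x`
  set v' : twoStab a t := ⟨v, (Subgroup.mem_inf.1 hv).1⟩ with hv'
  have hVle : twoStab a t ⊓ Subgroup.centralizer {t} ≤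
      ((Subgroup.zpowers (π v')).comap π).map (twoStab a t).subtype := by
    rw [← hgen]
    refine sup_le (fun g hg => ?_) ((Subgroup.closure_le _).2 (Set.singleton_subset_iff.2
      ⟨v', Subgroup.mem_zpowers _, rfl⟩))
    rw [centralizer_inverted_eq hS] at hg
    obtain ⟨h1, h3⟩ := Subgroup.mem_inf.1 hg
    refine ⟨⟨g, h1⟩, ?_, rfl⟩
    show π ⟨g, h1⟩ ∈ Subgroup.zpowers (π v')
    rw [show π ⟨g, h1⟩ = 1 from (QuotientGroup.eq_one_iff _).2
      ((mem_ker_invAct hS h2).2 (Subgroup.mem_centralizer_iff.1 h3))]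
    exact one_mem _
  have hVv : ∀ y : twoStab a t, (y : G) * t = t * y → π y ∈ Subgroup.zpowers (π v') := by
    intro y hy
    obtain ⟨y', hy', e⟩ := hVle (Subgroup.mem_inf.2 ⟨y.2, Subgroup.mem_centralizer_singleton_iff.2 hy⟩)
    rwa [Subtype.ext e] at hy'
  have hvl : π v' ^ l = 1 := by
    rw [← map_pow, hπ, QuotientGroup.mk'_apply, QuotientGroup.eq_one_iff]
    exact pow_mem_ker hS h2 hl hxt hxl huniq v'
      (Subgroup.mem_centralizer_singleton_iff.1 (Subgroup.mem_inf.1 hv).2)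
  have hzp : Subgroup.zpowers (π x) = Subgroup.zpowers (π v') := by
    refine Subgroup.eq_of_le_of_card_ge (Subgroup.zpowers_le.2 (hVv x hxt)) ?_
    rw [Nat.card_zpowers, Nat.card_zpowers,
      orderOf_eq_prime (x := π x) (by rw [← map_pow, hxl, map_one]) hπx]
    exact Nat.le_of_dvd hl.pos (orderOf_dvd_of_pow_eq_one hvl)
  have hVx : ∀ y : twoStab a t, (y : G) * t = t * y → ∃ i : ℕ, ∃ w ∈ W, y = x ^ i * w := by
    intro y hy
    obtain ⟨i, hi⟩ := mem_powers_iff_mem_zpowers.2 (hzp ▸ hVv y hy)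
    refine ⟨i, (x ^ i)⁻¹ * y, ?_, (mul_inv_cancel_left _ _).symm⟩
    rw [← QuotientGroup.eq]
    exact hi
  have hdec : ∀ d : twoStab a t, ∃ i : ℕ, ∃ w ∈ W, ∃ z : twoStab a t,
      (z : G) ∈ invK a t ∧ d = x ^ i * w * z := by
    intro d
    obtain ⟨y, z, hy, hyt, hz, e⟩ :=
      exists_decomp hS.mul_self hS.odd_card (fun x hx => conj_twoStab hS hx) d.2
    obtain ⟨i, w, hw, ey⟩ := hVx ⟨y, hy⟩
      (Subgroup.mem_centralizer_singleton_iff.1 (mem_centralizer_iff_conj.2 hyt))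
    exact ⟨i, w, hw, ⟨z, hz.1⟩, Subgroup.subset_closure hz, by rw [← ey]; exact Subtype.ext e⟩
  -- elements of `K` commuting with `t`
  have hKV : ∀ z : G, z ∈ invK a t → z * t = t * z → z = 1 := by
    intro z hz hzt
    have h := ((mem_invK hS h2).1 hz).2
    rw [← hzt, mul_inv_cancel_right, eq_inv_iff_mul_eq_one] at h
    by_contra hz1
    have ho : orderOf z = 2 := orderOf_eq_prime (by rw [pow_two]; exact h) hz1
    have hzD := invK_le hS hz
    have hodd : Odd (orderOf (⟨z, hzD⟩ : twoStab a t)) := hS.odd_card.of_dvd_nat (orderOf_dvd_natCard _)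
    rw [← Subgroup.orderOf_coe, ho] at hodd
    exact absurd hodd (by decide)
  set K₀ := (invK a t).subgroupOf (twoStab a t) with hK₀
  haveI hK₀n : K₀.Normal := ⟨fun z hz d => by
    rw [hK₀, Subgroup.mem_subgroupOf] at hz ⊢
    simpa using conj_mem_invK hS h2 d.2 hz⟩
  set D₀ := K₀ ⊔ W with hD₀
  have hmem0 : ∀ {d : twoStab a t}, d ∈ D₀ ↔ ∃ z ∈ K₀, ∃ w ∈ W, z * w = d :=
    Subgroup.mem_sup_of_normal_left
  have hV0 : ∀ y : twoStab a t, (y : G) * t = t * y → y ∈ D₀ → y ∈ W := by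
    intro y hy h
    obtain ⟨z, hz, w, hw, e⟩ := hmem0.1 h
    have hwt : (w : G) * t = t * w := (Subgroup.mem_centralizer_singleton_iff.1
      (mem_centralizer_iff_conj.2 (ker_invAct_comm hS h2 hw).1))
    have hz1 : z = 1 := by
      refine Subtype.ext (hKV z hz ?_)
      rw [show (z : G) = (y : G) * (w : G)⁻¹ by rw [← e]; simp, mul_assoc,
        show (w : G)⁻¹ * t = t * (w : G)⁻¹ from (Commute.inv_left (show Commute (w : G) t from hwt)),
        ← mul_assoc, hy, mul_assoc]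
    rw [← e, hz1, one_mul]
    exact hw
  haveI : (K₀ ⊔ W).Normal := inferInstance
  set ρ := QuotientGroup.mk' D₀ with hρ
  have hρd : ∀ d : twoStab a t, ∃ i : ℕ, ρ d = ρ x ^ i := by
    intro d
    obtain ⟨i, w, hw, z, hz, rfl⟩ := hdec d
    refine ⟨i, ?_⟩
    rw [map_mul, map_mul, map_pow, show ρ w = 1 from (QuotientGroup.eq_one_iff _).2 (le_sup_right (a := K₀) hw),
      show ρ z = 1 from (QuotientGroup.eq_one_iff _).2 (le_sup_left (b := W) (Subgroup.mem_subgroupOf.2 hz)),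
      mul_one, mul_one]
  letI : CommGroup (twoStab a t ⧸ D₀) :=
    { (inferInstance : Group (twoStab a t ⧸ D₀)) with
      mul_comm := fun p q => by
        obtain ⟨p, rfl⟩ := QuotientGroup.mk'_surjective D₀ p
        obtain ⟨q, rfl⟩ := QuotientGroup.mk'_surjective D₀ q
        obtain ⟨i, hi⟩ := hρd p
        obtain ⟨j, hj⟩ := hρd q
        rw [← hρ, hi, hj, ← pow_add, ← pow_add, add_comm] }
  obtain ⟨χ, hχ⟩ := CommGroup.exists_apply_ne_one_of_hasEnoughRootsOfUnity (twoStab a t ⧸ D₀) ℂ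
    (a := ρ x) (fun h => hxW (hV0 x hxt ((QuotientGroup.eq_one_iff x).1 h)))
  set φ : twoStab a t →* ℂˣ := χ.comp ρ with hφ
  have hφ0 : ∀ d ∈ D₀, φ d = 1 := fun d hd => by
    rw [hφ, MonoidHom.comp_apply, show ρ d = 1 from (QuotientGroup.eq_one_iff _).2 hd, map_one]
  have hφl : ∀ d, φ d ^ l = 1 := by
    intro d
    obtain ⟨i, hi⟩ := hρd d
    rw [hφ, MonoidHom.comp_apply, hi, ← map_pow, ← pow_mul, mul_comm, pow_mul, ← map_pow, hxl,
      map_one, one_pow, map_one]
  have hox' : orderOf (φ x) = l := orderOf_eq_prime (hφl x) hχ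
  have hker : ∀ d, φ d = 1 → d ∈ D₀ := by
    intro d hd
    obtain ⟨i, hi⟩ := hρd d
    refine (QuotientGroup.eq_one_iff d).1 ?_
    show ρ d = 1
    rw [hφ, MonoidHom.comp_apply, hi, map_pow] at hd
    obtain ⟨c, rfl⟩ := hox' ▸ orderOf_dvd_of_pow_eq_one (show φ x ^ i = 1 from hd)
    rw [hi, pow_mul, ← map_pow, hxl, map_one, one_pow]
  have hKcomm : ∀ p q : G, p ∈ invK a t → q ∈ invK a t → p * q = q * p := by
    intro p q hp hq
    obtain ⟨i, hi⟩ := (hiff p).1 ((mem_invK hS h2).1 hp)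
    obtain ⟨j, hj⟩ := (hiff q).1 ((mem_invK hS h2).1 hq)
    rw [← hi, ← hj, ← zpow_add, ← zpow_add, add_comm]
  refine ⟨⟨x, φ, hl, hlodd, hxt, hxl, hχ, hφl, fun d => ?_,
    fun k hk => hφ0 k (le_sup_left (b := W) (Subgroup.mem_subgroupOf.2 hk)), ?_, ?_⟩⟩
  · obtain ⟨i, w, hw, z, hz, rfl⟩ := hdec d
    have hx' : t * ((x : G) ^ i) * t⁻¹ = (x : G) ^ i := by
      rw [← (Commute.pow_left (show Commute (x : G) t from hxt) i).eq, mul_inv_cancel_right]
    have e : (⟨t * ((x ^ i * w * z : twoStab a t) : G) * t⁻¹, conj_twoStab hS (x ^ i * w * z).2⟩ :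
        twoStab a t) = x ^ i * w * z⁻¹ := by
      refine Subtype.ext ?_
      push_cast
      rw [show t * ((x : G) ^ i * w * z) * t⁻¹ =
        (t * (x : G) ^ i * t⁻¹) * (t * w * t⁻¹) * (t * z * t⁻¹) by group, hx',
        (ker_invAct_comm hS h2 hw).1, ((mem_invK hS h2).1 hz).2]
    simp only [e, map_mul, map_inv,
      hφ0 z (le_sup_left (b := W) (Subgroup.mem_subgroupOf.2 hz)), inv_one]
  · intro d hd k hk hdk
    obtain ⟨i, w, hw, z, hz, rfl⟩ := hdec d
    have hi : ¬ l ∣ i := fun ⟨c, hc⟩ => hd (by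
      rw [map_mul, map_mul, map_pow, hc, pow_mul, hφl, one_pow, hφ0 w (le_sup_right (a := K₀) hw),
        hφ0 z (le_sup_left (b := W) (Subgroup.mem_subgroupOf.2 hz)), mul_one, mul_one])
    have hkw : k * (w : G) = (w : G) * k := (ker_invAct_comm hS h2 hw).2 k ((mem_invK hS h2).1 hk)
    have hkxi : Commute k ((x : G) ^ i) := by
      have h1 : Commute k ((x : G) ^ i * w * z) := by
        have : ((x ^ i * w * z : twoStab a t) : G) = (x : G) ^ i * w * z := by push_cast; rfl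
        rw [← this]; exact hdk.symm
      have h3 : Commute k ((w : G) * z) :=
        (show Commute k (w : G) from hkw).mul_right (show Commute k (z : G) from hKcomm k z hk hz)
      have h4 := h1.mul_right h3.inv_right
      rwa [mul_assoc, mul_assoc, ← mul_assoc (w : G), mul_inv_cancel, mul_one] at h4
    obtain ⟨m, hm⟩ := exists_pow_eq_self_of_coprime (x := (x : G)) (n := i) (by
      rw [Subgroup.orderOf_coe, hox]
      exact (Nat.Coprime.symm ((Nat.Prime.coprime_iff_not_dvd hl).2 hi)))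
    have hkx : Commute k (x : G) := hm ▸ hkxi.pow_right m
    obtain ⟨⟨s, r⟩, ⟨hs, hr, heq⟩, -⟩ := structure_equation hS
    have hxs : (x : G) * s = s * x := by
      have h1 : (x : G) ∈ twoStab a t ⊓ Subgroup.centralizer {s} :=
        centralizer_t_eq hS hs hr heq ▸ Subgroup.mem_inf.2 ⟨x.2, Subgroup.mem_centralizer_singleton_iff.2 hxt⟩
      exact Subgroup.mem_centralizer_singleton_iff.1 (Subgroup.mem_inf.1 h1).2
    have hks : k⁻¹ * s * k ∈ involutionsIn (stabilizer G a : Set G) :=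
      conj_mem_involutionsIn hS hs (d := k) (MulAction.mem_stabilizer_iff.1
        (Subgroup.mem_inf.1 (invK_le hS hk)).1)
    have h5 := huniq _ _ hks hs
      (((hkx.symm.inv_right).mul_right (show Commute (x : G) s from hxs)).mul_right hkx.symm) hxs
    obtain ⟨hsi, hsa⟩ := (mem_involutionsIn hS).1 hs
    refine eq_one_of_inverted_commute hS ((mem_invK hS h2).1 hk) hsi hsa ?_
    calc k * s = k * (k⁻¹ * s * k) := by rw [h5]
      _ = s * k := by group
  · intro d hd hd1 y hy hodd hdy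
    by_contra hy1
    obtain ⟨c, hc, hct⟩ := conj_into_centralizer hS (X := {(d : G)}) (Set.singleton_subset_iff.2 d.2)
      (fix_three_of_centralized hS d.2 hy hy1 hdy)
    set c' : twoStab a t := ⟨c, hc⟩
    set e : twoStab a t := c' * d * c'⁻¹ with he
    have het : (e : G) * t = t * e := hct d rfl
    have heW : e ∈ W := hV0 e het ((inferInstance : (K₀ ⊔ W).Normal).conj_mem d (hker d hd) c')
    refine hy1 ?_
    have hcy : c * y * c⁻¹ ∈ Q := hS.conj_mem c (Subgroup.mem_inf.1 hc).1 y hy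
    have h := hfix e (fun h => hd1 (by
        rw [he, mul_inv_eq_one] at h
        exact mul_eq_left.1 h)) het
      ⟨s₁, s₂, hs₁, hs₂, hne, ((mem_ker_invAct hS h2).1 heW s₁ hs₁).symm,
        ((mem_ker_invAct hS h2).1 heW s₂ hs₂).symm⟩ _ hcy
      (by rw [← MulAut.conj_apply, MulEquiv.orderOf_eq]; exact hodd)
      (by
        show c * (d : G) * c⁻¹ * (c * y * c⁻¹) = c * y * c⁻¹ * (c * (d : G) * c⁻¹)
        rw [show c * (d : G) * c⁻¹ * (c * y * c⁻¹) = c * ((d : G) * y) * c⁻¹ by group, hdy]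
        group)
    rwa [mul_inv_eq_one, mul_eq_left] at h

end Cfsg.Agent.RankOneChar
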