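import Cfsg.Agent.Lib.RankOneChar.TwistData
import Mathlib.GroupTheory.Transfer

/-!
# The transfer of the linear character of `D`
-/

set_option autoImplicit false
set_option linter.unusedSectionVars false
set_option linter.style.haveILetI false

namespace Cfsg.Agent.RankOneChar

open Cfsg Cfsg.Agent.RankOne MulAction

universe u v

variable {G : Type u} {Ω : Type v} [Group G] [Fintype G] [MulAction G Ω] {a : Ω} {t : G} {Q : Subgroup G}
variable {hS : IsRankOneSetup G Ω a t Q} {l : ℕ} (tw : Twist hS l)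
include tw

theorem Twist.orderOf_φx : orderOf (tw.φ tw.x) = l :=
  haveI := Fact.mk tw.prime
  orderOf_eq_prime (tw.φl tw.x) tw.φx

/-- Without a proper normal subgroup containing `t` the prime `l` does not divide `|Q|`. -/
theorem Twist.not_dvd_card_Q (hno : ∀ L : Subgroup G, L.Normal → t ∈ L → L = ⊤) :
    ¬ l ∣ Nat.card Q := by
  classical
  intro hdvd
  set H := stabilizer G a with hH
  set ϕ : H →* ℂˣ := tw.φ.comp (dPart hS) with hϕ
  haveI := pretransitive hS
  set χ : G →* ℂˣ := MonoidHom.transfer ϕ with hχ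
  haveI : Fintype (G ⧸ H) := Fintype.ofFinite _
  have hl := tw.prime
  -- all values have order dividing `l`
  have hχl : ∀ g, χ g ^ l = 1 := by
    intro g
    haveI : Fintype (Quotient (orbitRel (Subgroup.zpowers g) (G ⧸ H))) := Fintype.ofFinite _
    rw [hχ, MonoidHom.transfer_eq_prod_quotient_orbitRel_zpowers_quot, ← Finset.prod_pow]
    exact Finset.prod_eq_one fun q _ => tw.φl _
  have hχt : χ t = 1 := by
    have h2 : χ t ^ 2 = 1 := by rw [← map_pow, pow_two, hS.mul_self, map_one]
    obtain ⟨c, hc⟩ := tw.odd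
    have := hχl t
    rw [hc, pow_succ, pow_mul, h2, one_pow, one_mul] at this
    exact this
  -- the value at `x`
  set x : G := (tw.x : G) with hx
  have hxl : x ^ l = 1 := by rw [hx, ← SubmonoidClass.coe_pow, tw.xl, OneMemClass.coe_one]
  haveI : Fintype (Quotient (orbitRel (Subgroup.zpowers x) (G ⧸ H))) := Fintype.ofFinite _
  obtain ⟨⟨s, r⟩, ⟨hs, hr, heq⟩, -⟩ := structure_equation hS
  have hxs : x * s = s * x := by
    have h1 : x ∈ twoStab a t ⊓ Subgroup.centralizer {s} := centralizer_t_eq hS hs hr heq ▸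
      Subgroup.mem_inf.2 ⟨tw.x.2, Subgroup.mem_centralizer_singleton_iff.2 tw.xt⟩
    exact Subgroup.mem_centralizer_singleton_iff.1 (Subgroup.mem_inf.1 h1).2
  obtain ⟨hsi, hsa⟩ := (mem_involutionsIn hS).1 hs
  have hXD : ({x} : Set G) ⊆ (twoStab a t : Set G) := Set.singleton_subset_iff.2 tw.x.2
  have h3 := fix_three_of_centralized hS tw.x.2 (invol_mem_Q hS hsi hsa) hsi.1 hxs
  set per : Quotient (orbitRel (Subgroup.zpowers x) (G ⧸ H)) → ℕ := fun q =>
    Function.minimalPeriod (x • ·) q.out with hper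
  have hperl : ∀ q, per q = 1 ∨ per q = l := fun q => by
    have h : Function.IsPeriodicPt (x • ·) l q.out := by
      rw [Function.IsPeriodicPt, Function.IsFixedPt, smul_iterate, hxl]
      exact one_smul G q.out
    exact (Nat.dvd_prime hl).1 h.minimalPeriod_dvd
  set J := Finset.univ.filter (fun q => per q = 1) with hJ
  have hsum : Nat.card Q + 1 = J.card + l * (Finset.univ.filter (fun q => ¬ per q = 1)).card := by
    have h := Subgroup.index_eq_sum_minimalPeriod H x
    rw [show H.index = Nat.card Q + 1 from (index_stabilizer_of_transitive G a).trans (card_points hS),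
      ← Finset.sum_filter_add_sum_filter_not Finset.univ (fun q => per q = 1)] at h
    rw [h, Finset.card_eq_sum_ones J, Finset.card_eq_sum_ones (Finset.univ.filter (fun q => ¬ per q = 1)),
      Finset.mul_sum, mul_one]
    congr 1
    · exact Finset.sum_congr rfl fun q hq => (Finset.mem_filter.1 hq).2
    · exact Finset.sum_congr rfl fun q hq => (hperl q).resolve_left (Finset.mem_filter.1 hq).2
  have hχx : χ x = tw.φ tw.x ^ J.card := by
    rw [hχ, MonoidHom.transfer_eq_prod_quotient_orbitRel_zpowers_quot,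
      ← Finset.prod_filter_mul_prod_filter_not Finset.univ (fun q => per q = 1),
      Finset.prod_eq_pow_card, Finset.prod_eq_one, mul_one]
    · intro q hq
      have hq' := (hperl q).resolve_left (Finset.mem_filter.1 hq).2
      refine (congrArg ϕ (Subtype.ext ?_)).trans (map_one ϕ)
      show q.out.out⁻¹ * x ^ per q * q.out.out = 1
      rw [hq', hxl]; group
    · intro q hq
      have hq1 : per q = 1 := (Finset.mem_filter.1 hq).2
      set g₀ := q.out.out with hg₀
      have hmem : g₀⁻¹ * x ^ per q * g₀ ∈ H := QuotientGroup.out_conj_pow_minimalPeriod_mem H x q.out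
      have hmem' : g₀⁻¹ * x * g₀ ∈ H := by rwa [hq1, pow_one] at hmem
      have hc : x • (g₀ • a) = g₀ • a := by
        have h := mem_stabilizer_iff.1 hmem'
        rw [mul_smul, mul_smul, inv_smul_eq_iff] at h
        exact h
      obtain ⟨h, hh, hha, -⟩ : ∃ h ∈ Subgroup.centralizer ({x} : Set G), h • (g₀ • a) = a ∧ True := by
        by_cases hg : g₀ • a = a
        · exact ⟨1, one_mem _, by rw [one_smul, hg], trivial⟩
        · obtain ⟨h, hh, h1, -⟩ := centralizer_two_transitive hS hXD h3 (b₁ := g₀ • a) (b₂ := a)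
            (c₁ := a) (c₂ := g₀ • a) (fun y hy => by
              rw [Set.mem_singleton_iff.1 hy]
              exact ⟨hc, (mem_twoStab hS tw.x.2).1, (mem_twoStab hS tw.x.2).1, hc⟩) hg (Ne.symm hg)
          exact ⟨h, hh, h1, trivial⟩
      have hm : h * g₀ ∈ H := by rw [hH, mem_stabilizer_iff, mul_smul, hha]
      have hxH : x ∈ H := (Subgroup.mem_inf.1 tw.x.2).1
      have e : (⟨g₀⁻¹ * x ^ per q * g₀, hmem⟩ : H) = (⟨h * g₀, hm⟩ : H)⁻¹ * ⟨x, hxH⟩ * ⟨h * g₀, hm⟩ := by
        refine Subtype.ext ?_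
        simp only [Subgroup.coe_mul, Subgroup.coe_inv, hq1, pow_one]
        calc g₀⁻¹ * x * g₀ = g₀⁻¹ * (h⁻¹ * (h * x)) * g₀ := by group
          _ = g₀⁻¹ * (h⁻¹ * (x * h)) * g₀ := by rw [Subgroup.mem_centralizer_singleton_iff.1 hh]
          _ = (h * g₀)⁻¹ * x * (h * g₀) := by group
      show ϕ ⟨g₀⁻¹ * x ^ per q * g₀, hmem⟩ = _
      rw [e, map_mul, map_mul, map_inv, mul_comm (ϕ _)⁻¹ _,
        mul_assoc, inv_mul_cancel, mul_one, hϕ, MonoidHom.comp_apply, dPart_twoStab hS ⟨x, hxH⟩ tw.x.2]
  have hker : t ∈ χ.ker := hχt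
  have htop := hno χ.ker inferInstance hker
  have h1 : χ x = 1 := MonoidHom.mem_ker.1 (htop ▸ Subgroup.mem_top x)
  rw [hχx] at h1
  have hd := tw.orderOf_φx ▸ orderOf_dvd_of_pow_eq_one h1
  have h4 : l ∣ Nat.card Q + 1 := hsum ▸ dvd_add hd (dvd_mul_right l _)
  exact hl.one_lt.ne' (Nat.dvd_one.1 ((Nat.dvd_add_right hdvd).1 h4))

end Cfsg.Agent.RankOneChar
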